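/-
Common definitions for the recognition of `PSp 2 F`, `F` a finite field of characteristic two with at least four elements.
-/
import Mathlib
import Cfsg.Prelude.Def_Classical

set_option autoImplicit false

namespace Cfsg.Agent.ClassTwo.Sp4Defs

open Matrix

/-- upper unitriangular matrix with entry `t` -/
def u {F : Type*} [Field F] (t : F) : SpecialLinearGroup (Fin 2) F :=
  ⟨!![1, t; 0, 1], by simp [Matrix.det_fin_two]⟩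

/-- lower unitriangular matrix with entry `t` -/
def v {F : Type*} [Field F] (t : F) : SpecialLinearGroup (Fin 2) F :=
  ⟨!![1, 0; t, 1], by simp [Matrix.det_fin_two]⟩

/-- the Weyl element -/
def w (F : Type*) [Field F] : SpecialLinearGroup (Fin 2) F :=
  ⟨!![0, 1; -1, 0], by simp [Matrix.det_fin_two]⟩

/-- the diagonal matrix `diag(l, l⁻¹)` -/
def d {F : Type*} [Field F] (l : Fˣ) : SpecialLinearGroup (Fin 2) F :=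
  ⟨!![(l : F), 0; 0, ((l⁻¹ : Fˣ) : F)], by simp [Matrix.det_fin_two]⟩

/-- `B₂`-relations in characteristic two, in the form of two copies of `SL(2,F)`. -/
structure Rel (F G : Type*) [Field F] [Group G] where
  ψa : SpecialLinearGroup (Fin 2) F →* G
  ψb : SpecialLinearGroup (Fin 2) F →* G
  braid : Commute (ψb (w F)) (ψa (w F) * ψb (w F) * ψa (w F))
  na_ab : ∀ t, Commute (ψa (w F)) (ψb (w F) * ψa (u t) * ψb (w F))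
  nb_aab : ∀ t, Commute (ψb (w F)) (ψa (w F) * ψb (u t) * ψa (w F))
  comm_a_b : ∀ t s, ψa (u t) * ψb (u s) = ψb (u s) * ψa (u t) *
    (ψb (w F) * ψa (u (t * s)) * ψb (w F)) * (ψa (w F) * ψb (u (t ^ 2 * s)) * ψa (w F))
  comm_a_ab : ∀ t s, Commute (ψa (u t)) (ψb (w F) * ψa (u s) * ψb (w F))
  comm_a_aab : ∀ t s, Commute (ψa (u t)) (ψa (w F) * ψb (u s) * ψa (w F))
  comm_b_ab : ∀ t s, Commute (ψb (u t)) (ψb (w F) * ψa (u s) * ψb (w F))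
  comm_b_aab : ∀ t s, Commute (ψb (u t)) (ψa (w F) * ψb (u s) * ψa (w F))

/-- Two copies of `SL(2,F)` with the root groups of a `B₂`-root datum (before the choice of coordinates, and without
the braid relation). -/
structure Frame (F G : Type*) [Field F] [Group G] where
  ψ₁ : SpecialLinearGroup (Fin 2) F →* G
  ψ₂ : SpecialLinearGroup (Fin 2) F →* G
  inj₁ : Function.Injective ψ₁
  inj₂ : Function.Injective ψ₂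
  Z₁ : Subgroup G
  Z₂ : Subgroup G
  cent₁ : ∀ g, ∀ z ∈ Z₁, Commute (ψ₁ g) z
  cent₂ : ∀ g, ∀ z ∈ Z₂, Commute (ψ₂ g) z
  mem_Z₁ : ∀ z, z ∈ Z₁ ↔ ∃ t : F, z = ψ₂ (w F) * ψ₁ (u t) * ψ₂ (w F)
  mem_Z₂ : ∀ z, z ∈ Z₂ ↔ ∃ t : F, z = ψ₁ (w F) * ψ₂ (u t) * ψ₁ (w F)
  disj : Z₁ ⊓ Z₂ = ⊥
  commZ : ∀ a ∈ Z₁, ∀ b ∈ Z₂, Commute a b
  comm_a_Z₂ : ∀ t, ∀ z ∈ Z₂, Commute (ψ₁ (u t)) z
  comm_b_Z₁ : ∀ t, ∀ z ∈ Z₁, Commute (ψ₂ (u t)) z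
  comm_ab : ∀ t s, ψ₁ (u t) * ψ₂ (u s) * (ψ₁ (u t))⁻¹ * (ψ₂ (u s))⁻¹ ∈ Z₁ ⊔ Z₂
  tori : ∀ l m, Commute (ψ₁ (d l)) (ψ₂ (d m))
  tor₁ : ∀ l t, ∃ t', ψ₁ (d l) * ψ₂ (u t) * (ψ₁ (d l))⁻¹ = ψ₂ (u t')
  tor₂ : ∀ l t, ∃ t', ψ₂ (d l) * ψ₁ (u t) * (ψ₂ (d l))⁻¹ = ψ₁ (u t')

/-- The pair of minimal parabolic subgroups of `Sp(4,F)`, as abstract subgroups of a group `G`. -/
structure Amalgam (F G : Type*) [Field F] [Group G] where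
  V₁ : Subgroup G
  V₂ : Subgroup G
  X₁ : Subgroup G
  X₂ : Subgroup G
  φ₁ : ↥X₁ →* SpecialLinearGroup (Fin 2) F
  φ₂ : ↥X₂ →* SpecialLinearGroup (Fin 2) F
  surj₁ : Function.Surjective φ₁
  surj₂ : Function.Surjective φ₂
  ker₁ : φ₁.ker = V₁.subgroupOf X₁
  ker₂ : φ₂.ker = V₂.subgroupOf X₂
  V₁_le_X₁ : V₁ ≤ X₁
  V₂_le_X₂ : V₂ ≤ X₂
  V₂_le_X₁ : V₂ ≤ X₁
  V₁_le_X₂ : V₁ ≤ X₂
  sq₁ : ∀ x ∈ V₁, x * x = 1
  sq₂ : ∀ x ∈ V₂, x * x = 1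
  card₁ : Nat.card ↥V₁ = Nat.card F ^ 3
  card₂ : Nat.card ↥V₂ = Nat.card F ^ 3
  card₁₂ : Nat.card ↥(V₁ ⊓ V₂) = Nat.card F ^ 2
  cent₁ : Subgroup.centralizer (V₁ : Set G) ≤ V₁
  cent₂ : Subgroup.centralizer (V₂ : Set G) ≤ V₂
  cardZ₁ : Nat.card ↥(V₁ ⊓ Subgroup.centralizer (X₁ : Set G)) = Nat.card F
  cardZ₂ : Nat.card ↥(V₂ ⊓ Subgroup.centralizer (X₂ : Set G)) = Nat.card F
  norm₁ : ∀ g ∈ Subgroup.normalizer (V₁ : Set G), ∀ x ∈ X₁, g * x * g⁻¹ ∈ X₁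
  norm₂ : ∀ g ∈ Subgroup.normalizer (V₂ : Set G), ∀ x ∈ X₂, g * x * g⁻¹ ∈ X₂
  odd₁ : Odd (X₁.relIndex (Subgroup.normalizer (V₁ : Set G)))
  odd₂ : Odd (X₂.relIndex (Subgroup.normalizer (V₂ : Set G)))

end Cfsg.Agent.ClassTwo.Sp4Defs
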