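import Mathlib
import Cfsg.Agent.ClassTwo.Sp4Defs
import Cfsg.Agent.TwoFusion.ElemCent2

/-!
# The braid relation in the recognition of `PSp 2 F`, `F` of characteristic two

`ψ` embeds `SL(2,F)` in `G`, `a` is an involution; `ψ' g = a * ψ g * a`.  The torus of `ψ'` commutes with the
image of `ψ`, and the centralizer of the torus of `ψ` contains no more than is visible.  Then `ψ w` and `ψ' w` commute.
-/

set_option autoImplicit false

namespace Cfsg.Agent.ClassTwo.Sp4Braid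

open Subgroup Cfsg.Agent.TwoFusion.ElemCent Cfsg.Agent.TwoFusion.ElemCent2
open Matrix Cfsg.Agent.ClassTwo.Sp4Defs

section SL2

variable {F : Type*} [Field F]

theorem u_mul (s t : F) : u s * u t = u (s + t) := by
  apply Subtype.ext
  show !![1, s; 0, 1] * !![1, t; 0, 1] = !![1, s + t; 0, 1]
  simp [add_comm]

theorem u_zero : u (0 : F) = 1 := by
  apply Subtype.ext
  show !![(1 : F), 0; 0, 1] = 1
  exact Matrix.one_fin_two.symm

theorem d_mul (l m : Fˣ) : (d l * d m : SpecialLinearGroup (Fin 2) F) = d (l * m) := by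
  apply Subtype.ext
  show !![(l : F), 0; 0, ((l⁻¹ : Fˣ) : F)] * !![(m : F), 0; 0, ((m⁻¹ : Fˣ) : F)] =
    !![((l * m : Fˣ) : F), 0; 0, (((l * m)⁻¹ : Fˣ) : F)]
  simp [mul_comm]

theorem d_one : (d 1 : SpecialLinearGroup (Fin 2) F) = 1 := by
  apply Subtype.ext
  show !![((1 : Fˣ) : F), 0; 0, (((1 : Fˣ)⁻¹ : Fˣ) : F)] = 1
  rw [Matrix.one_fin_two]
  simp

theorem d_inv (l : Fˣ) : (d l : SpecialLinearGroup (Fin 2) F)⁻¹ = d l⁻¹ := by
  rw [inv_eq_iff_mul_eq_one, d_mul, mul_inv_cancel, d_one]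

theorem d_injective {l m : Fˣ} (h : (d l : SpecialLinearGroup (Fin 2) F) = d m) : l = m := by
  apply Units.ext
  have := congrArg (fun g : SpecialLinearGroup (Fin 2) F => g.1 0 0) h
  simpa [d] using this

theorem u_injective {s t : F} (h : u s = u t) : s = t := by
  have := congrArg (fun g : SpecialLinearGroup (Fin 2) F => g.1 0 1) h
  simpa [u] using this

theorem w_conj_d (l : Fˣ) : w F * d l * (w F)⁻¹ = (d l)⁻¹ := by
  rw [d_inv, mul_inv_eq_iff_eq_mul]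
  apply Subtype.ext
  show !![(0 : F), 1; -1, 0] * !![(l : F), 0; 0, ((l⁻¹ : Fˣ) : F)] =
    !![((l⁻¹ : Fˣ) : F), 0; 0, (((l⁻¹)⁻¹ : Fˣ) : F)] * !![(0 : F), 1; -1, 0]
  simp

theorem d_conj_u (l : Fˣ) (t : F) : (d l : SpecialLinearGroup (Fin 2) F) * u t * (d l)⁻¹ = u (l ^ 2 * t) := by
  rw [mul_inv_eq_iff_eq_mul]
  apply Subtype.ext
  show !![(l : F), 0; 0, ((l⁻¹ : Fˣ) : F)] * !![1, t; 0, 1] =
    !![1, (l : F) ^ 2 * t; 0, 1] * !![(l : F), 0; 0, ((l⁻¹ : Fˣ) : F)]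
  have h : ((l⁻¹ : Fˣ) : F) * (l : F) = 1 := by simp
  simp only [Matrix.mul_fin_two]
  ext i j
  fin_cases i <;> fin_cases j <;> simp
  field_simp

theorem conj_u_not (s t : F) (hs : s ≠ 0) : w F * u s * (w F)⁻¹ ≠ u t := by
  intro h
  rw [mul_inv_eq_iff_eq_mul] at h
  have := congrArg (fun g : SpecialLinearGroup (Fin 2) F => g.1 1 1) h
  have h2 : (w F * u s).1 1 1 = -s := by
    show (!![(0 : F), 1; -1, 0] * !![1, s; 0, 1]) 1 1 = -s
    simp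
  have h3 : (u t * w F).1 1 1 = 0 := by
    show (!![1, t; 0, 1] * !![(0 : F), 1; -1, 0]) 1 1 = 0
    simp
  simp only [h2, h3] at this
  exact hs (by simpa using this)

variable [CharP F 2]

theorem u_mul_self (t : F) : u t * u t = 1 := by
  rw [u_mul, CharTwo.add_self_eq_zero, u_zero]

theorem w_mul_w : w F * w F = 1 := by
  apply Subtype.ext
  show !![(0 : F), 1; -1, 0] * !![(0 : F), 1; -1, 0] = 1
  rw [Matrix.one_fin_two]
  simp [CharTwo.neg_eq]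

/-- an element commuting with everything is trivial -/
theorem center_trivial (g : SpecialLinearGroup (Fin 2) F) (h : ∀ x, g * x = x * g) : g = 1 := by
  have h1 := h (u 1)
  have h2 := h (w F)
  have e1 : (g * u 1).1 = g.1 * !![1, 1; 0, 1] := rfl
  have e2 : (u 1 * g).1 = !![1, 1; 0, 1] * g.1 := rfl
  have e3 : (g * w F).1 = g.1 * !![(0 : F), 1; -1, 0] := rfl
  have e4 : (w F * g).1 = !![(0 : F), 1; -1, 0] * g.1 := rfl
  have f1 : g.1 * !![1, 1; 0, 1] = !![1, 1; 0, 1] * g.1 := by rw [← e1, ← e2, h1]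
  have f2 : g.1 * !![(0 : F), 1; -1, 0] = !![(0 : F), 1; -1, 0] * g.1 := by rw [← e3, ← e4, h2]
  have hdet : g.1.det = 1 := g.2
  rw [Matrix.det_fin_two] at hdet
  have a1 : g.1 1 0 = 0 := by
    have := congrFun (congrFun f1 0) 0
    simp [Matrix.mul_apply, Fin.sum_univ_two] at this
    exact this
  have a2 : g.1 0 0 = g.1 1 1 := by
    have := congrFun (congrFun f1 0) 1
    simp [Matrix.mul_apply, Fin.sum_univ_two] at this
    linear_combination this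
  have a3 : g.1 0 1 = 0 := by
    have := congrFun (congrFun f2 0) 0
    simp [Matrix.mul_apply, Fin.sum_univ_two, a1] at this
    exact this
  have a4 : g.1 1 1 = 1 := by
    rw [a1, a2] at hdet
    have : (g.1 1 1 - 1) * (g.1 1 1 - 1) = 0 := by
      have h2 : (2 : F) = 0 := CharTwo.two_eq_zero
      linear_combination hdet + (1 - g.1 1 1) * h2
    have := mul_self_eq_zero.mp this
    exact sub_eq_zero.mp this
  apply Subtype.ext
  show g.1 = 1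
  ext i j
  fin_cases i <;> fin_cases j <;> simp [a1, a2, a3, a4]

end SL2

section Braid

variable {F : Type*} [Field F] [CharP F 2] {G : Type*} [Group G]

/-- conjugation of a homomorphism by an involution -/
def conjHom (ψ : SpecialLinearGroup (Fin 2) F →* G) (a : G) (ha : a * a = 1) :
    SpecialLinearGroup (Fin 2) F →* G where
  toFun g := a * ψ g * a
  map_one' := by simp [ha]
  map_mul' g h := by
    rw [map_mul]
    calc a * (ψ g * ψ h) * a = a * ψ g * 1 * ψ h * a := by group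
      _ = a * ψ g * (a * a) * ψ h * a := by rw [ha]
      _ = _ := by group

theorem braid_of [Finite F] [Finite G] (hF : 4 ≤ Nat.card F)
    (ψ : SpecialLinearGroup (Fin 2) F →* G) (inj : Function.Injective ψ)
    (a : G) (ha : a * a = 1)
    (hi : ∀ (l : Fˣ) g, Commute (a * ψ (d l) * a) (ψ g))
    (hC : ∀ (x : G) (t : F), t ≠ 0 → Commute x (a * ψ (u t) * a) →
      (∀ l : Fˣ, Commute x (ψ (d l))) → ∃ (s : F) (l : Fˣ), x = a * ψ (u s) * a * ψ (d l)) :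
    Commute (ψ (w F)) (a * ψ (w F) * a) := by
  classical
  have hai : a⁻¹ = a := inv_eq_of_mul_eq_one_left ha
  -- the second copy
  set ψ' := conjHom ψ a ha with hψ'
  have hψ'a : ∀ g, ψ' g = a * ψ g * a := fun g => rfl
  have inj' : Function.Injective ψ' := by
    intro g h hgh
    apply inj
    have : a * ψ g * a = a * ψ h * a := hgh
    exact mul_left_cancel (mul_right_cancel this)
  have hcomm : ∀ (l : Fˣ) g, Commute (ψ' (d l)) (ψ g) := hi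
  have hcomm' : ∀ (l : Fˣ) g, Commute (ψ (d l)) (ψ' g) := by
    intro l g
    have h := hi l g
    unfold Commute SemiconjBy at h ⊢
    rw [hψ'a]
    calc ψ (d l) * (a * ψ g * a) = (a * a) * ψ (d l) * (a * ψ g * a) := by rw [ha, one_mul]
      _ = a * ((a * ψ (d l) * a) * ψ g) * a := by group
      _ = a * (ψ g * (a * ψ (d l) * a)) * a := by rw [h]
      _ = a * ψ g * a * ψ (d l) * (a * a) := by group
      _ = a * ψ g * a * ψ (d l) := by rw [ha, mul_one]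
  -- the centralizer of the torus
  let E : Subgroup G := Subgroup.centralizer (Set.range (fun l : Fˣ => ψ (d l)))
  have memE : ∀ x, x ∈ E ↔ ∀ l : Fˣ, Commute x (ψ (d l)) := by
    intro x
    rw [Subgroup.mem_centralizer_iff]
    constructor
    · intro h l
      exact (h _ ⟨l, rfl⟩).symm
    · rintro h _ ⟨l, rfl⟩
      exact (h l).symm
  have ψ'E : ∀ g, ψ' g ∈ E := fun g => (memE _).mpr (fun l => (hcomm' l g).symm)
  have dE : ∀ l : Fˣ, ψ (d l) ∈ E := by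
    intro l
    rw [memE]
    intro m
    show ψ (d l) * ψ (d m) = ψ (d m) * ψ (d l)
    rw [← map_mul, ← map_mul, d_mul, d_mul, mul_comm]
  let N : Subgroup E :=
    { carrier := {x | ∃ l : Fˣ, (x : G) = ψ (d l)}
      mul_mem' := by
        rintro x y ⟨l, hl⟩ ⟨m, hm⟩
        refine ⟨l * m, ?_⟩
        rw [Subgroup.coe_mul, hl, hm, ← map_mul, d_mul]
      one_mem' := ⟨1, by rw [d_one, map_one]; rfl⟩
      inv_mem' := by
        rintro x ⟨l, hl⟩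
        refine ⟨l⁻¹, ?_⟩
        rw [Subgroup.coe_inv, hl, ← map_inv, d_inv] }
  have memN : ∀ x : E, x ∈ N ↔ ∃ l : Fˣ, (x : G) = ψ (d l) := fun x => Iff.rfl
  have Ncentral : ∀ n ∈ N, ∀ x : E, x * n = n * x := by
    rintro n ⟨l, hl⟩ x
    apply Subtype.ext
    rw [Subgroup.coe_mul, Subgroup.coe_mul, hl]
    exact (memE _).mp x.2 l
  have NN : N.Normal := ⟨fun n hn g => by
    rw [Ncentral n hn g, mul_inv_cancel_right]; exact hn⟩
  have Nodd : ∀ n ∈ N, n * n = 1 → n = 1 := by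
    rintro n ⟨l, hl⟩ h
    have h2 : (n : G) * n = 1 := by rw [← Subgroup.coe_mul, h]; rfl
    rw [hl, ← map_mul, d_mul] at h2
    have h3 : d (l * l) = (1 : SpecialLinearGroup (Fin 2) F) := inj (by rw [h2, map_one])
    rw [← d_one] at h3
    have h4 := d_injective h3
    have h5 : l = 1 := by
      apply Units.ext
      have h6 : (l : F) * l = 1 := by rw [← Units.val_mul, h4]; rfl
      have h7 : ((l : F) - 1) * ((l : F) - 1) = 0 := by
        have h2 : (2 : F) = 0 := CharTwo.two_eq_zero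
        linear_combination h6 + (1 - (l : F)) * h2
      have := mul_self_eq_zero.mp h7
      simpa using sub_eq_zero.mp this
    apply Subtype.ext
    rw [hl, h5, d_one, map_one]
    rfl
  let Q := E ⧸ N
  let π : E →* Q := QuotientGroup.mk' N
  have hπ : ∀ x y : E, π x = π y ↔ x⁻¹ * y ∈ N := fun x y => QuotientGroup.eq
  let ψE : SpecialLinearGroup (Fin 2) F →* E := ψ'.codRestrict E ψ'E
  have ψEval : ∀ g, (ψE g : G) = ψ' g := fun g => rfl
  let ρ : SpecialLinearGroup (Fin 2) F →* Q := π.comp ψE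
  have hρ : ∀ g, ρ g = π (ψE g) := fun g => rfl
  have ρinj : Function.Injective ρ := by
    rw [injective_iff_map_eq_one]
    intro g hg
    apply center_trivial
    intro x
    have h1 : ψE g ∈ N := (QuotientGroup.eq_one_iff _).mp hg
    have h2 := Ncentral _ h1 (ψE x)
    have h3 : ψ' x * ψ' g = ψ' g * ψ' x := congrArg Subtype.val h2
    rw [← map_mul, ← map_mul] at h3
    exact (inj' h3).symm
  -- the Sylow subgroup
  let P : Subgroup Q :=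
    { carrier := {x | ∃ t : F, x = ρ (u t)}
      mul_mem' := by
        rintro x y ⟨s, rfl⟩ ⟨t, rfl⟩
        exact ⟨s + t, by rw [← map_mul, u_mul]⟩
      one_mem' := ⟨0, by rw [u_zero, map_one]⟩
      inv_mem' := by
        rintro x ⟨s, rfl⟩
        exact ⟨s, by rw [inv_eq_iff_mul_eq_one, ← map_mul, u_mul_self, map_one]⟩ }
  have memP : ∀ x : Q, x ∈ P ↔ ∃ t : F, x = ρ (u t) := fun x => Iff.rfl
  have Psq : ∀ x ∈ P, x * x = 1 := by
    rintro x ⟨t, rfl⟩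
    rw [← map_mul, u_mul_self, map_one]
  have Pcomm : ∀ x ∈ P, ∀ y ∈ P, x * y = y * x := by
    rintro x ⟨s, rfl⟩ y ⟨t, rfl⟩
    rw [← map_mul, ← map_mul, u_mul, u_mul, add_comm]
  have Pcard : Nat.card P = Nat.card F := by
    apply Nat.card_congr
    exact (Equiv.ofBijective (fun t : F => (⟨ρ (u t), t, rfl⟩ : P))
      ⟨fun s t h => u_injective (ρinj (congrArg Subtype.val h)),
       fun x => by obtain ⟨x, t, rfl⟩ := x; exact ⟨t, rfl⟩⟩).symm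
  -- centralizer of a nontrivial element of P
  have Pcent : ∀ z ∈ P, z ≠ 1 → ∀ q : Q, z * q = q * z → q ∈ P := by
    rintro z ⟨t, rfl⟩ hz q hq
    obtain ⟨e, rfl⟩ := QuotientGroup.mk'_surjective N q
    have ht : t ≠ 0 := by
      rintro rfl
      exact hz (by rw [u_zero, map_one])
    have h1 : π (ψE (u t) * e) = π (e * ψE (u t)) := by
      rw [map_mul, map_mul]; exact hq
    rw [hπ] at h1
    set z := ψE (u t) with hzdef
    set n := (z * e)⁻¹ * (e * z) with hn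
    have hzz : z * z = 1 := by rw [hzdef, ← map_mul, u_mul_self, map_one]
    have h2 : e * z = z * e * n := by rw [hn]; group
    have h3 : n * n = 1 := by
      have hc := Ncentral n h1
      have h4 : e = e * (n * n) := by
        calc e = e * (z * z) := by rw [hzz, mul_one]
          _ = (e * z) * z := by group
          _ = z * e * n * z := by rw [h2]
          _ = z * e * (z * n) := by rw [hc z]; group
          _ = z * (e * z) * n := by group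
          _ = z * (z * e * n) * n := by rw [h2]
          _ = (z * z) * e * (n * n) := by group
          _ = e * (n * n) := by rw [hzz, one_mul]
      have := mul_left_cancel (a := e) (b := 1) (c := n * n) (by rw [mul_one]; exact h4)
      exact this.symm
    have h4 := Nodd n h1 h3
    rw [h4, mul_one] at h2
    have h5 : Commute (e : G) (a * ψ (u t) * a) := congrArg Subtype.val h2
    obtain ⟨s, l, hsl⟩ := hC e t ht h5 ((memE _).mp e.2)
    refine ⟨s, ?_⟩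
    show π e = π (ψE (u s))
    symm
    rw [hπ, memN]
    refine ⟨l, ?_⟩
    rw [Subgroup.coe_mul, Subgroup.coe_inv, hsl, ψEval, hψ'a]
    group
  have Pone : ∃ z ∈ P, z ≠ 1 := by
    refine ⟨ρ (u 1), ⟨1, rfl⟩, fun h => ?_⟩
    have := ρinj (h.trans (map_one ρ).symm)
    rw [← u_zero] at this
    exact one_ne_zero (u_injective this)
  have P2 : IsPGroup 2 P := by
    intro x
    refine ⟨1, ?_⟩
    apply Subtype.ext
    rw [pow_one, pow_two]
    exact Psq x.1 x.2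
  obtain ⟨T, hT⟩ := P2.exists_le_sylow
  have hTP : (T : Subgroup Q) = P := by
    apply le_antisymm _ hT
    have hTn : Nontrivial (T : Subgroup Q) := by
      obtain ⟨z, hz, hz1⟩ := Pone
      exact ⟨⟨⟨z, hT hz⟩, 1, fun h => hz1 (congrArg Subtype.val h)⟩⟩
    have hcn := T.isPGroup'.center_nontrivial
    obtain ⟨c, hc⟩ := exists_ne (1 : Subgroup.center (T : Subgroup Q))
    have hcc := Subgroup.mem_center_iff.mp c.2
    have hc1 : ((c : (T : Subgroup Q)) : Q) ≠ 1 := by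
      intro h
      apply hc
      apply Subtype.ext
      apply Subtype.ext
      exact h
    obtain ⟨z, hz, hz1⟩ := Pone
    have hcP : ((c : (T : Subgroup Q)) : Q) ∈ P := by
      apply Pcent z hz hz1
      exact congrArg Subtype.val (hcc ⟨z, hT hz⟩)
    intro x hx
    apply Pcent _ hcP hc1
    exact (congrArg Subtype.val (hcc ⟨x, hx⟩)).symm
  have hQfin : Finite Q := inferInstance
  have hnc : ¬ IsCyclic (T : Subgroup Q) := by
    rw [hTP]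
    intro hcyc
    obtain ⟨g, hg⟩ := hcyc
    have h1 : orderOf g ∣ 2 := by
      apply orderOf_dvd_of_pow_eq_one
      apply Subtype.ext
      rw [pow_two]
      exact Psq g.1 g.2
    have h2 : orderOf g = Nat.card P := orderOf_eq_card_of_forall_mem_zpowers hg
    have h3 := Nat.le_of_dvd (by norm_num) h1
    omega
  have EQ : EC Q := by
    intro t ht
    have ht2 : t ^ 2 = 1 := sq_one_of_order ht
    have ht1 : t ≠ 1 := ne_one_of_order ht
    obtain ⟨R, hR⟩ := (IsPGroup.of_card (p := 2) (n := 1) (G := Subgroup.zpowers t)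
      (by rw [Nat.card_zpowers, ht, pow_one])).exists_le_sylow
    obtain ⟨g, hg⟩ := MulAction.exists_smul_eq Q R T
    have h1 : g * t * g⁻¹ ∈ P := by
      rw [← hTP, ← hg]
      exact ⟨t, hR (Subgroup.mem_zpowers t), rfl⟩
    have h2 : g * t * g⁻¹ ≠ 1 := by
      intro h
      apply ht1
      have : t = g⁻¹ * (g * t * g⁻¹) * g := by group
      rw [this, h]; group
    have h3 : ∀ c ∈ Subgroup.centralizer ({t} : Set Q), g * c * g⁻¹ ∈ P := by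
      intro c hc
      rw [Subgroup.mem_centralizer_singleton_iff] at hc
      apply Pcent _ h1 h2
      calc g * t * g⁻¹ * (g * c * g⁻¹) = g * (t * c) * g⁻¹ := by group
        _ = g * (c * t) * g⁻¹ := by rw [hc]
        _ = _ := by group
    constructor
    · refine ⟨⟨fun x y => ?_⟩⟩
      apply Subtype.ext
      show (x : Q) * y = y * x
      have h4 := Pcomm _ (h3 _ x.2) _ (h3 _ y.2)
      have h5 : g * ((x : Q) * y) * g⁻¹ = g * ((y : Q) * x) * g⁻¹ := by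
        calc g * ((x : Q) * y) * g⁻¹ = g * x * g⁻¹ * (g * y * g⁻¹) := by group
          _ = _ := by rw [h4]; group
      exact mul_left_cancel (mul_right_cancel h5)
    · intro c hc
      have h4 := Psq _ (h3 c hc)
      have h5 : g * (c ^ 2) * g⁻¹ = g * 1 * g⁻¹ := by
        rw [pow_two]
        calc g * (c * c) * g⁻¹ = g * c * g⁻¹ * (g * c * g⁻¹) := by group
          _ = _ := by rw [h4]; group
      exact mul_left_cancel (mul_right_cancel h5)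
  -- the involution `ρ w`
  have hwN : ρ (w F) ∉ Subgroup.normalizer ((T : Subgroup Q) : Set Q) := by
    intro h
    rw [hTP] at h
    have h1 := (Subgroup.mem_normalizer_iff.mp h (ρ (u 1))).mp ⟨1, rfl⟩
    obtain ⟨t, ht⟩ := h1
    rw [← map_inv, ← map_mul, ← map_mul] at ht
    exact conj_u_not 1 t one_ne_zero (ρinj ht)
  have hnn : ¬ (T : Subgroup Q).Normal := by
    intro h
    apply hwN
    rw [Subgroup.normalizer_eq_top]
    trivial
  have hw2 : orderOf (ρ (w F)) = 2 := by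
    apply orderOf_eq_two
    · intro h
      apply hwN
      rw [h]
      exact one_mem _
    · rw [pow_two, ← map_mul, w_mul_w, map_one]
  have hwinv : (ρ (w F))⁻¹ = ρ (w F) := inv_eq_of_order hw2
  have dD : ∀ l : Fˣ, ρ (d l) ∈ DD T (ρ (w F)) := by
    have h1 : ∀ l : Fˣ, ρ (d l) ∈ Subgroup.normalizer ((T : Subgroup Q) : Set Q) := by
      intro l
      rw [hTP, Subgroup.mem_normalizer_iff]
      intro x
      constructor
      · rintro ⟨t, rfl⟩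
        exact ⟨(l : F) ^ 2 * t, by rw [← map_inv, ← map_mul, ← map_mul, d_conj_u]⟩
      · rintro ⟨t, ht⟩
        refine ⟨((l⁻¹ : Fˣ) : F) ^ 2 * t, ?_⟩
        rw [← d_conj_u, map_mul, map_mul, ← ht, ← d_inv, inv_inv, map_inv]
        group
    intro l
    rw [mem_inf_map_iff]
    refine ⟨h1 l, ?_⟩
    have h2 : (ρ (w F))⁻¹ * ρ (d l) * ρ (w F) = ρ (d l⁻¹) := by
      rw [← d_inv, ← w_conj_d, map_mul, map_mul, map_inv, hwinv]
    rw [h2]
    exact h1 _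
  have cardUnits : Nat.card Fˣ = Nat.card F - 1 := by
    have := Nat.card_units F
    exact this
  have hDsurj : ∀ x ∈ DD T (ρ (w F)), ∃ l : Fˣ, x = ρ (d l) := by
    let f : Fˣ → DD T (ρ (w F)) := fun l => ⟨ρ (d l), dD l⟩
    have finj : Function.Injective f := fun l m h => d_injective (ρinj (congrArg Subtype.val h))
    have hcD := card_D T hnc EQ hnn hw2 hwN
    have hcT : Nat.card T = Nat.card F := by
      show Nat.card (T : Subgroup Q) = _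
      rw [hTP, Pcard]
    rw [hcT, ← cardUnits] at hcD
    have fbij : Function.Bijective f := (Nat.bijective_iff_injective_and_card f).mpr ⟨finj, hcD.symm⟩
    intro x hx
    obtain ⟨l, hl⟩ := fbij.2 ⟨x, hx⟩
    exact ⟨l, (congrArg Subtype.val hl).symm⟩
  -- the product of the two involutions
  have www : ψ (w F) * ψ (w F) = 1 := by rw [← map_mul, w_mul_w, map_one]
  have www' : ψ' (w F) * ψ' (w F) = 1 := by rw [← map_mul, w_mul_w, map_one]
  set c := ψ (w F) * ψ' (w F) with hc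
  have winv : (ψ (w F))⁻¹ = ψ (w F) := inv_eq_of_mul_eq_one_left www
  have winv' : (ψ' (w F))⁻¹ = ψ' (w F) := inv_eq_of_mul_eq_one_left www'
  have cinv : c⁻¹ = ψ' (w F) * ψ (w F) := by rw [hc, _root_.mul_inv_rev, winv, winv']
  have w1 : ∀ l : Fˣ, ψ (w F) * ψ (d l) = (ψ (d l))⁻¹ * ψ (w F) := by
    intro l
    rw [← map_inv, ← map_mul, ← map_mul, ← w_conj_d, inv_mul_cancel_right]
  have w2 : ∀ l : Fˣ, ψ' (w F) * ψ' (d l) = (ψ' (d l))⁻¹ * ψ' (w F) := by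
    intro l
    rw [← map_inv, ← map_mul, ← map_mul, ← w_conj_d, inv_mul_cancel_right]
  have w3 : ∀ l : Fˣ, ψ' (w F) * ψ (d l) = ψ (d l) * ψ' (w F) := fun l => (hcomm' l (w F)).symm
  have w4 : ∀ l : Fˣ, ψ (w F) * ψ' (d l) = ψ' (d l) * ψ (w F) := fun l => (hcomm l (w F)).symm
  have c1 : ∀ l : Fˣ, c * ψ (d l) = (ψ (d l))⁻¹ * c := by
    intro l
    rw [hc, mul_assoc, w3, ← mul_assoc, w1, mul_assoc]
  have c2 : ∀ l : Fˣ, c * ψ' (d l) = (ψ' (d l))⁻¹ * c := by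
    intro l
    have w5 : ψ (w F) * (ψ' (d l))⁻¹ = (ψ' (d l))⁻¹ * ψ (w F) := by
      rw [← map_inv, d_inv]; exact w4 _
    rw [hc, mul_assoc, w2, ← mul_assoc, w5, mul_assoc]
  have cc1 : ∀ l : Fˣ, Commute (c * c) (ψ (d l)) := by
    intro l
    show c * c * ψ (d l) = ψ (d l) * (c * c)
    have h := c1 l⁻¹
    rw [← d_inv, map_inv, inv_inv] at h
    rw [mul_assoc, c1, ← mul_assoc, h, mul_assoc]
  have cc2 : ∀ l : Fˣ, Commute (c * c) (ψ' (d l)) := by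
    intro l
    show c * c * ψ' (d l) = ψ' (d l) * (c * c)
    have h := c2 l⁻¹
    rw [← d_inv, map_inv, inv_inv] at h
    rw [mul_assoc, c2, ← mul_assoc, h, mul_assoc]
  have ccE : c * c ∈ E := (memE _).mpr cc1
  let e : E := ⟨c * c, ccE⟩
  have hecomm : ∀ x ∈ DD T (ρ (w F)), π e * x = x * π e := by
    intro x hx
    obtain ⟨l, rfl⟩ := hDsurj x hx
    rw [hρ, ← map_mul, ← map_mul]
    congr 1
    apply Subtype.ext
    exact cc2 l
  have heN : π e ∈ Subgroup.normalizer ((DD T (ρ (w F)) : Subgroup Q) : Set Q) := by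
    rw [Subgroup.mem_normalizer_iff]
    intro x
    constructor
    · intro hx
      have : π e * x * (π e)⁻¹ = x := by rw [hecomm x hx, mul_inv_cancel_right]
      show π e * x * (π e)⁻¹ ∈ _
      rw [this]; exact hx
    · intro hx
      have h1 := hecomm _ hx
      have h2 : x = π e * x * (π e)⁻¹ := by
        have h3 : π e * (π e * x * (π e)⁻¹) = π e * x := by rw [h1]; group
        exact (mul_left_cancel h3).symm
      rw [h2]; exact hx
  obtain ⟨l0, hl0⟩ : ∃ l : Fˣ, l * l ≠ 1 := by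
    by_contra hcon
    push Not at hcon
    have h1 : ∀ l : Fˣ, l = 1 := by
      intro l
      apply Units.ext
      have h6 : (l : F) * l = 1 := by rw [← Units.val_mul, hcon]; rfl
      have h7 : ((l : F) - 1) * ((l : F) - 1) = 0 := by
        have h2 : (2 : F) = 0 := CharTwo.two_eq_zero
        linear_combination h6 + (1 - (l : F)) * h2
      have := mul_self_eq_zero.mp h7
      simpa using sub_eq_zero.mp this
    have : Nat.card Fˣ = 1 := by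
      rw [Nat.card_eq_one_iff_unique]
      exact ⟨⟨fun x y => by rw [h1 x, h1 y]⟩, ⟨1⟩⟩
    omega
  have heD : π e ∈ DD T (ρ (w F)) := by
    rcases (mem_normalizer_D_iff T hnc EQ hnn hw2 hwN).mp heN with h | h
    · exact h
    · exfalso
      -- `ρ w * π e ∈ D`, so `ρ w` centralizes `D`
      obtain ⟨m, hm⟩ := hDsurj _ h
      have h1 := hecomm _ (dD l0)
      have h2 : ρ (w F) * ρ (d l0) * (ρ (w F))⁻¹ = ρ (d l0) := by
        have e1 : π e = (ρ (w F))⁻¹ * ρ (d m) := by rw [← hm]; group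
        have e2 : ρ (d m) * ρ (d l0) = ρ (d l0) * ρ (d m) := by
          rw [← map_mul, ← map_mul, d_mul, d_mul, mul_comm]
        rw [e1] at h1
        -- w⁻¹ dm dl = dl w⁻¹ dm
        have h3 : (ρ (w F))⁻¹ * ρ (d l0) * ρ (d m) = ρ (d l0) * (ρ (w F))⁻¹ * ρ (d m) := by
          calc (ρ (w F))⁻¹ * ρ (d l0) * ρ (d m) = (ρ (w F))⁻¹ * (ρ (d l0) * ρ (d m)) := by group
            _ = (ρ (w F))⁻¹ * ρ (d m) * ρ (d l0) := by rw [← e2]; group
            _ = _ := by rw [h1]; group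
        have h4 := mul_right_cancel h3
        rw [hwinv] at h4
        rw [h4, mul_inv_cancel_right]
      rw [← map_inv, ← map_mul, ← map_mul, w_conj_d] at h2
      have h3 := ρinj h2
      rw [d_inv] at h3
      have h4 := d_injective h3
      exact hl0 (by rw [← mul_inv_cancel l0]; conv_rhs => rw [h4])
  obtain ⟨l, hl⟩ := hDsurj _ heD
  have h2 : (ψE (d l))⁻¹ * e ∈ N := (hπ _ _).mp hl.symm
  obtain ⟨m, hm⟩ := h2
  have h3 : c * c = ψ' (d l) * ψ (d m) := by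
    have : ((ψE (d l))⁻¹ * e : E).1 = (ψ' (d l))⁻¹ * (c * c) := rfl
    rw [this] at hm
    rw [← hm]; group
  -- both involutions invert `c * c`
  have i1 : ψ' (w F) * (c * c) * ψ' (w F) = (c * c)⁻¹ := by
    have h : ψ' (w F) * c * ψ' (w F) = c⁻¹ := by
      rw [cinv, hc]
      calc ψ' (w F) * (ψ (w F) * ψ' (w F)) * ψ' (w F) =
          ψ' (w F) * ψ (w F) * (ψ' (w F) * ψ' (w F)) := by group
        _ = _ := by rw [www', mul_one]
    calc ψ' (w F) * (c * c) * ψ' (w F) = ψ' (w F) * c * 1 * c * ψ' (w F) := by group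
      _ = ψ' (w F) * c * (ψ' (w F) * ψ' (w F)) * c * ψ' (w F) := by rw [www']
      _ = (ψ' (w F) * c * ψ' (w F)) * (ψ' (w F) * c * ψ' (w F)) := by group
      _ = _ := by rw [h]; group
  have i2 : ψ (w F) * (c * c) * ψ (w F) = (c * c)⁻¹ := by
    have h : ψ (w F) * c * ψ (w F) = c⁻¹ := by
      rw [cinv, hc]
      calc ψ (w F) * (ψ (w F) * ψ' (w F)) * ψ (w F) =
          (ψ (w F) * ψ (w F)) * ψ' (w F) * ψ (w F) := by group
        _ = _ := by rw [www, one_mul]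
    calc ψ (w F) * (c * c) * ψ (w F) = ψ (w F) * c * 1 * c * ψ (w F) := by group
      _ = ψ (w F) * c * (ψ (w F) * ψ (w F)) * c * ψ (w F) := by rw [www]
      _ = (ψ (w F) * c * ψ (w F)) * (ψ (w F) * c * ψ (w F)) := by group
      _ = _ := by rw [h]; group
  have sqd : ∀ k : Fˣ, (d k * d k : SpecialLinearGroup (Fin 2) F) = 1 → d k = (1 : SpecialLinearGroup (Fin 2) F) := by
    intro k hk
    rw [d_mul, ← d_one] at hk
    have h4 := d_injective hk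
    have h5 : k = 1 := by
      apply Units.ext
      have h6 : (k : F) * k = 1 := by rw [← Units.val_mul, h4]; rfl
      have h7 : ((k : F) - 1) * ((k : F) - 1) = 0 := by
        have h2 : (2 : F) = 0 := CharTwo.two_eq_zero
        linear_combination h6 + (1 - (k : F)) * h2
      have := mul_self_eq_zero.mp h7
      simpa using sub_eq_zero.mp this
    rw [h5, d_one]
  have cm : ψ' (d l) * ψ (d m) = ψ (d m) * ψ' (d l) := hcomm l (d m)
  have hm1 : ψ (d m) = 1 := by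
    rw [h3] at i1
    have e1 : ψ' (w F) * (ψ' (d l) * ψ (d m)) * ψ' (w F) = (ψ' (d l))⁻¹ * ψ (d m) := by
      rw [← mul_assoc, w2, mul_assoc (ψ' (d l))⁻¹, w3, ← mul_assoc (ψ' (d l))⁻¹, mul_assoc, www', mul_one]
    rw [e1, cm, _root_.mul_inv_rev, mul_right_inj, ← map_inv] at i1
    have e2 := inj i1
    rw [← map_one ψ, sqd m]
    rw [eq_inv_iff_mul_eq_one] at e2
    exact e2
  have hl1 : ψ' (d l) = 1 := by
    rw [h3] at i2
    have e1 : ψ (w F) * (ψ' (d l) * ψ (d m)) * ψ (w F) = ψ' (d l) * (ψ (d m))⁻¹ := by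
      rw [← mul_assoc, w4, mul_assoc (ψ' (d l)), w1, ← mul_assoc (ψ' (d l)), mul_assoc, www, mul_one]
    rw [e1, hm1, inv_one, mul_one, ← map_inv] at i2
    have e2 := inj' i2
    rw [← map_one ψ', sqd l]
    rw [eq_inv_iff_mul_eq_one] at e2
    exact e2
  rw [hm1, hl1, mul_one] at h3
  show ψ (w F) * ψ' (w F) = ψ' (w F) * ψ (w F)
  rw [← cinv, ← hc]
  exact (inv_eq_of_mul_eq_one_left h3).symm

end Braid

section SL2b

variable {F : Type*} [Field F]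

/-- elements inverting the torus are antidiagonal -/
theorem antidiag (hF : ∃ l : Fˣ, l * l ≠ 1) (g : SpecialLinearGroup (Fin 2) F)
    (h : ∀ l : Fˣ, g * d l = d l⁻¹ * g) : ∃ c : Fˣ, g = d c * w F := by
  obtain ⟨l, hl⟩ := hF
  have h1 : (g * d l).1 = (d l⁻¹ * g).1 := by rw [h l]
  have e1 : (g * d l).1 = g.1 * !![(l : F), 0; 0, ((l⁻¹ : Fˣ) : F)] := rfl
  have e2 : (d l⁻¹ * g).1 = !![((l⁻¹ : Fˣ) : F), 0; 0, ((l⁻¹⁻¹ : Fˣ) : F)] * g.1 := rfl
  rw [e1, e2] at h1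
  have hll : (l : F) - ((l : F))⁻¹ ≠ 0 := by
    intro h
    apply hl
    apply Units.ext
    have h0 : (l : F) ≠ 0 := l.ne_zero
    have h5 : (l : F) = (l : F)⁻¹ := sub_eq_zero.mp h
    rw [Units.val_mul]
    conv_lhs => lhs; rw [h5]
    rw [inv_mul_cancel₀ h0]; rfl
  have hdet : g.1.det = 1 := g.2
  rw [Matrix.det_fin_two] at hdet
  have a1 : g.1 0 0 = 0 := by
    have := congrFun (congrFun h1 0) 0
    simp [Matrix.mul_apply, Fin.sum_univ_two] at this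
    have h3 : g.1 0 0 * ((l : F) - ((l : F))⁻¹) = 0 := by
      linear_combination this
    exact (mul_eq_zero.mp h3).resolve_right hll
  have a2 : g.1 1 1 = 0 := by
    have := congrFun (congrFun h1 1) 1
    simp [Matrix.mul_apply, Fin.sum_univ_two] at this
    have h3 : g.1 1 1 * ((l : F) - ((l : F))⁻¹) = 0 := by
      linear_combination -this
    exact (mul_eq_zero.mp h3).resolve_right hll
  rw [a1, a2, mul_zero, zero_sub] at hdet
  have hne : g.1 0 1 ≠ 0 := by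
    intro h0
    rw [h0] at hdet
    simp at hdet
  refine ⟨Units.mk0 (g.1 0 1) hne, ?_⟩
  apply Subtype.ext
  show g.1 = !![g.1 0 1, 0; 0, (g.1 0 1)⁻¹] * !![(0 : F), 1; -1, 0]
  ext i j
  fin_cases i <;> fin_cases j <;> simp [a1, a2]
  field_simp
  linear_combination -hdet

theorem d_conj_val (l : Fˣ) (g : SpecialLinearGroup (Fin 2) F) :
    (d l * g * (d l)⁻¹).1 = !![g.1 0 0, (l : F) ^ 2 * g.1 0 1; ((l : F)⁻¹) ^ 2 * g.1 1 0, g.1 1 1] := by
  rw [d_inv]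
  show !![(l : F), 0; 0, ((l⁻¹ : Fˣ) : F)] * g.1 * !![((l⁻¹ : Fˣ) : F), 0; 0, ((l⁻¹⁻¹ : Fˣ) : F)] = _
  have hl : (l : F) ≠ 0 := l.ne_zero
  rw [Matrix.eta_fin_two g.1, Matrix.mul_fin_two, Matrix.mul_fin_two]
  ext i j
  fin_cases i <;> fin_cases j <;> simp <;> field_simp

/-- elements commuting with the torus are diagonal -/
theorem diag_of_comm (hF : ∃ l : Fˣ, l * l ≠ 1) (g : SpecialLinearGroup (Fin 2) F)
    (h : ∀ l : Fˣ, g * d l = d l * g) : ∃ c : Fˣ, g = d c := by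
  obtain ⟨c, hc⟩ := antidiag hF (g * w F) (fun l => by
    have h1 := w_conj_d (F := F) l
    rw [mul_inv_eq_iff_eq_mul, d_inv] at h1
    rw [mul_assoc, h1, ← mul_assoc, h, mul_assoc])
  exact ⟨c, mul_right_cancel hc⟩

/-- Bruhat decomposition -/
theorem bruhat (g : SpecialLinearGroup (Fin 2) F) :
    (∃ (l : Fˣ) (t : F), g = d l * u t) ∨ ∃ (s t : F) (l : Fˣ), g = u s * (d l * (w F * u t)) := by
  have hdet : g.1.det = 1 := g.2
  rw [Matrix.det_fin_two] at hdet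
  by_cases hc : g.1 1 0 = 0
  · left
    rw [hc, mul_zero, sub_zero] at hdet
    have ha : g.1 0 0 ≠ 0 := fun h => by rw [h] at hdet; simp at hdet
    refine ⟨Units.mk0 _ ha, g.1 0 1 / g.1 0 0, ?_⟩
    apply Subtype.ext
    show g.1 = !![g.1 0 0, 0; 0, (g.1 0 0)⁻¹] * !![1, g.1 0 1 / g.1 0 0; 0, 1]
    ext i j
    fin_cases i <;> fin_cases j <;> simp [hc]
    · field_simp
    · field_simp
      linear_combination hdet
  · right
    refine ⟨g.1 0 0 / g.1 1 0, g.1 1 1 / g.1 1 0, Units.mk0 (-(g.1 1 0)⁻¹) (by simpa using hc), ?_⟩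
    apply Subtype.ext
    show g.1 = !![1, g.1 0 0 / g.1 1 0; 0, 1] * (!![-(g.1 1 0)⁻¹, 0; 0, (-(g.1 1 0)⁻¹)⁻¹] *
      (!![(0 : F), 1; -1, 0] * !![1, g.1 1 1 / g.1 1 0; 0, 1]))
    ext i j
    fin_cases i <;> fin_cases j <;> simp
    · field_simp
    · field_simp
      linear_combination -hdet
    · field_simp

variable [CharP F 2]

theorem eq_one_of_sq {l : Fˣ} (h : l * l = 1) : l = 1 := by
  apply Units.ext
  have h6 : (l : F) * l = 1 := by rw [← Units.val_mul, h]; rfl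
  have h7 : ((l : F) - 1) * ((l : F) - 1) = 0 := by
    have h2 : (2 : F) = 0 := CharTwo.two_eq_zero
    linear_combination h6 + (1 - (l : F)) * h2
  have := mul_self_eq_zero.mp h7
  simpa using sub_eq_zero.mp this

theorem exists_sq_ne_one [Finite F] (hF : 4 ≤ Nat.card F) : ∃ l : Fˣ, l * l ≠ 1 := by
  by_contra hcon
  push Not at hcon
  have : Nat.card Fˣ = 1 := by
    rw [Nat.card_eq_one_iff_unique]
    exact ⟨⟨fun x y => by rw [eq_one_of_sq (hcon x), eq_one_of_sq (hcon y)]⟩, ⟨1⟩⟩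
  have h2 := Nat.card_units F
  omega

theorem uw_cube : (u 1 * w F) * (u 1 * w F) * (u 1 * w F) = 1 := by
  have h2 : (1 : F) + 1 = 0 := CharTwo.add_self_eq_zero 1
  apply Subtype.ext
  show (!![1, 1; 0, 1] * !![(0 : F), 1; -1, 0]) * (!![1, 1; 0, 1] * !![(0 : F), 1; -1, 0]) *
    (!![1, 1; 0, 1] * !![(0 : F), 1; -1, 0]) = 1
  rw [Matrix.one_fin_two]
  ext i j
  fin_cases i <;> fin_cases j <;> simp [CharTwo.neg_eq, h2]

theorem udw_cube (c : Fˣ) (h : (u 1 * (d c * w F)) * (u 1 * (d c * w F)) * (u 1 * (d c * w F)) = 1) :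
    c = 1 := by
  have h1 : ((u 1 * (d c * w F)) * (u 1 * (d c * w F)) * (u 1 * (d c * w F))).1 =
    (!![(1 : F), 1; 0, 1] * (!![(c : F), 0; 0, ((c⁻¹ : Fˣ) : F)] * !![(0 : F), 1; -1, 0])) *
    (!![(1 : F), 1; 0, 1] * (!![(c : F), 0; 0, ((c⁻¹ : Fˣ) : F)] * !![(0 : F), 1; -1, 0])) *
    (!![(1 : F), 1; 0, 1] * (!![(c : F), 0; 0, ((c⁻¹ : Fˣ) : F)] * !![(0 : F), 1; -1, 0])) := rfl
  rw [h] at h1
  have h3 := congrFun (congrFun h1 1) 1
  simpa [CharTwo.neg_eq] using h3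

end SL2b

section Frame

variable {F : Type*} [Field F] [CharP F 2] {G : Type*} [Group G]

/-- an automorphism-like map of `SL(2,F)` fixing the torus and the positive root group is the identity -/
theorem hom_eq_id (hF : ∃ l : Fˣ, l * l ≠ 1)
    (α : SpecialLinearGroup (Fin 2) F →* SpecialLinearGroup (Fin 2) F)
    (hd : ∀ l : Fˣ, α (d l) = d l) (hu : ∀ t : F, α (u t) = u t) : ∀ g, α g = g := by
  have hw : α (w F) = w F := by
    obtain ⟨c, hc⟩ := antidiag hF (α (w F)) (fun l => by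
      have h1 := w_conj_d (F := F) l
      rw [mul_inv_eq_iff_eq_mul, d_inv] at h1
      rw [← hd, ← map_mul, h1, map_mul, hd])
    have h3 := congrArg α (uw_cube (F := F))
    rw [map_mul, map_mul, map_mul, hu, hc, map_one] at h3
    rw [hc, udw_cube c h3, d_one, one_mul]
  intro g
  rcases bruhat g with ⟨l, t, rfl⟩ | ⟨s, t, l, rfl⟩
  · rw [map_mul, hd, hu]
  · rw [map_mul, map_mul, map_mul, hd, hu, hu, hw]

theorem hi_of_frame (hF : ∃ l : Fˣ, l * l ≠ 1) (Fr : Frame F G)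
    (norm₁ : ∀ (m : Fˣ) g, ∃ g', Fr.ψ₂ (d m) * Fr.ψ₁ g * (Fr.ψ₂ (d m))⁻¹ = Fr.ψ₁ g')
    (norm₂ : ∀ (m : Fˣ) g, ∃ g', Fr.ψ₁ (d m) * Fr.ψ₂ g * (Fr.ψ₁ (d m))⁻¹ = Fr.ψ₂ g')
    (l : Fˣ) (g : SpecialLinearGroup (Fin 2) F) :
    Commute (Fr.ψ₁ (w F) * Fr.ψ₂ (d l) * Fr.ψ₁ (w F)) (Fr.ψ₂ g) := by
  have www : Fr.ψ₁ (w F) * Fr.ψ₁ (w F) = 1 := by rw [← map_mul, w_mul_w, map_one]
  have winv : (Fr.ψ₁ (w F))⁻¹ = Fr.ψ₁ (w F) := inv_eq_of_mul_eq_one_left www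
  set a := Fr.ψ₁ (w F) with ha
  set k := a * Fr.ψ₂ (d l) * a with hk
  -- `k` lies in the product of the two tori
  have hk1 : ∃ c : Fˣ, k = Fr.ψ₂ (d l) * Fr.ψ₁ (d c) := by
    obtain ⟨g', hg'⟩ := norm₁ l⁻¹ (w F)
    obtain ⟨c, hc⟩ := antidiag hF g' (fun m => Fr.inj₁ (by
      have h1 := w_conj_d (F := F) m
      rw [mul_inv_eq_iff_eq_mul, d_inv] at h1
      have h2 := congrArg Fr.ψ₁ h1
      rw [map_mul, map_mul] at h2
      have c1 : Fr.ψ₂ (d l⁻¹) * Fr.ψ₁ (d m) = Fr.ψ₁ (d m) * Fr.ψ₂ (d l⁻¹) := (Fr.tori m l⁻¹).symm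
      have c2 : Fr.ψ₂ (d l⁻¹) * Fr.ψ₁ (d m⁻¹) = Fr.ψ₁ (d m⁻¹) * Fr.ψ₂ (d l⁻¹) :=
        (Fr.tori m⁻¹ l⁻¹).symm
      have c3 : (Fr.ψ₂ (d l⁻¹))⁻¹ * Fr.ψ₁ (d m) = Fr.ψ₁ (d m) * (Fr.ψ₂ (d l⁻¹))⁻¹ := by
        rw [← map_inv, d_inv, inv_inv]; exact (Fr.tori m l).symm
      rw [map_mul, map_mul, ← hg']
      calc Fr.ψ₂ (d l⁻¹) * Fr.ψ₁ (w F) * (Fr.ψ₂ (d l⁻¹))⁻¹ * Fr.ψ₁ (d m)
          = Fr.ψ₂ (d l⁻¹) * Fr.ψ₁ (w F) * ((Fr.ψ₂ (d l⁻¹))⁻¹ * Fr.ψ₁ (d m)) := by group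
        _ = Fr.ψ₂ (d l⁻¹) * (Fr.ψ₁ (w F) * Fr.ψ₁ (d m)) * (Fr.ψ₂ (d l⁻¹))⁻¹ := by rw [c3]; group
        _ = (Fr.ψ₂ (d l⁻¹) * Fr.ψ₁ (d m⁻¹)) * Fr.ψ₁ (w F) * (Fr.ψ₂ (d l⁻¹))⁻¹ := by rw [h2]; group
        _ = _ := by rw [c2]; group))
    refine ⟨c, ?_⟩
    rw [hc, map_mul] at hg'
    have e1 : Fr.ψ₂ (d l⁻¹) = (Fr.ψ₂ (d l))⁻¹ := by rw [← d_inv, map_inv]
    rw [e1, inv_inv] at hg'
    calc k = Fr.ψ₂ (d l) * ((Fr.ψ₂ (d l))⁻¹ * a * Fr.ψ₂ (d l)) * a := by rw [hk]; group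
      _ = Fr.ψ₂ (d l) * (Fr.ψ₁ (d c) * a) * a := by rw [hg']
      _ = Fr.ψ₂ (d l) * Fr.ψ₁ (d c) * (a * a) := by group
      _ = _ := by rw [www, mul_one]
  obtain ⟨c, hc⟩ := hk1
  -- `k` centralizes the positive root group
  have hku : ∀ t : F, k * Fr.ψ₂ (u t) * k⁻¹ = Fr.ψ₂ (u t) := by
    intro t
    have hz : a * Fr.ψ₂ (u t) * a ∈ Fr.Z₂ := (Fr.mem_Z₂ _).mpr ⟨t, rfl⟩
    have h1 := Fr.cent₂ (d l) _ hz
    have h2 : Fr.ψ₂ (d l) * (a * Fr.ψ₂ (u t) * a) = (a * Fr.ψ₂ (u t) * a) * Fr.ψ₂ (d l) := h1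
    rw [mul_inv_eq_iff_eq_mul]
    calc k * Fr.ψ₂ (u t) = a * (Fr.ψ₂ (d l) * (a * Fr.ψ₂ (u t) * a)) * a⁻¹ := by rw [hk]; group
      _ = a * ((a * Fr.ψ₂ (u t) * a) * Fr.ψ₂ (d l)) * a⁻¹ := by rw [h2]
      _ = (a * a) * Fr.ψ₂ (u t) * (a * Fr.ψ₂ (d l) * a⁻¹) := by group
      _ = Fr.ψ₂ (u t) * (a * Fr.ψ₂ (d l) * a) := by rw [www, one_mul, winv]
      _ = _ := by rw [hk]
  have hkd : ∀ m : Fˣ, k * Fr.ψ₂ (d m) * k⁻¹ = Fr.ψ₂ (d m) := by
    intro m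
    rw [mul_inv_eq_iff_eq_mul, hc]
    have c1 : Fr.ψ₁ (d c) * Fr.ψ₂ (d m) = Fr.ψ₂ (d m) * Fr.ψ₁ (d c) := Fr.tori c m
    have c2 : Fr.ψ₂ (d l) * Fr.ψ₂ (d m) = Fr.ψ₂ (d m) * Fr.ψ₂ (d l) := by
      rw [← map_mul, ← map_mul, d_mul, d_mul, mul_comm]
    calc Fr.ψ₂ (d l) * Fr.ψ₁ (d c) * Fr.ψ₂ (d m) = Fr.ψ₂ (d l) * (Fr.ψ₁ (d c) * Fr.ψ₂ (d m)) := by
          group
      _ = (Fr.ψ₂ (d l) * Fr.ψ₂ (d m)) * Fr.ψ₁ (d c) := by rw [c1]; group
      _ = _ := by rw [c2]; group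
  have hkn : ∀ g, ∃ g', k * Fr.ψ₂ g * k⁻¹ = Fr.ψ₂ g' := by
    intro g
    obtain ⟨g', hg'⟩ := norm₂ c g
    refine ⟨d l * g' * (d l)⁻¹, ?_⟩
    rw [map_mul, map_mul, map_inv, ← hg', hc]
    group
  choose α hα using hkn
  let αh : SpecialLinearGroup (Fin 2) F →* SpecialLinearGroup (Fin 2) F :=
    { toFun := α
      map_one' := Fr.inj₂ (by rw [← hα, map_one]; group)
      map_mul' := fun x y => Fr.inj₂ (by rw [← hα, map_mul, map_mul, ← hα, ← hα]; group) }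
  have h := hom_eq_id hF αh (fun m => Fr.inj₂ (by
    show Fr.ψ₂ (α (d m)) = _
    rw [← hα, hkd])) (fun t => Fr.inj₂ (by
    show Fr.ψ₂ (α (u t)) = _
    rw [← hα, hku])) g
  have h2 := hα g
  have h3 : α g = g := h
  rw [h3, mul_inv_eq_iff_eq_mul] at h2
  exact h2

end Frame

section NatMod

variable {F : Type*} [Field F] {G : Type*} [Group G]

/-- `V/Z` is the natural module for `SL(2,F)`, elementwise. -/
structure NatMod (ψ : SpecialLinearGroup (Fin 2) F →* G) (V Z : Subgroup G) (e : G → Fin 2 → F) :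
    Prop where
  mul : ∀ x ∈ V, ∀ y ∈ V, e (x * y) = e x + e y
  zero : ∀ x ∈ V, (e x = 0 ↔ x ∈ Z)
  equi : ∀ g, ∀ x ∈ V, e (ψ g * x * (ψ g)⁻¹) = g.1 *ᵥ e x

theorem NatMod.one {ψ : SpecialLinearGroup (Fin 2) F →* G} {V Z : Subgroup G} {e : G → Fin 2 → F}
    (n : NatMod ψ V Z e) : e 1 = 0 :=
  (n.zero 1 V.one_mem).mpr Z.one_mem

theorem NatMod.inv {ψ : SpecialLinearGroup (Fin 2) F →* G} {V Z : Subgroup G} {e : G → Fin 2 → F}
    (n : NatMod ψ V Z e) {x : G} (hx : x ∈ V) : e x⁻¹ = -e x := by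
  have := n.mul x⁻¹ (V.inv_mem hx) x hx
  rw [inv_mul_cancel, n.one] at this
  exact eq_neg_of_add_eq_zero_left this.symm

theorem u_mulVec (t : F) (p : Fin 2 → F) : (u t).1 *ᵥ p = ![p 0 + t * p 1, p 1] := by
  show !![1, t; 0, 1] *ᵥ p = _
  ext i
  fin_cases i <;> simp [Matrix.mulVec, dotProduct, Fin.sum_univ_two]

theorem w_mulVec (p : Fin 2 → F) : (w F).1 *ᵥ p = ![p 1, - p 0] := by
  show !![0, 1; -1, 0] *ᵥ p = _
  ext i
  fin_cases i <;> simp [Matrix.mulVec, dotProduct, Fin.sum_univ_two]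

theorem d_mulVec (l : Fˣ) (p : Fin 2 → F) : (d l).1 *ᵥ p = ![(l : F) * p 0, (l : F)⁻¹ * p 1] := by
  show !![(l : F), 0; 0, ((l⁻¹ : Fˣ) : F)] *ᵥ p = _
  ext i
  fin_cases i <;> simp [Matrix.mulVec, dotProduct, Fin.sum_univ_two]

/-- a nonzero additive subgroup of `F²` invariant under `SL(2,F)` is everything -/
theorem full_of_invariant (S : AddSubgroup (Fin 2 → F))
    (hS : ∀ g : SpecialLinearGroup (Fin 2) F, ∀ p ∈ S, g.1 *ᵥ p ∈ S)
    (hne : ∃ p ∈ S, p ≠ 0) : ∀ p, p ∈ S := by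
  obtain ⟨p, hp, hp0⟩ := hne
  have h1 : ∃ p ∈ S, p 1 ≠ 0 := by
    by_cases h : p 1 = 0
    · refine ⟨_, hS (w F) p hp, ?_⟩
      rw [w_mulVec]
      simp only [Matrix.cons_val_one, Matrix.cons_val_fin_one]
      intro h2
      apply hp0
      ext i
      fin_cases i
      · simpa using h2
      · exact h
    · exact ⟨p, hp, h⟩
  obtain ⟨p, hp, hp1⟩ := h1
  have h2 : ∀ r : F, ![r, 0] ∈ S := by
    intro r
    have h3 := S.sub_mem (hS (u (r / p 1)) p hp) hp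
    rw [u_mulVec] at h3
    convert h3 using 1
    ext i
    fin_cases i
    · simp
      field_simp
    · simp
  have h3 : ∀ r : F, ![0, r] ∈ S := by
    intro r
    have h3 := hS (w F) _ (h2 (-r))
    rw [w_mulVec] at h3
    simpa using h3
  intro q
  have h4 := S.add_mem (h2 (q 0)) (h3 (q 1))
  convert h4 using 1
  ext i
  fin_cases i <;> simp

theorem irr {ψ : SpecialLinearGroup (Fin 2) F →* G} {V Z : Subgroup G} {e : G → Fin 2 → F}
    (n : NatMod ψ V Z e) (W : Subgroup G) (hWV : W ≤ V)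
    (hinv : ∀ g, ∀ x ∈ W, ψ g * x * (ψ g)⁻¹ ∈ W) (hne : ∃ x ∈ W, e x ≠ 0) :
    ∀ p, ∃ x ∈ W, e x = p := by
  let S : AddSubgroup (Fin 2 → F) :=
    { carrier := {p | ∃ x ∈ W, e x = p}
      add_mem' := by
        rintro p q ⟨x, hx, rfl⟩ ⟨y, hy, rfl⟩
        exact ⟨x * y, W.mul_mem hx hy, n.mul x (hWV hx) y (hWV hy)⟩
      zero_mem' := ⟨1, W.one_mem, n.one⟩
      neg_mem' := by
        rintro p ⟨x, hx, rfl⟩
        exact ⟨x⁻¹, W.inv_mem hx, n.inv (hWV hx)⟩ }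
  apply full_of_invariant S
  · rintro g _ ⟨x, hx, rfl⟩
    exact ⟨_, hinv g x hx, n.equi g x (hWV hx)⟩
  · obtain ⟨x, hx, hx0⟩ := hne
    exact ⟨e x, ⟨x, hx, rfl⟩, hx0⟩

end NatMod

section Cent

variable {F : Type*} [Field F] [CharP F 2] {G : Type*} [Group G]

/-- a subgroup containing the commutators of the two positive root groups contains `Z₂` -/
theorem Z₂_le (hF : ∃ l : Fˣ, l * l ≠ 1) (Fr : Frame F G) (V₁ : Subgroup G) (e₁ : G → Fin 2 → F)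
    (n₁ : NatMod Fr.ψ₁ V₁ Fr.Z₁ e₁)
    (norm : ∀ g, ∀ x ∈ V₁, Fr.ψ₁ g * x * (Fr.ψ₁ g)⁻¹ ∈ V₁)
    (hb : ∀ t, Fr.ψ₂ (u t) ∈ V₁)
    (W : Subgroup G)
    (hW : ∀ s t, Fr.ψ₁ (u s) * Fr.ψ₂ (u t) * (Fr.ψ₁ (u s))⁻¹ * (Fr.ψ₂ (u t))⁻¹ ∈ W) :
    Fr.Z₂ ≤ W := by
  have www : Fr.ψ₁ (w F) * Fr.ψ₁ (w F) = 1 := by rw [← map_mul, w_mul_w, map_one]
  have winv : (Fr.ψ₁ (w F))⁻¹ = Fr.ψ₁ (w F) := inv_eq_of_mul_eq_one_left www
  have hZ₂V : ∀ z ∈ Fr.Z₂, z ∈ V₁ := by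
    intro z hz
    obtain ⟨t, rfl⟩ := (Fr.mem_Z₂ z).mp hz
    have := norm (w F) _ (hb t)
    rwa [winv] at this
  have hee : ∀ z ∈ Fr.Z₂, e₁ z 1 = 0 := by
    intro z hz
    have h1 := n₁.equi (u 1) z (hZ₂V z hz)
    have h2 : Fr.ψ₁ (u 1) * z = z * Fr.ψ₁ (u 1) := Fr.comm_a_Z₂ 1 z hz
    rw [h2, mul_inv_cancel_right, u_mulVec] at h1
    have h3 := congrFun h1 0
    simpa using h3
  -- the value at `x_b(1)`
  set xb := Fr.ψ₂ (u 1) with hxb
  set z0 := Fr.ψ₁ (w F) * xb * Fr.ψ₁ (w F) with hz0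
  have hz0m : z0 ∈ Fr.Z₂ := (Fr.mem_Z₂ _).mpr ⟨1, rfl⟩
  have hxb1 : xb ≠ 1 := by
    intro h
    have := Fr.inj₂ (h.trans (map_one _).symm)
    rw [← u_zero] at this
    exact one_ne_zero (u_injective this)
  have hz01 : z0 ≠ 1 := by
    intro h
    apply hxb1
    calc xb = Fr.ψ₁ (w F) * z0 * Fr.ψ₁ (w F) := by
          rw [hz0]
          calc xb = 1 * xb * 1 := by group
            _ = (Fr.ψ₁ (w F) * Fr.ψ₁ (w F)) * xb * (Fr.ψ₁ (w F) * Fr.ψ₁ (w F)) := by rw [www]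
            _ = _ := by group
      _ = 1 := by rw [h, mul_one, www]
  have hr0 : e₁ z0 0 ≠ 0 := by
    intro h
    have h1 : e₁ z0 = 0 := by
      ext i
      fin_cases i
      · exact h
      · exact hee z0 hz0m
    have h2 := (n₁.zero z0 (hZ₂V z0 hz0m)).mp h1
    have h3 : z0 ∈ Fr.Z₁ ⊓ Fr.Z₂ := ⟨h2, hz0m⟩
    rw [Fr.disj] at h3
    exact hz01 (Subgroup.mem_bot.mp h3)
  have hexb : e₁ xb = ![0, - e₁ z0 0] := by
    have h1 := n₁.equi (w F) z0 (hZ₂V z0 hz0m)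
    have h2 : Fr.ψ₁ (w F) * z0 * (Fr.ψ₁ (w F))⁻¹ = xb := by
      rw [winv, hz0]
      calc Fr.ψ₁ (w F) * (Fr.ψ₁ (w F) * xb * Fr.ψ₁ (w F)) * Fr.ψ₁ (w F)
          = (Fr.ψ₁ (w F) * Fr.ψ₁ (w F)) * xb * (Fr.ψ₁ (w F) * Fr.ψ₁ (w F)) := by group
        _ = _ := by rw [www, one_mul, mul_one]
    rw [h2, w_mulVec, hee z0 hz0m] at h1
    exact h1
  have hxbV : xb ∈ V₁ := hb 1
  -- an element different from one of the torus
  obtain ⟨l, hl⟩ := hF
  have hl1 : (l : F) - 1 ≠ 0 := by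
    intro h
    apply hl
    have : l = 1 := Units.ext (by simpa using sub_eq_zero.mp h)
    rw [this, one_mul]
  intro z hz
  set s : F := - (e₁ z 0 / ((l : F) - 1)) / e₁ z0 0 with hs
  set κ := Fr.ψ₁ (u s) * xb * (Fr.ψ₁ (u s))⁻¹ * xb⁻¹ with hκ
  have hκV : κ ∈ V₁ := V₁.mul_mem (norm _ _ hxbV) (V₁.inv_mem hxbV)
  have heκ : e₁ κ = ![e₁ z 0 / ((l : F) - 1), 0] := by
    rw [hκ, n₁.mul _ (norm _ _ hxbV) _ (V₁.inv_mem hxbV), n₁.equi _ _ hxbV, n₁.inv hxbV, u_mulVec, hexb]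
    ext i
    fin_cases i
    · simp [hs]
      field_simp
    · simp
  set h := Fr.ψ₁ (d l) with hh
  have hκW : κ ∈ W := hW s 1
  have hκW2 : h * κ * h⁻¹ ∈ W := by
    obtain ⟨t', ht'⟩ := Fr.tor₁ l 1
    have h1 : h * Fr.ψ₁ (u s) * h⁻¹ = Fr.ψ₁ (u ((l : F) ^ 2 * s)) := by
      rw [hh, ← map_inv, ← map_mul, ← map_mul, d_conj_u]
    have h2 : h * κ * h⁻¹ = (h * Fr.ψ₁ (u s) * h⁻¹) * (h * xb * h⁻¹) * (h * Fr.ψ₁ (u s) * h⁻¹)⁻¹ *
        (h * xb * h⁻¹)⁻¹ := by rw [hκ]; group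
    have h3 : h * xb * h⁻¹ = Fr.ψ₂ (u t') := ht'
    rw [h2, h1, h3]
    exact hW _ _
  -- `κ = z₁ z₂`
  have hdec : ∃ z₁ ∈ Fr.Z₁, ∃ z₂ ∈ Fr.Z₂, κ = z₁ * z₂ := by
    let K : Subgroup G :=
      { carrier := {x | ∃ z₁ ∈ Fr.Z₁, ∃ z₂ ∈ Fr.Z₂, x = z₁ * z₂}
        mul_mem' := by
          rintro x y ⟨a, ha, b, hb, rfl⟩ ⟨a', ha', b', hb', rfl⟩
          refine ⟨a * a', Fr.Z₁.mul_mem ha ha', b * b', Fr.Z₂.mul_mem hb hb', ?_⟩
          have h1 : a' * b = b * a' := Fr.commZ a' ha' b hb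
          calc a * b * (a' * b') = a * (b * a') * b' := by group
            _ = _ := by rw [← h1]; group
        one_mem' := ⟨1, Fr.Z₁.one_mem, 1, Fr.Z₂.one_mem, by simp⟩
        inv_mem' := by
          rintro x ⟨a, ha, b, hb, rfl⟩
          refine ⟨a⁻¹, Fr.Z₁.inv_mem ha, b⁻¹, Fr.Z₂.inv_mem hb, ?_⟩
          have h1 : a * b = b * a := Fr.commZ a ha b hb
          rw [h1]; group }
    have h1 : Fr.Z₁ ⊔ Fr.Z₂ ≤ K := sup_le (fun x hx => ⟨x, hx, 1, Fr.Z₂.one_mem, by simp⟩)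
      (fun x hx => ⟨1, Fr.Z₁.one_mem, x, hx, by simp⟩)
    exact h1 (Fr.comm_ab s 1)
  obtain ⟨z₁, hz₁, z₂, hz₂, hκz⟩ := hdec
  have hhz₂ : h * z₂ * h⁻¹ ∈ Fr.Z₂ := by
    obtain ⟨t, rfl⟩ := (Fr.mem_Z₂ z₂).mp hz₂
    obtain ⟨t', ht'⟩ := Fr.tor₁ l⁻¹ t
    rw [Fr.mem_Z₂]
    refine ⟨t', ?_⟩
    rw [← ht']
    have h1 : h * Fr.ψ₁ (w F) = Fr.ψ₁ (w F) * Fr.ψ₁ (d l⁻¹) := by
      rw [hh, ← map_mul, ← map_mul]
      congr 1
      have h2 := w_conj_d (F := F) l⁻¹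
      rw [mul_inv_eq_iff_eq_mul, d_inv, inv_inv] at h2
      exact h2.symm
    have h2 : Fr.ψ₁ (w F) * h⁻¹ = (Fr.ψ₁ (d l⁻¹))⁻¹ * Fr.ψ₁ (w F) := by
      have h3 := congrArg (fun x => x⁻¹) h1
      simp only [_root_.mul_inv_rev, winv] at h3
      exact h3
    calc h * (Fr.ψ₁ (w F) * Fr.ψ₂ (u t) * Fr.ψ₁ (w F)) * h⁻¹
        = (h * Fr.ψ₁ (w F)) * Fr.ψ₂ (u t) * (Fr.ψ₁ (w F) * h⁻¹) := by group
      _ = _ := by rw [h1, h2]; group
  have hq : h * κ * h⁻¹ * κ⁻¹ = h * z₂ * h⁻¹ * z₂⁻¹ := by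
    have h1 : h * z₁ = z₁ * h := Fr.cent₁ (d l) z₁ hz₁
    have h2 : z₁ * (h * z₂ * h⁻¹) = (h * z₂ * h⁻¹) * z₁ := Fr.commZ z₁ hz₁ _ hhz₂
    rw [hκz]
    calc h * (z₁ * z₂) * h⁻¹ * (z₁ * z₂)⁻¹ = (h * z₁) * z₂ * h⁻¹ * z₂⁻¹ * z₁⁻¹ := by group
      _ = z₁ * (h * z₂ * h⁻¹) * z₂⁻¹ * z₁⁻¹ := by rw [h1]; group
      _ = (h * z₂ * h⁻¹) * (z₁ * z₂⁻¹) * z₁⁻¹ := by rw [h2]; group
      _ = (h * z₂ * h⁻¹) * (z₂⁻¹ * z₁) * z₁⁻¹ := by
          have h3 : z₁ * z₂⁻¹ = z₂⁻¹ * z₁ := Fr.commZ z₁ hz₁ _ (Fr.Z₂.inv_mem hz₂)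
          rw [h3]
      _ = _ := by group
  have hqZ : h * κ * h⁻¹ * κ⁻¹ ∈ Fr.Z₂ := by
    rw [hq]
    exact Fr.Z₂.mul_mem hhz₂ (Fr.Z₂.inv_mem hz₂)
  have heq : e₁ (h * κ * h⁻¹ * κ⁻¹) = e₁ z := by
    rw [n₁.mul _ (norm _ _ hκV) _ (V₁.inv_mem hκV), n₁.equi _ _ hκV, n₁.inv hκV, d_mulVec, heκ]
    ext i
    fin_cases i
    · simp
      field_simp
      ring
    · simpa using (hee z hz).symm
  have hfin : z = h * κ * h⁻¹ * κ⁻¹ := by
    have h1 : z⁻¹ * (h * κ * h⁻¹ * κ⁻¹) ∈ Fr.Z₁ ⊓ Fr.Z₂ := by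
      refine Subgroup.mem_inf.mpr ⟨?_, Fr.Z₂.mul_mem (Fr.Z₂.inv_mem hz) hqZ⟩
      apply (n₁.zero _ (V₁.mul_mem (V₁.inv_mem (hZ₂V z hz)) (hZ₂V _ hqZ))).mp
      rw [n₁.mul _ (V₁.inv_mem (hZ₂V z hz)) _ (hZ₂V _ hqZ), n₁.inv (hZ₂V z hz), heq, neg_add_cancel]
    rw [Fr.disj, Subgroup.mem_bot, inv_mul_eq_one] at h1
    exact h1
  rw [hfin]
  exact W.mul_mem hκW2 (W.inv_mem hκW)

/-- an element of odd order, commuting with the torus and with an element of `Z₂`, lies in the torus -/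
theorem torus_of_odd [Finite F] [Finite G] (hF : ∃ l : Fˣ, l * l ≠ 1) (A : Amalgam F G) (Fr : Frame F G)
    (hX₁ : ∀ g, Fr.ψ₁ g ∈ A.X₁) (hφ₁ : ∀ g, A.φ₁ ⟨Fr.ψ₁ g, hX₁ g⟩ = g)
    (hX₂ : ∀ g, Fr.ψ₂ g ∈ A.X₂) (hφ₂ : ∀ g, A.φ₂ ⟨Fr.ψ₂ g, hX₂ g⟩ = g)
    (hZ₂ : Fr.Z₂ = A.V₂ ⊓ Subgroup.centralizer (A.X₂ : Set G))
    (ha : ∀ t, Fr.ψ₁ (u t) ∈ A.V₂) (hb : ∀ t, Fr.ψ₂ (u t) ∈ A.V₁)
    (e₁ e₂ : G → Fin 2 → F)
    (n₁ : NatMod Fr.ψ₁ A.V₁ Fr.Z₁ e₁) (n₂ : NatMod Fr.ψ₂ A.V₂ Fr.Z₂ e₂)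
    (z : G) (hz : z ∈ Fr.Z₂) (hz1 : z ≠ 1)
    (y : G) (hyN : y ∈ Subgroup.normalizer (A.V₂ : Set G)) (M : ℕ) (hM : Odd M)
    (hqM : Nat.card Fˣ ∣ M) (hyM : y ^ M = 1)
    (hyz : Commute y z) (hyd : ∀ l : Fˣ, Commute y (Fr.ψ₂ (d l))) :
    ∃ l : Fˣ, y = Fr.ψ₂ (d l) := by
  classical
  -- conjugation by `y` preserves `X₂` and `V₂`
  have hyX : ∀ x ∈ A.X₂, y * x * y⁻¹ ∈ A.X₂ := A.norm₂ y hyN
  have hyV : ∀ x ∈ A.V₂, y * x * y⁻¹ ∈ A.V₂ := fun x hx => (Subgroup.mem_normalizer_iff.mp hyN x).mp hx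
  have ker : ∀ (x : G) (hx : x ∈ A.X₂), A.φ₂ ⟨x, hx⟩ = 1 ↔ x ∈ A.V₂ := by
    intro x hx
    rw [← MonoidHom.mem_ker, A.ker₂, Subgroup.mem_subgroupOf]
  have V₂comm : ∀ x ∈ A.V₂, ∀ x' ∈ A.V₂, x * x' = x' * x := by
    intro x hx x' hx'
    have h1 := A.sq₂ _ (A.V₂.mul_mem hx hx')
    have h2 := A.sq₂ x hx
    have h3 := A.sq₂ x' hx'
    calc x * x' = x * (x * x' * (x * x')) * x' := by rw [h1]; group
      _ = (x * x) * x' * x * (x' * x') := by group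
      _ = x' * x := by rw [h2, h3]; group
  have X₂V₂ : ∀ g ∈ A.X₂, ∀ x ∈ A.V₂, g * x * g⁻¹ ∈ A.V₂ := by
    intro g hg x hx
    have hxX := A.V₂_le_X₂ hx
    rw [← ker _ (A.X₂.mul_mem (A.X₂.mul_mem hg hxX) (A.X₂.inv_mem hg))]
    have : (⟨g * x * g⁻¹, A.X₂.mul_mem (A.X₂.mul_mem hg hxX) (A.X₂.inv_mem hg)⟩ : A.X₂) =
      ⟨g, hg⟩ * ⟨x, hxX⟩ * ⟨g, hg⟩⁻¹ := rfl
    rw [this, map_mul, map_mul, (ker x hxX).mpr hx, map_inv, mul_one, mul_inv_cancel]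
  have X₁V₁ : ∀ g ∈ A.X₁, ∀ x ∈ A.V₁, g * x * g⁻¹ ∈ A.V₁ := by
    intro g hg x hx
    have hxX := A.V₁_le_X₁ hx
    have ker' : ∀ (x : G) (hx : x ∈ A.X₁), A.φ₁ ⟨x, hx⟩ = 1 ↔ x ∈ A.V₁ := by
      intro x hx
      rw [← MonoidHom.mem_ker, A.ker₁, Subgroup.mem_subgroupOf]
    rw [← ker' _ (A.X₁.mul_mem (A.X₁.mul_mem hg hxX) (A.X₁.inv_mem hg))]
    have : (⟨g * x * g⁻¹, A.X₁.mul_mem (A.X₁.mul_mem hg hxX) (A.X₁.inv_mem hg)⟩ : A.X₁) =
      ⟨g, hg⟩ * ⟨x, hxX⟩ * ⟨g, hg⟩⁻¹ := rfl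
    rw [this, map_mul, map_mul, (ker' x hxX).mpr hx, map_inv, mul_one, mul_inv_cancel]
  have hZ₂le : ∀ W : Subgroup G,
      (∀ s t, Fr.ψ₁ (u s) * Fr.ψ₂ (u t) * (Fr.ψ₁ (u s))⁻¹ * (Fr.ψ₂ (u t))⁻¹ ∈ W) → Fr.Z₂ ≤ W :=
    fun W hW => Z₂_le hF Fr A.V₁ e₁ n₁ (fun g x hx => X₁V₁ _ (hX₁ g) x hx) hb W hW
  have hZV : ∀ x ∈ Fr.Z₂, x ∈ A.V₂ := fun x hx => by rw [hZ₂] at hx; exact hx.1
  -- the induced endomorphism of `SL(2,F)`
  let α : SpecialLinearGroup (Fin 2) F →* SpecialLinearGroup (Fin 2) F :=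
    { toFun := fun g => A.φ₂ ⟨y * Fr.ψ₂ g * y⁻¹, hyX _ (hX₂ g)⟩
      map_one' := by
        have : (⟨y * Fr.ψ₂ 1 * y⁻¹, hyX _ (hX₂ 1)⟩ : A.X₂) = 1 := by
          apply Subtype.ext
          show y * Fr.ψ₂ 1 * y⁻¹ = 1
          rw [map_one, mul_one, mul_inv_cancel]
        rw [this, map_one]
      map_mul' := fun g h => by
        rw [← map_mul]
        congr 1
        apply Subtype.ext
        show y * Fr.ψ₂ (g * h) * y⁻¹ = y * Fr.ψ₂ g * y⁻¹ * (y * Fr.ψ₂ h * y⁻¹)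
        rw [map_mul]; group }
  have hα : ∀ (x : G) (hx : x ∈ A.X₂), A.φ₂ ⟨y * x * y⁻¹, hyX x hx⟩ = α (A.φ₂ ⟨x, hx⟩) := by
    intro x hx
    set g := A.φ₂ ⟨x, hx⟩ with hg
    have hv : (Fr.ψ₂ g)⁻¹ * x ∈ A.V₂ := by
      rw [← ker _ (A.X₂.mul_mem (A.X₂.inv_mem (hX₂ g)) hx)]
      have : (⟨(Fr.ψ₂ g)⁻¹ * x, A.X₂.mul_mem (A.X₂.inv_mem (hX₂ g)) hx⟩ : A.X₂) =
        ⟨Fr.ψ₂ g, hX₂ g⟩⁻¹ * ⟨x, hx⟩ := rfl
      rw [this, map_mul, map_inv, hφ₂, hg, inv_mul_cancel]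
    have h1 := hyV _ hv
    have h2 : (⟨y * x * y⁻¹, hyX x hx⟩ : A.X₂) =
        ⟨y * Fr.ψ₂ g * y⁻¹, hyX _ (hX₂ g)⟩ * ⟨y * ((Fr.ψ₂ g)⁻¹ * x) * y⁻¹, A.V₂_le_X₂ h1⟩ := by
      apply Subtype.ext
      show y * x * y⁻¹ = y * Fr.ψ₂ g * y⁻¹ * (y * ((Fr.ψ₂ g)⁻¹ * x) * y⁻¹)
      group
    rw [h2, map_mul, (ker _ (A.V₂_le_X₂ h1)).mpr h1, mul_one]
    rfl
  have hαd : ∀ l : Fˣ, α (d l) = d l := by
    intro l
    refine Eq.trans ?_ (hφ₂ (d l))
    show A.φ₂ ⟨y * Fr.ψ₂ (d l) * y⁻¹, _⟩ = _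
    congr 1
    apply Subtype.ext
    show y * Fr.ψ₂ (d l) * y⁻¹ = Fr.ψ₂ (d l)
    rw [(hyd l).eq, mul_inv_cancel_right]
  have hyk : ∀ (k : ℕ), ∀ x ∈ A.X₂, y ^ k * x * (y ^ k)⁻¹ ∈ A.X₂ := by
    intro k
    induction k with
    | zero => intro x hx; simpa using hx
    | succ k ih =>
      intro x hx
      have := hyX _ (ih x hx)
      rw [pow_succ']
      convert this using 1
      group
  have hαk : ∀ (k : ℕ) g, A.φ₂ ⟨y ^ k * Fr.ψ₂ g * (y ^ k)⁻¹, hyk k _ (hX₂ g)⟩ = (α^[k]) g := by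
    intro k
    induction k with
    | zero =>
      intro g
      refine Eq.trans ?_ (hφ₂ g)
      congr 1
      apply Subtype.ext
      simp
    | succ k ih =>
      intro g
      rw [Function.iterate_succ_apply', ← ih g, ← hα]
      congr 1
      apply Subtype.ext
      show y ^ (k+1) * Fr.ψ₂ g * (y ^ (k+1))⁻¹ = y * (y ^ k * Fr.ψ₂ g * (y ^ k)⁻¹) * y⁻¹
      rw [pow_succ']; group
  have hαM : ∀ g, (α^[M]) g = g := by
    intro g
    rw [← hαk M g]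
    refine Eq.trans ?_ (hφ₂ g)
    congr 1
    apply Subtype.ext
    show y ^ M * Fr.ψ₂ g * (y ^ M)⁻¹ = Fr.ψ₂ g
    rw [hyM]; simp
  have hM1 : 1 ≤ M := hM.pos
  have αinj : Function.Injective α := by
    intro g h hgh
    rw [← hαM g, ← hαM h]
    obtain ⟨k, rfl⟩ : ∃ k, M = k + 1 := ⟨M - 1, by omega⟩
    rw [Function.iterate_succ_apply, Function.iterate_succ_apply, hgh]
  -- squares
  have hsq : ∀ t : F, t ≠ 0 → ∃ l : Fˣ, (l : F) ^ 2 = t := by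
    intro t ht
    have hperf : Function.Surjective (frobenius F 2) := by
      rw [← Finite.injective_iff_surjective]
      exact frobenius_inj F 2
    obtain ⟨r, hr⟩ := hperf t
    have hr' : r ^ 2 = t := hr
    have hr0 : r ≠ 0 := by
      rintro rfl
      apply ht
      rw [← hr']; simp
    exact ⟨Units.mk0 r hr0, hr'⟩
  -- the analysis of an involution commuting with its torus conjugates
  obtain ⟨l0, hl0⟩ := hF
  have key : ∀ g : SpecialLinearGroup (Fin 2) F, g * g = 1 →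
      (∀ l : Fˣ, g * (d l * g * (d l)⁻¹) = (d l * g * (d l)⁻¹) * g) →
      g.1 0 0 = 1 ∧ g.1 1 1 = 1 ∧ (g.1 0 1 = 0 ∨ g.1 1 0 = 0) := by
    intro g hgg hg
    have hdet : g.1.det = 1 := g.2
    rw [Matrix.det_fin_two] at hdet
    have h1 : (g * (d l0 * g * (d l0)⁻¹)).1 = ((d l0 * g * (d l0)⁻¹) * g).1 := by rw [hg l0]
    have e1 : (g * (d l0 * g * (d l0)⁻¹)).1 = g.1 * (d l0 * g * (d l0)⁻¹).1 := rfl
    have e2 : ((d l0 * g * (d l0)⁻¹) * g).1 = (d l0 * g * (d l0)⁻¹).1 * g.1 := rfl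
    rw [e1, e2, d_conj_val] at h1
    have h2 := congrFun (congrFun h1 0) 0
    simp [Matrix.mul_apply, Fin.sum_univ_two] at h2
    have hg2 : (g * g).1 = (1 : SpecialLinearGroup (Fin 2) F).1 := by rw [hgg]
    have e3 : (g * g).1 = g.1 * g.1 := rfl
    rw [e3] at hg2
    have h3 := congrFun (congrFun hg2 0) 0
    have h4 := congrFun (congrFun hg2 1) 1
    simp [Matrix.mul_apply, Fin.sum_univ_two] at h3 h4
    have hl00 : (l0 : F) ≠ 0 := l0.ne_zero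
    have two : (2 : F) = 0 := CharTwo.two_eq_zero
    have hbc : g.1 0 1 * g.1 1 0 = 0 := by
      have h5 : g.1 0 1 * g.1 1 0 * (((l0 : F)) ^ 2 - ((l0 : F)⁻¹) ^ 2) = 0 := by
        have hll : (l0 : F) * (l0 : F)⁻¹ = 1 := mul_inv_cancel₀ hl00
        linear_combination (-1 : F) * h2
      rcases mul_eq_zero.mp h5 with h6 | h6
      · exact h6
      · exfalso
        have h7 : ((l0 : F) * l0 - 1) * ((l0 : F) * l0 + 1) = 0 := by
          have hll : (l0 : F) * (l0 : F)⁻¹ = 1 := mul_inv_cancel₀ hl00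
          have h8 : ((l0 : F) ^ 2 - ((l0 : F)⁻¹) ^ 2) * (l0 : F) ^ 2 = 0 := by rw [h6, zero_mul]
          linear_combination h8 + ((l0 : F) * (l0 : F)⁻¹ + 1) * hll
        have h9 : (l0 : F) * l0 - 1 = 0 := by
          rcases mul_eq_zero.mp h7 with h | h
          · exact h
          · linear_combination h - two
        apply hl0
        apply Units.ext
        rw [Units.val_mul]
        simpa using sub_eq_zero.mp h9
    have sq1 : ∀ r : F, r * r = 1 → r = 1 := by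
      intro r hr
      have h7 : (r - 1) * (r - 1) = 0 := by linear_combination hr + (1 - r) * two
      exact sub_eq_zero.mp (mul_self_eq_zero.mp h7)
    refine ⟨sq1 _ (by linear_combination h3 - hbc), sq1 _ (by linear_combination h4 - hbc), ?_⟩
    exact mul_eq_zero.mp hbc
  -- values on the two root groups
  have sqU : ∀ t : F, α (u t) * α (u t) = 1 := fun t => by rw [← map_mul, u_mul_self, map_one]
  have hαu : ∀ (l : Fˣ) (t : F), α (u ((l : F) ^ 2 * t)) = d l * α (u t) * (d l)⁻¹ := by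
    intro l t
    rw [← d_conj_u, map_mul, map_mul, map_inv, hαd]
  have comU : ∀ l : Fˣ, α (u 1) * (d l * α (u 1) * (d l)⁻¹) = (d l * α (u 1) * (d l)⁻¹) * α (u 1) := by
    intro l
    rw [← hαu, ← map_mul, ← map_mul, u_mul, u_mul, add_comm]
  obtain ⟨ha0, ha1, ha2⟩ := key _ (sqU 1) comU
  have hαu1 : ∃ b : F, b ≠ 0 ∧ α (u 1) = u b := by
    rcases ha2 with hb0 | hc0
    · exfalso
      -- `α` interchanges the two root groups
      let Vm : SpecialLinearGroup (Fin 2) F → Prop := fun g => g.1 0 0 = 1 ∧ g.1 1 1 = 1 ∧ g.1 0 1 = 0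
      let Um : SpecialLinearGroup (Fin 2) F → Prop := fun g => g.1 0 0 = 1 ∧ g.1 1 1 = 1 ∧ g.1 1 0 = 0
      have UV : ∀ g, Um g → Vm (α g) := by
        rintro g ⟨g0, g1, g2⟩
        by_cases h : g.1 0 1 = 0
        · have : g = 1 := by
            apply Subtype.ext
            rw [Matrix.eta_fin_two g.1, g0, g1, g2, h]
            exact Matrix.one_fin_two.symm
          rw [this, map_one]
          refine ⟨rfl, rfl, rfl⟩
        · obtain ⟨l, hl⟩ := hsq _ h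
          have : g = u ((l : F) ^ 2 * 1) := by
            apply Subtype.ext
            rw [Matrix.eta_fin_two g.1, g0, g1, g2, mul_one, hl]
            rfl
          rw [this, hαu]
          refine ⟨?_, ?_, ?_⟩ <;> rw [d_conj_val] <;> simp [ha0, ha1, hb0]
      let v1 : SpecialLinearGroup (Fin 2) F := w F * u 1 * w F
      have v1val : v1.1 = !![1, 0; 1, 1] := by
        show !![(0 : F), 1; -1, 0] * !![(1 : F), 1; 0, 1] * !![(0 : F), 1; -1, 0] = _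
        ext i j
        fin_cases i <;> fin_cases j <;> simp [CharTwo.neg_eq]
      have v1d : ∀ l : Fˣ, d l * v1 * (d l)⁻¹ = w F * u (((l⁻¹ : Fˣ) : F) ^ 2 * 1) * w F := by
        intro l
        apply Subtype.ext
        rw [d_conj_val, v1val]
        show _ = !![(0 : F), 1; -1, 0] * !![(1 : F), ((l⁻¹ : Fˣ) : F) ^ 2 * 1; 0, 1] *
          !![(0 : F), 1; -1, 0]
        ext i j
        fin_cases i <;> fin_cases j <;> simp [CharTwo.neg_eq]
      have v1sq : α v1 * α v1 = 1 := by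
        rw [← map_mul]
        have : v1 * v1 = 1 := by
          show w F * u 1 * w F * (w F * u 1 * w F) = 1
          calc w F * u 1 * w F * (w F * u 1 * w F) = w F * u 1 * (w F * w F) * u 1 * w F := by group
            _ = w F * (u 1 * u 1) * w F := by rw [w_mul_w]; group
            _ = 1 := by rw [u_mul_self, mul_one, w_mul_w]
        rw [this, map_one]
      have v1com : ∀ l : Fˣ, α v1 * (d l * α v1 * (d l)⁻¹) = (d l * α v1 * (d l)⁻¹) * α v1 := by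
        intro l
        have h1 : d l * α v1 * (d l)⁻¹ = α (d l * v1 * (d l)⁻¹) := by
          rw [map_mul α (d l * v1) (d l)⁻¹, map_mul α (d l) v1, map_inv, hαd]
        rw [h1, ← map_mul, ← map_mul, v1d]
        congr 1
        show w F * u 1 * w F * (w F * u _ * w F) = w F * u _ * w F * (w F * u 1 * w F)
        calc w F * u 1 * w F * (w F * u (((l⁻¹ : Fˣ) : F) ^ 2 * 1) * w F)
            = w F * u 1 * (w F * w F) * u (((l⁻¹ : Fˣ) : F) ^ 2 * 1) * w F := by group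
          _ = w F * (u 1 * u (((l⁻¹ : Fˣ) : F) ^ 2 * 1)) * w F := by rw [w_mul_w]; group
          _ = w F * (u (((l⁻¹ : Fˣ) : F) ^ 2 * 1) * u 1) * w F := by rw [u_mul, u_mul, add_comm]
          _ = w F * u (((l⁻¹ : Fˣ) : F) ^ 2 * 1) * (w F * w F) * u 1 * w F := by rw [w_mul_w]; group
          _ = _ := by group
      obtain ⟨k0, k1, k2⟩ := key _ v1sq v1com
      have v1U : (α v1).1 1 0 = 0 := by
        rcases k2 with k2 | k2
        · exfalso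
          -- `α v1` is in the image of the positive root group
          have hc1 : (α (u 1)).1 1 0 ≠ 0 := by
            intro h
            have : α (u 1) = 1 := by
              apply Subtype.ext
              rw [Matrix.eta_fin_two (α (u 1)).1, ha0, ha1, hb0, h]
              exact Matrix.one_fin_two.symm
            have := αinj (this.trans (map_one α).symm)
            rw [← u_zero] at this
            exact one_ne_zero (u_injective this)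
          have hc2 : (α v1).1 1 0 ≠ 0 := by
            intro h
            have : α v1 = 1 := by
              apply Subtype.ext
              rw [Matrix.eta_fin_two (α v1).1, k0, k1, k2, h]
              exact Matrix.one_fin_two.symm
            have := αinj (this.trans (map_one α).symm)
            have h2 : v1.1 1 0 = 0 := by rw [this]; rfl
            rw [v1val] at h2
            simp at h2
          obtain ⟨l, hl⟩ := hsq ((α (u 1)).1 1 0 / (α v1).1 1 0) (div_ne_zero hc1 hc2)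
          have h3 : α (u ((l : F) ^ 2 * 1)) = α v1 := by
            rw [hαu]
            apply Subtype.ext
            rw [d_conj_val, Matrix.eta_fin_two (α v1).1, k0, k1, k2, ha0, ha1, hb0]
            have hl0' : (l : F) ≠ 0 := l.ne_zero
            have h4 : ((l : F)⁻¹) ^ 2 * (α (u 1)).1 1 0 = (α v1).1 1 0 := by
              rw [inv_pow, hl]
              field_simp
            rw [h4, mul_zero]
          have h4 := αinj h3
          have h5 : v1.1 1 0 = 0 := by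
            rw [← h4]; rfl
          rw [v1val] at h5
          simp at h5
        · exact k2
      have VU : ∀ g, Vm g → Um (α g) := by
        rintro g ⟨g0, g1, g2⟩
        by_cases h : g.1 1 0 = 0
        · have : g = 1 := by
            apply Subtype.ext
            rw [Matrix.eta_fin_two g.1, g0, g1, g2, h]
            exact Matrix.one_fin_two.symm
          rw [this, map_one]
          refine ⟨rfl, rfl, rfl⟩
        · obtain ⟨l, hl⟩ := hsq _ h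
          have : g = d l⁻¹ * v1 * (d l⁻¹)⁻¹ := by
            apply Subtype.ext
            rw [d_conj_val, Matrix.eta_fin_two g.1, g0, g1, g2, v1val]
            simp [hl]
          rw [this, map_mul, map_mul, map_inv, hαd]
          refine ⟨?_, ?_, ?_⟩ <;> rw [d_conj_val] <;> simp [k0, k1, v1U]
      have odd : ∀ k : ℕ, ∀ g, Um g → Vm ((α^[2 * k + 1]) g) := by
        intro k
        induction k with
        | zero => intro g hg; exact UV g hg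
        | succ k ih =>
          intro g hg
          have : 2 * (k + 1) + 1 = (2 * k + 1) + 2 := by ring
          rw [this, Function.iterate_add_apply]
          exact ih _ (VU _ (UV _ hg))
      obtain ⟨k, hk⟩ := hM
      have h1 := odd k (u 1) ⟨rfl, rfl, rfl⟩
      rw [← hk, hαM] at h1
      have h2 : (u (1 : F)).1 0 1 = 0 := h1.2.2
      have h3 : (u (1 : F)).1 0 1 = 1 := rfl
      rw [h3] at h2
      exact one_ne_zero h2
    · refine ⟨(α (u 1)).1 0 1, ?_, ?_⟩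
      · intro h
        have : α (u 1) = 1 := by
          apply Subtype.ext
          rw [Matrix.eta_fin_two (α (u 1)).1, ha0, ha1, hc0, h]
          exact Matrix.one_fin_two.symm
        have := αinj (this.trans (map_one α).symm)
        rw [← u_zero] at this
        exact one_ne_zero (u_injective this)
      · apply Subtype.ext
        rw [Matrix.eta_fin_two (α (u 1)).1, ha0, ha1, hc0]
        rfl
  obtain ⟨b, hb0, hb1⟩ := hαu1
  obtain ⟨l, hl⟩ := hsq b hb0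
  -- `α` is conjugation by `d l`
  have hαconj : ∀ g, α g = d l * g * (d l)⁻¹ := by
    let β : SpecialLinearGroup (Fin 2) F →* SpecialLinearGroup (Fin 2) F :=
      { toFun := fun g => (d l)⁻¹ * α g * d l
        map_one' := by rw [map_one]; group
        map_mul' := fun g h => by rw [map_mul]; group }
    have hβ := hom_eq_id ⟨l0, hl0⟩ β
      (fun m => by
        show (d l)⁻¹ * α (d m) * d l = d m
        rw [hαd, d_inv, d_mul, d_mul, mul_comm l⁻¹ m, inv_mul_cancel_right])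
      (fun t => by
        show (d l)⁻¹ * α (u t) * d l = u t
        by_cases ht : t = 0
        · rw [ht, u_zero, map_one]; group
        · obtain ⟨m, hm⟩ := hsq t ht
          have h1 : u t = u ((m : F) ^ 2 * 1) := by rw [mul_one, hm]
          rw [h1, hαu, hb1, d_conj_u]
          have h2 : u ((m : F) ^ 2 * b) = d l * u ((m : F) ^ 2 * 1) * (d l)⁻¹ := by
            rw [d_conj_u, hl]; congr 1; ring
          rw [h2]; group)
    intro g
    have := hβ g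
    have h1 : (d l)⁻¹ * α g * d l = g := this
    calc α g = d l * ((d l)⁻¹ * α g * d l) * (d l)⁻¹ := by group
      _ = _ := by rw [h1]
  -- the element `y'`
  refine ⟨l, ?_⟩
  set y' := (Fr.ψ₂ (d l))⁻¹ * y with hy'
  have hy'N : ∀ x ∈ A.V₂, y' * x * y'⁻¹ ∈ A.V₂ := by
    intro x hx
    have h1 := X₂V₂ _ (A.X₂.inv_mem (hX₂ (d l))) _ (hyV x hx)
    convert h1 using 1
    rw [hy']; group
  have hy'z : y' * z = z * y' := by
    have h1 : (Fr.ψ₂ (d l))⁻¹ * z = z * (Fr.ψ₂ (d l))⁻¹ := by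
      rw [← map_inv]; exact Fr.cent₂ _ z hz
    calc y' * z = (Fr.ψ₂ (d l))⁻¹ * (y * z) := by rw [hy']; group
      _ = ((Fr.ψ₂ (d l))⁻¹ * z) * y := by rw [hyz.eq]; group
      _ = _ := by rw [h1, hy']; group
  have hy'M : y' ^ M = 1 := by
    have h1 : Commute (Fr.ψ₂ (d l))⁻¹ y := (hyd l).symm.inv_left
    rw [hy', h1.mul_pow, hyM, mul_one, inv_pow, ← map_pow]
    have h2 : (d l : SpecialLinearGroup (Fin 2) F) ^ M = 1 := by
      obtain ⟨k, rfl⟩ := hqM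
      have h3 : ∀ n : ℕ, (d l : SpecialLinearGroup (Fin 2) F) ^ n = d (l ^ n) := by
        intro n
        induction n with
        | zero => rw [pow_zero, pow_zero, d_one]
        | succ n ih => rw [pow_succ, pow_succ, ih, d_mul]
      rw [h3, pow_mul, pow_card_eq_one', one_pow, d_one]
    rw [h2, map_one, inv_one]
  have hy'X : ∀ (x : G) (hx : x ∈ A.X₂), x⁻¹ * (y' * x * y'⁻¹) ∈ A.V₂ := by
    intro x hx
    have h0 : (Fr.ψ₂ (d l))⁻¹ ∈ A.X₂ := A.X₂.inv_mem (hX₂ _)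
    have h1 : y' * x * y'⁻¹ ∈ A.X₂ := by
      have h2 := A.X₂.mul_mem (A.X₂.mul_mem h0 (hyX x hx)) (A.X₂.inv_mem h0)
      convert h2 using 1
      rw [hy']; group
    rw [← ker _ (A.X₂.mul_mem (A.X₂.inv_mem hx) h1)]
    have h2 : (⟨x⁻¹ * (y' * x * y'⁻¹), A.X₂.mul_mem (A.X₂.inv_mem hx) h1⟩ : A.X₂) =
      ⟨x, hx⟩⁻¹ * (⟨Fr.ψ₂ (d l), hX₂ _⟩⁻¹ * ⟨y * x * y⁻¹, hyX x hx⟩ * ⟨Fr.ψ₂ (d l), hX₂ _⟩) := by
      apply Subtype.ext
      show x⁻¹ * (y' * x * y'⁻¹) = x⁻¹ * ((Fr.ψ₂ (d l))⁻¹ * (y * x * y⁻¹) * Fr.ψ₂ (d l))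
      rw [hy']; group
    rw [h2, map_mul, map_mul, map_mul, map_inv, map_inv, hφ₂, hα x hx, hαconj]
    group
  -- conjugation by `y'` commutes with conjugation by elements of `X₂`
  have hcommute : ∀ g ∈ A.X₂, ∀ x ∈ A.V₂,
      y' * (g * x * g⁻¹) * y'⁻¹ = g * (y' * x * y'⁻¹) * g⁻¹ := by
    intro g hg x hx
    have h1 := hy'X g hg
    set v0 := g⁻¹ * (y' * g * y'⁻¹) with hv0
    have h2 : y' * g = g * v0 * y' := by rw [hv0]; group
    have h3 := V₂comm v0 h1 _ (hy'N x hx)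
    calc y' * (g * x * g⁻¹) * y'⁻¹ = (y' * g) * x * (y' * g)⁻¹ := by group
      _ = g * (v0 * (y' * x * y'⁻¹)) * v0⁻¹ * g⁻¹ := by rw [h2]; group
      _ = _ := by rw [h3]; group
  -- the two subgroups
  let C : Subgroup G :=
    { carrier := {x | x ∈ A.V₂ ∧ y' * x * y'⁻¹ = x}
      mul_mem' := by
        rintro a b ⟨ha, ha'⟩ ⟨hb, hb'⟩
        refine ⟨A.V₂.mul_mem ha hb, ?_⟩
        calc y' * (a * b) * y'⁻¹ = (y' * a * y'⁻¹) * (y' * b * y'⁻¹) := by group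
          _ = a * b := by rw [ha', hb']
      one_mem' := ⟨A.V₂.one_mem, by group⟩
      inv_mem' := by
        rintro a ⟨ha, ha'⟩
        refine ⟨A.V₂.inv_mem ha, ?_⟩
        calc y' * a⁻¹ * y'⁻¹ = (y' * a * y'⁻¹)⁻¹ := by group
          _ = a⁻¹ := by rw [ha'] }
  let D : Subgroup G :=
    { carrier := {x | ∃ v ∈ A.V₂, x = y' * v * y'⁻¹ * v⁻¹}
      mul_mem' := by
        rintro a b ⟨v, hv, rfl⟩ ⟨v', hv', rfl⟩
        refine ⟨v * v', A.V₂.mul_mem hv hv', ?_⟩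
        have h1 := V₂comm _ (A.V₂.inv_mem hv) _ (hy'N v' hv')
        have h2 := V₂comm _ (A.V₂.inv_mem hv) _ (A.V₂.inv_mem hv')
        calc y' * v * y'⁻¹ * v⁻¹ * (y' * v' * y'⁻¹ * v'⁻¹)
            = y' * v * y'⁻¹ * (v⁻¹ * (y' * v' * y'⁻¹)) * v'⁻¹ := by group
          _ = y' * v * y'⁻¹ * (y' * v' * y'⁻¹) * (v⁻¹ * v'⁻¹) := by rw [h1]; group
          _ = y' * v * y'⁻¹ * (y' * v' * y'⁻¹) * (v'⁻¹ * v⁻¹) := by rw [h2]
          _ = _ := by group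
      one_mem' := ⟨1, A.V₂.one_mem, by group⟩
      inv_mem' := by
        rintro a ⟨v, hv, rfl⟩
        refine ⟨v⁻¹, A.V₂.inv_mem hv, ?_⟩
        have h1 := V₂comm _ (hy'N _ (A.V₂.inv_mem hv)) _ hv
        calc (y' * v * y'⁻¹ * v⁻¹)⁻¹ = v * (y' * v⁻¹ * y'⁻¹) := by group
          _ = _ := by rw [← h1]; group }
  have hCV : C ≤ A.V₂ := fun x hx => hx.1
  have hDV : D ≤ A.V₂ := by
    rintro x ⟨v, hv, rfl⟩
    exact A.V₂.mul_mem (hy'N v hv) (A.V₂.inv_mem hv)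
  have hCinv : ∀ g, ∀ x ∈ C, Fr.ψ₂ g * x * (Fr.ψ₂ g)⁻¹ ∈ C := by
    rintro g x ⟨hx, hx'⟩
    refine ⟨X₂V₂ _ (hX₂ g) x hx, ?_⟩
    rw [hcommute _ (hX₂ g) x hx, hx']
  have hDinv : ∀ g, ∀ x ∈ D, Fr.ψ₂ g * x * (Fr.ψ₂ g)⁻¹ ∈ D := by
    rintro g x ⟨v, hv, rfl⟩
    refine ⟨Fr.ψ₂ g * v * (Fr.ψ₂ g)⁻¹, X₂V₂ _ (hX₂ g) v hv, ?_⟩
    rw [hcommute _ (hX₂ g) v hv]
    group
  -- a full invariant subgroup contains `Z₂`
  have hfull : ∀ W : Subgroup G, W ≤ A.V₂ → (∀ g, ∀ x ∈ W, Fr.ψ₂ g * x * (Fr.ψ₂ g)⁻¹ ∈ W) →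
      (∃ x ∈ W, e₂ x ≠ 0) → A.V₂ ≤ W := by
    intro W hWV hWinv hWne
    have h1 := irr n₂ W hWV hWinv hWne
    have h2 : Fr.Z₂ ≤ W := by
      apply hZ₂le
      intro s t
      obtain ⟨x, hx, hxe⟩ := h1 (e₂ (Fr.ψ₁ (u s)))
      set v := Fr.ψ₁ (u s) with hv
      have hvV : v ∈ A.V₂ := ha s
      have hz' : x⁻¹ * v ∈ Fr.Z₂ := by
        rw [← n₂.zero _ (A.V₂.mul_mem (A.V₂.inv_mem (hWV hx)) hvV), n₂.mul _ (A.V₂.inv_mem (hWV hx)) _ hvV,
          n₂.inv (hWV hx), hxe, neg_add_cancel]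
      have h3 : Fr.ψ₂ (u t) * (x⁻¹ * v) = (x⁻¹ * v) * Fr.ψ₂ (u t) := Fr.cent₂ (u t) _ hz'
      have h4 : v * Fr.ψ₂ (u t) * v⁻¹ * (Fr.ψ₂ (u t))⁻¹ = x * (Fr.ψ₂ (u t) * x⁻¹ * (Fr.ψ₂ (u t))⁻¹) := by
        calc v * Fr.ψ₂ (u t) * v⁻¹ * (Fr.ψ₂ (u t))⁻¹
            = x * ((x⁻¹ * v) * Fr.ψ₂ (u t)) * v⁻¹ * (Fr.ψ₂ (u t))⁻¹ := by group
          _ = x * (Fr.ψ₂ (u t) * (x⁻¹ * v)) * v⁻¹ * (Fr.ψ₂ (u t))⁻¹ := by rw [h3]
          _ = _ := by group
      rw [h4]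
      exact W.mul_mem hx (hWinv _ _ (W.inv_mem hx))
    intro v hv
    obtain ⟨x, hx, hxe⟩ := h1 (e₂ v)
    have hz' : x⁻¹ * v ∈ Fr.Z₂ := by
      rw [← n₂.zero _ (A.V₂.mul_mem (A.V₂.inv_mem (hWV hx)) hv), n₂.mul _ (A.V₂.inv_mem (hWV hx)) _ hv,
        n₂.inv (hWV hx), hxe, neg_add_cancel]
    have : v = x * (x⁻¹ * v) := by group
    rw [this]
    exact W.mul_mem hx (h2 hz')
  -- `D ≤ Z₂`
  have hD0 : ∀ x ∈ D, e₂ x = 0 := by
    by_contra hcon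
    push Not at hcon
    have h1 := hfull D hDV hDinv hcon
    obtain ⟨v, hv, hzv⟩ := h1 (hZV z hz)
    have h2 : ∀ k : ℕ, y' ^ k * v * (y' ^ k)⁻¹ = z ^ k * v := by
      intro k
      induction k with
      | zero => simp
      | succ k ih =>
        have h3 : y' * v * y'⁻¹ = z * v := by rw [hzv]; group
        have h4 : Commute y' (z ^ k) := (show Commute y' z from hy'z).pow_right k
        rw [pow_succ']
        calc y' * y' ^ k * v * (y' * y' ^ k)⁻¹ = y' * (y' ^ k * v * (y' ^ k)⁻¹) * y'⁻¹ := by group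
          _ = (y' * z ^ k) * v * y'⁻¹ := by rw [ih]; group
          _ = z ^ k * (y' * v * y'⁻¹) := by rw [h4.eq]; group
          _ = _ := by rw [h3, pow_succ]; group
    have h3 := h2 M
    rw [hy'M] at h3
    have h4 : z ^ M = 1 := by
      have : (1 : G) * v * 1⁻¹ = 1 * v := by group
      rw [this] at h3
      exact (mul_right_cancel h3).symm
    have h5 : z * z = 1 := A.sq₂ z (hZV z hz)
    obtain ⟨k, hk⟩ := hM
    rw [hk, pow_succ, pow_mul, pow_two, h5, one_pow, one_mul] at h4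
    exact hz1 h4
  -- some commutator is a nontrivial element of `C`
  have hCfull : A.V₂ ≤ C := by
    apply hfull C hCV hCinv
    have hcomC : ∀ v ∈ A.V₂, ∀ g, v * (Fr.ψ₂ g * v⁻¹ * (Fr.ψ₂ g)⁻¹) ∈ C := by
      intro v hv g
      refine ⟨A.V₂.mul_mem hv (X₂V₂ _ (hX₂ g) _ (A.V₂.inv_mem hv)), ?_⟩
      set ω := y' * v * y'⁻¹ * v⁻¹ with hω
      have hωV : ω ∈ A.V₂ := hDV ⟨v, hv, rfl⟩
      have hωZ : ω ∈ Fr.Z₂ := (n₂.zero ω hωV).mp (hD0 ω ⟨v, hv, rfl⟩)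
      have h1 : y' * v * y'⁻¹ = ω * v := by rw [hω]; group
      have h2 : y' * v⁻¹ * y'⁻¹ = v⁻¹ * ω⁻¹ := by
        calc y' * v⁻¹ * y'⁻¹ = (y' * v * y'⁻¹)⁻¹ := by group
          _ = _ := by rw [h1]; group
      have h3 : Fr.ψ₂ g * ω = ω * Fr.ψ₂ g := Fr.cent₂ g ω hωZ
      have h4 : ω * v = v * ω := V₂comm ω hωV v hv
      have h5 : ω⁻¹ * (Fr.ψ₂ g)⁻¹ = (Fr.ψ₂ g)⁻¹ * ω⁻¹ := by
        calc ω⁻¹ * (Fr.ψ₂ g)⁻¹ = (Fr.ψ₂ g * ω)⁻¹ := by group
          _ = _ := by rw [h3]; group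
      have h6 : v * (Fr.ψ₂ g * v⁻¹ * (Fr.ψ₂ g)⁻¹) ∈ A.V₂ :=
        A.V₂.mul_mem hv (X₂V₂ _ (hX₂ g) _ (A.V₂.inv_mem hv))
      have h7 := V₂comm ω hωV _ h6
      calc y' * (v * (Fr.ψ₂ g * v⁻¹ * (Fr.ψ₂ g)⁻¹)) * y'⁻¹
          = (y' * v * y'⁻¹) * (y' * (Fr.ψ₂ g * v⁻¹ * (Fr.ψ₂ g)⁻¹) * y'⁻¹) := by group
        _ = (ω * v) * (Fr.ψ₂ g * (v⁻¹ * ω⁻¹) * (Fr.ψ₂ g)⁻¹) := by
            rw [h1, hcommute _ (hX₂ g) _ (A.V₂.inv_mem hv), h2]
        _ = (ω * v) * (Fr.ψ₂ g * v⁻¹ * (ω⁻¹ * (Fr.ψ₂ g)⁻¹)) := by group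
        _ = ω * (v * (Fr.ψ₂ g * v⁻¹ * (Fr.ψ₂ g)⁻¹)) * ω⁻¹ := by rw [h5]; group
        _ = _ := by rw [h7]; group
    set v := Fr.ψ₁ (u 1) with hv
    have hvV : v ∈ A.V₂ := ha 1
    have hvne : e₂ v ≠ 0 := by
      intro h
      have h1 := (n₂.zero v hvV).mp h
      obtain ⟨t, ht⟩ := (Fr.mem_Z₂ v).mp h1
      have www : Fr.ψ₁ (w F) * Fr.ψ₁ (w F) = 1 := by rw [← map_mul, w_mul_w, map_one]
      have winv : (Fr.ψ₁ (w F))⁻¹ = Fr.ψ₁ (w F) := inv_eq_of_mul_eq_one_left www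
      have h2 := X₁V₁ _ (hX₁ (w F)) _ (hb t)
      rw [winv, ← ht] at h2
      have h3 : A.φ₁ ⟨v, hX₁ _⟩ = 1 := by
        rw [← MonoidHom.mem_ker, A.ker₁, Subgroup.mem_subgroupOf]
        exact h2
      rw [hφ₁, ← u_zero] at h3
      exact one_ne_zero (u_injective h3)
    have hval : ∀ g, e₂ (v * (Fr.ψ₂ g * v⁻¹ * (Fr.ψ₂ g)⁻¹)) = e₂ v - g.1 *ᵥ e₂ v := by
      intro g
      rw [n₂.mul _ hvV _ (X₂V₂ _ (hX₂ g) _ (A.V₂.inv_mem hvV)), n₂.equi _ _ (A.V₂.inv_mem hvV),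
        n₂.inv hvV, Matrix.mulVec_neg, sub_eq_add_neg]
    by_cases h1 : e₂ v 1 = 0
    · refine ⟨_, hcomC v hvV (w F), ?_⟩
      rw [hval, w_mulVec]
      intro h2
      apply hvne
      have h3 := congrFun h2 0
      simp [h1] at h3
      ext i
      fin_cases i
      · exact h3
      · exact h1
    · refine ⟨_, hcomC v hvV (u 1), ?_⟩
      rw [hval, u_mulVec]
      intro h2
      have h3 := congrFun h2 0
      simp at h3
      exact h1 h3
  -- conclusion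
  have hy'1 : y' = 1 := by
    have h1 : y' ∈ Subgroup.centralizer (A.V₂ : Set G) := by
      rw [Subgroup.mem_centralizer_iff]
      intro x hx
      have h2 := (hCfull hx).2
      rw [mul_inv_eq_iff_eq_mul] at h2
      exact h2.symm
    have h2 := A.sq₂ y' (A.cent₂ h1)
    obtain ⟨k, hk⟩ := hM
    rw [hk, pow_succ, pow_mul, pow_two, h2, one_pow, one_mul] at hy'M
    exact hy'M
  rw [hy', inv_mul_eq_one] at hy'1
  exact hy'1.symm

/-- the centralizer of the torus and of an element of `Z₂` -/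
theorem cent_torus [Finite F] [Finite G] (hF : ∃ l : Fˣ, l * l ≠ 1) (A : Amalgam F G) (Fr : Frame F G)
    (hX₁ : ∀ g, Fr.ψ₁ g ∈ A.X₁) (hφ₁ : ∀ g, A.φ₁ ⟨Fr.ψ₁ g, hX₁ g⟩ = g)
    (hX₂ : ∀ g, Fr.ψ₂ g ∈ A.X₂) (hφ₂ : ∀ g, A.φ₂ ⟨Fr.ψ₂ g, hX₂ g⟩ = g)
    (hZ₂ : Fr.Z₂ = A.V₂ ⊓ Subgroup.centralizer (A.X₂ : Set G))
    (ha : ∀ t, Fr.ψ₁ (u t) ∈ A.V₂) (hb : ∀ t, Fr.ψ₂ (u t) ∈ A.V₁)
    (e₁ e₂ : G → Fin 2 → F)
    (n₁ : NatMod Fr.ψ₁ A.V₁ Fr.Z₁ e₁) (n₂ : NatMod Fr.ψ₂ A.V₂ Fr.Z₂ e₂)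
    (hcent : ∀ z ∈ Fr.Z₂, z ≠ 1 →
      Subgroup.centralizer ({z} : Set G) ≤ Subgroup.normalizer (A.V₂ : Set G))
    (x : G) (z : G) (hz : z ∈ Fr.Z₂) (hz1 : z ≠ 1) (hxz : Commute x z)
    (hxd : ∀ l : Fˣ, Commute x (Fr.ψ₂ (d l))) :
    ∃ v ∈ Fr.Z₂, ∃ l : Fˣ, x = v * Fr.ψ₂ (d l) := by
  have hxN : x ∈ Subgroup.normalizer (A.V₂ : Set G) :=
    hcent z hz hz1 (Subgroup.mem_centralizer_singleton_iff.mpr hxz.eq)
  set N := Subgroup.normalizer (A.V₂ : Set G) with hN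
  have ker : ∀ (x : G) (hx : x ∈ A.X₂), A.φ₂ ⟨x, hx⟩ = 1 ↔ x ∈ A.V₂ := by
    intro x hx
    rw [← MonoidHom.mem_ker, A.ker₂, Subgroup.mem_subgroupOf]
  have hnorm : (A.X₂.subgroupOf N).Normal := by
    refine ⟨fun a ha g => ?_⟩
    rw [Subgroup.mem_subgroupOf] at ha ⊢
    exact A.norm₂ g.1 g.2 a.1 ha
  set m := (A.X₂.subgroupOf N).index with hm
  have hmodd : Odd m := A.odd₂
  have hxm : x ^ m ∈ A.X₂ := by
    have := Subgroup.pow_index_mem (A.X₂.subgroupOf N) (⟨x, hxN⟩ : N)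
    rw [Subgroup.mem_subgroupOf] at this
    exact this
  -- `x ^ m = v * ψ₂ (d c)`
  obtain ⟨c, hc⟩ := diag_of_comm hF (A.φ₂ ⟨x ^ m, hxm⟩) (fun l => by
    rw [← hφ₂ (d l), ← map_mul, ← map_mul]
    congr 1
    apply Subtype.ext
    exact ((hxd l).pow_left m).eq)
  obtain ⟨l0, hl0⟩ := hF
  set v := x ^ m * (Fr.ψ₂ (d c))⁻¹ with hv
  have hvV : v ∈ A.V₂ := by
    rw [← ker v (A.X₂.mul_mem hxm (A.X₂.inv_mem (hX₂ _)))]
    have : (⟨v, A.X₂.mul_mem hxm (A.X₂.inv_mem (hX₂ _))⟩ : A.X₂) = ⟨x ^ m, hxm⟩ * ⟨Fr.ψ₂ (d c), hX₂ _⟩⁻¹ := rfl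
    rw [this, map_mul, map_inv, hc, hφ₂, mul_inv_cancel]
  have hdd : ∀ l l' : Fˣ, Commute (Fr.ψ₂ (d l)) (Fr.ψ₂ (d l')) := by
    intro l l'
    show Fr.ψ₂ (d l) * Fr.ψ₂ (d l') = Fr.ψ₂ (d l') * Fr.ψ₂ (d l)
    rw [← map_mul, ← map_mul, d_mul, d_mul, mul_comm]
  have hvd : ∀ l : Fˣ, Commute v (Fr.ψ₂ (d l)) := fun l =>
    Commute.mul_left ((hxd l).pow_left m) ((hdd c l).inv_left)
  have hvZ : v ∈ Fr.Z₂ := by
    rw [← n₂.zero v hvV]
    have h1 := n₂.equi (d l0) v hvV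
    rw [(hvd l0).symm.eq, mul_inv_cancel_right, d_mulVec] at h1
    have hl1 : (l0 : F) ≠ 1 := by
      intro h
      apply hl0
      have : l0 = 1 := Units.ext h
      rw [this, one_mul]
    have hl00 : (l0 : F) ≠ 0 := l0.ne_zero
    ext i
    fin_cases i
    · have h2 := congrFun h1 0
      simp only [Matrix.cons_val_zero] at h2
      have h3 : ((l0 : F) - 1) * e₂ v 0 = 0 := by linear_combination -h2
      exact (mul_eq_zero.mp h3).resolve_left (sub_ne_zero.mpr hl1)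
    · have h2 := congrFun h1 1
      simp only [Matrix.cons_val_one, Matrix.cons_val_fin_one] at h2
      have h3 : ((l0 : F) - 1) * e₂ v 1 = 0 := by
        have h4 : (l0 : F) * e₂ v 1 = (l0 : F) * ((l0 : F)⁻¹ * e₂ v 1) := by rw [← h2]
        rw [← mul_assoc, mul_inv_cancel₀ hl00, one_mul] at h4
        linear_combination h4
      exact (mul_eq_zero.mp h3).resolve_left (sub_ne_zero.mpr hl1)
  have hvv : v * v = 1 := A.sq₂ v hvV
  -- orders
  set q := Nat.card Fˣ with hq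
  have hqodd : Odd q := by
    have h1 : Nat.card Fˣ = Nat.card F - 1 := Nat.card_units F
    have h2 : Even (Nat.card F) := by
      have : Fintype F := Fintype.ofFinite F
      obtain ⟨n, -, hn⟩ := FiniteField.card F 2
      rw [Nat.card_eq_fintype_card, hn]
      exact (Nat.even_pow' n.ne_zero).mpr even_two
    have h3 : 0 < Nat.card F := Nat.card_pos
    rw [hq, h1]
    rcases h2 with ⟨k, hk⟩
    exact ⟨k - 1, by omega⟩
  have hdq : ∀ l : Fˣ, (Fr.ψ₂ (d l)) ^ q = 1 := by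
    intro l
    have h3 : ∀ n : ℕ, (d l : SpecialLinearGroup (Fin 2) F) ^ n = d (l ^ n) := by
      intro n
      induction n with
      | zero => rw [pow_zero, pow_zero, d_one]
      | succ n ih => rw [pow_succ, pow_succ, ih, d_mul]
    rw [← map_pow, h3, hq, pow_card_eq_one', d_one, map_one]
  have hodd_pow : ∀ k : ℕ, Odd k → v ^ k = v := by
    rintro k ⟨j, rfl⟩
    rw [pow_succ, pow_mul, pow_two, hvv, one_pow, one_mul]
  have hxM : x ^ (m * q) = v := by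
    have h1 : x ^ m = v * Fr.ψ₂ (d c) := by rw [hv]; group
    rw [pow_mul, h1, (hvd c).mul_pow, hdq, mul_one, hodd_pow q hqodd]
  have hModd : Odd (m * q) := hmodd.mul hqodd
  have hxv : Commute x v := by
    rw [← hxM]
    exact (Commute.refl x).pow_right _
  have hyM : (x * v) ^ (m * q) = 1 := by
    rw [hxv.mul_pow, hxM, hodd_pow _ hModd, hvv]
  have hvz : Commute v z := by
    have h1 := A.sq₂ _ (A.V₂.mul_mem hvV (by rw [hZ₂] at hz; exact hz.1))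
    have h2 := A.sq₂ z (by rw [hZ₂] at hz; exact hz.1)
    show v * z = z * v
    calc v * z = v * (v * z * (v * z)) * z := by rw [h1]; group
      _ = (v * v) * z * v * (z * z) := by group
      _ = z * v := by rw [h2, hvv]; group
  have hvN : v ∈ N := Subgroup.le_normalizer hvV
  obtain ⟨l, hl⟩ := torus_of_odd ⟨l0, hl0⟩ A Fr hX₁ hφ₁ hX₂ hφ₂ hZ₂ ha hb e₁ e₂ n₁ n₂ z hz hz1
    (x * v) (N.mul_mem hxN hvN) (m * q) hModd (Dvd.intro_left m rfl) hyM (hxz.mul_left hvz)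
    (fun l => (hxd l).mul_left (hvd l))
  refine ⟨v, hvZ, l, ?_⟩
  rw [(hvd l).eq, ← hl, mul_assoc, hvv, mul_one]

end Cent

section Final

variable {F : Type*} [Field F] [CharP F 2] {G : Type*} [Group G]

/-- **The braid relation.** -/
theorem braid_of_amalgam [Finite F] [Finite G] (hF : 4 ≤ Nat.card F) (A : Amalgam F G)
    (Fr : Frame F G)
    (hX₁ : ∀ g, ∃ h : Fr.ψ₁ g ∈ A.X₁, A.φ₁ ⟨Fr.ψ₁ g, h⟩ = g)
    (hX₂ : ∀ g, ∃ h : Fr.ψ₂ g ∈ A.X₂, A.φ₂ ⟨Fr.ψ₂ g, h⟩ = g)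
    (hZ₂ : Fr.Z₂ = A.V₂ ⊓ Subgroup.centralizer (A.X₂ : Set G))
    (ha : ∀ t, Fr.ψ₁ (u t) ∈ A.V₂) (hb : ∀ t, Fr.ψ₂ (u t) ∈ A.V₁)
    (e₁ e₂ : G → Fin 2 → F)
    (n₁ : NatMod Fr.ψ₁ A.V₁ Fr.Z₁ e₁) (n₂ : NatMod Fr.ψ₂ A.V₂ Fr.Z₂ e₂)
    (norm₁ : ∀ (m : Fˣ) g, ∃ g', Fr.ψ₂ (d m) * Fr.ψ₁ g * (Fr.ψ₂ (d m))⁻¹ = Fr.ψ₁ g')
    (norm₂ : ∀ (m : Fˣ) g, ∃ g', Fr.ψ₁ (d m) * Fr.ψ₂ g * (Fr.ψ₁ (d m))⁻¹ = Fr.ψ₂ g')
    (hcent : ∀ z ∈ Fr.Z₂, z ≠ 1 →
      Subgroup.centralizer ({z} : Set G) ≤ Subgroup.normalizer (A.V₂ : Set G)) :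
    Commute (Fr.ψ₂ (w F)) (Fr.ψ₁ (w F) * Fr.ψ₂ (w F) * Fr.ψ₁ (w F)) := by
  have hF' := exists_sq_ne_one (F := F) hF
  have www : Fr.ψ₁ (w F) * Fr.ψ₁ (w F) = 1 := by rw [← map_mul, w_mul_w, map_one]
  apply braid_of hF Fr.ψ₂ Fr.inj₂ (Fr.ψ₁ (w F)) www (hi_of_frame hF' Fr norm₁ norm₂)
  intro x t ht hx hxd
  have hz : Fr.ψ₁ (w F) * Fr.ψ₂ (u t) * Fr.ψ₁ (w F) ∈ Fr.Z₂ := (Fr.mem_Z₂ _).mpr ⟨t, rfl⟩
  have hz1 : Fr.ψ₁ (w F) * Fr.ψ₂ (u t) * Fr.ψ₁ (w F) ≠ 1 := by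
    intro h
    apply ht
    apply u_injective
    rw [u_zero]
    apply Fr.inj₂
    rw [map_one]
    calc Fr.ψ₂ (u t) = 1 * Fr.ψ₂ (u t) * 1 := by group
      _ = (Fr.ψ₁ (w F) * Fr.ψ₁ (w F)) * Fr.ψ₂ (u t) * (Fr.ψ₁ (w F) * Fr.ψ₁ (w F)) := by rw [www]
      _ = Fr.ψ₁ (w F) * (Fr.ψ₁ (w F) * Fr.ψ₂ (u t) * Fr.ψ₁ (w F)) * Fr.ψ₁ (w F) := by group
      _ = 1 := by rw [h, mul_one, www]
  obtain ⟨v, hv, l, hl⟩ := cent_torus hF' A Fr (fun g => (hX₁ g).1) (fun g => (hX₁ g).2)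
    (fun g => (hX₂ g).1) (fun g => (hX₂ g).2) hZ₂ ha hb e₁ e₂ n₁ n₂ hcent x _ hz hz1 hx hxd
  obtain ⟨s, hs⟩ := (Fr.mem_Z₂ v).mp hv
  exact ⟨s, l, by rw [hl, hs]⟩

end Final

end Cfsg.Agent.ClassTwo.Sp4Braid
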