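/-
Facts about `SL(2,F)` in characteristic two used in the recognition of `PSp 2 F`.
-/
import Mathlib
import Cfsg.Agent.ClassTwo.Sp4Defs

set_option autoImplicit false
set_option linter.unusedSimpArgs false

namespace Cfsg.Agent.ClassTwo.Sp4SL2

open Matrix
open Cfsg.Agent.ClassTwo.Sp4Defs

section Basic

variable {F : Type*} [Field F]

theorem ext_iff {g h : SpecialLinearGroup (Fin 2) F} :
    g = h ↔ g.1 0 0 = h.1 0 0 ∧ g.1 0 1 = h.1 0 1 ∧ g.1 1 0 = h.1 1 0 ∧ g.1 1 1 = h.1 1 1 := by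
  constructor
  · rintro rfl; simp
  · rintro ⟨h1, h2, h3, h4⟩
    apply Subtype.ext
    ext i j
    fin_cases i <;> fin_cases j <;> simpa

theorem det_eq (g : SpecialLinearGroup (Fin 2) F) :
    g.1 0 0 * g.1 1 1 - g.1 0 1 * g.1 1 0 = 1 := by
  have := g.2
  rwa [Matrix.det_fin_two] at this

@[simp] theorem u_val (t : F) : (u t).1 = !![1, t; 0, 1] := rfl
@[simp] theorem v_val (t : F) : (v t).1 = !![1, 0; t, 1] := rfl
@[simp] theorem w_val : (w F).1 = !![0, 1; -1, 0] := rfl
@[simp] theorem d_val (l : Fˣ) : (d l).1 = !![(l : F), 0; 0, ((l⁻¹ : Fˣ) : F)] := rfl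

theorem mul_val (g h : SpecialLinearGroup (Fin 2) F) : (g * h).1 = g.1 * h.1 := rfl

theorem mul_val_apply (g h : SpecialLinearGroup (Fin 2) F) (i j : Fin 2) :
    (g * h).1 i j = g.1 i 0 * h.1 0 j + g.1 i 1 * h.1 1 j := by
  rw [mul_val, Matrix.mul_apply, Fin.sum_univ_two]

theorem inv_val (g : SpecialLinearGroup (Fin 2) F) :
    (g⁻¹).1 = !![g.1 1 1, -g.1 0 1; -g.1 1 0, g.1 0 0] := by
  have : (g⁻¹).1 = Matrix.adjugate g.1 := rfl
  rw [this, Matrix.adjugate_fin_two]

theorem u_mul (s t : F) : u s * u t = u (s + t) := by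
  rw [ext_iff]; simp [mul_val, Matrix.mul_apply, Fin.sum_univ_two, add_comm]

theorem v_mul (s t : F) : v s * v t = v (s + t) := by
  rw [ext_iff]; simp [mul_val, Matrix.mul_apply, Fin.sum_univ_two]

theorem u_zero : u (0 : F) = 1 := by
  rw [ext_iff]; simp

theorem v_zero : v (0 : F) = 1 := by
  rw [ext_iff]; simp

theorem u_inv (t : F) : (u t)⁻¹ = u (-t) := by
  rw [inv_eq_iff_mul_eq_one, u_mul, add_neg_cancel, u_zero]

theorem v_inv (t : F) : (v t)⁻¹ = v (-t) := by
  rw [inv_eq_iff_mul_eq_one, v_mul, add_neg_cancel, v_zero]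

theorem u_injective : Function.Injective (u : F → SpecialLinearGroup (Fin 2) F) := by
  intro s t h
  have := (ext_iff.1 h).2.1
  simpa using this

theorem v_injective : Function.Injective (v : F → SpecialLinearGroup (Fin 2) F) := by
  intro s t h
  have := (ext_iff.1 h).2.2.1
  simpa using this

theorem u_eq_one {t : F} : u t = 1 ↔ t = 0 := by
  rw [← u_zero]; exact u_injective.eq_iff

theorem v_eq_one {t : F} : v t = 1 ↔ t = 0 := by
  rw [← v_zero]; exact v_injective.eq_iff

theorem d_mul (l m : Fˣ) : d l * d m = d (l * m) := by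
  rw [ext_iff]; simp [mul_val, Matrix.mul_apply, Fin.sum_univ_two, mul_comm]

theorem d_one : d (1 : Fˣ) = 1 := by
  rw [ext_iff]; simp

theorem d_inv (l : Fˣ) : (d l)⁻¹ = d l⁻¹ := by
  rw [inv_eq_iff_mul_eq_one, d_mul, mul_inv_cancel, d_one]

theorem d_injective : Function.Injective (d : Fˣ → SpecialLinearGroup (Fin 2) F) := by
  intro s t h
  have := (ext_iff.1 h).1
  apply Units.ext
  simpa using this

theorem d_conj_u (l : Fˣ) (t : F) : d l * u t * (d l)⁻¹ = u ((l : F) ^ 2 * t) := by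
  rw [d_inv, ext_iff]
  simp [mul_val, Matrix.mul_apply, Fin.sum_univ_two]
  ring

theorem d_conj_v (l : Fˣ) (t : F) : d l * v t * (d l)⁻¹ = v (((l⁻¹ : Fˣ) : F) ^ 2 * t) := by
  rw [d_inv, ext_iff]
  simp [mul_val, Matrix.mul_apply, Fin.sum_univ_two]
  ring

theorem w_conj_d (l : Fˣ) : w F * d l * (w F)⁻¹ = (d l)⁻¹ := by
  rw [d_inv, ext_iff]
  simp [mul_val, inv_val, Matrix.mul_apply, Fin.sum_univ_two]

theorem w_conj_u (t : F) : w F * u t * (w F)⁻¹ = v (-t) := by
  rw [ext_iff]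
  simp [mul_val, inv_val, Matrix.mul_apply, Fin.sum_univ_two]

theorem w_conj_v (t : F) : w F * v t * (w F)⁻¹ = u (-t) := by
  rw [ext_iff]
  simp [mul_val, inv_val, Matrix.mul_apply, Fin.sum_univ_two]

theorem w_eq : w F = u 1 * v (-1) * u 1 := by
  rw [ext_iff]
  simp [mul_val, Matrix.mul_apply, Fin.sum_univ_two]

theorem d_mul_w (l : Fˣ) : d l * w F = u (l : F) * v (-((l⁻¹ : Fˣ) : F)) * u (l : F) := by
  rw [ext_iff]
  simp [mul_val, Matrix.mul_apply, Fin.sum_univ_two]

/-- The unipotent elements generate `SL(2,F)`. -/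
theorem eq_top_of_uv (H : Subgroup (SpecialLinearGroup (Fin 2) F)) (hu : ∀ t, u t ∈ H)
    (hv : ∀ t, v t ∈ H) : H = ⊤ := by
  have hw : w F ∈ H := by
    rw [w_eq]; exact H.mul_mem (H.mul_mem (hu _) (hv _)) (hu _)
  have hd : ∀ l : Fˣ, d l ∈ H := by
    intro l
    have h1 : d l * w F ∈ H := by
      rw [d_mul_w]; exact H.mul_mem (H.mul_mem (hu _) (hv _)) (hu _)
    exact (Subgroup.mul_mem_cancel_right H hw).1 h1
  rw [eq_top_iff]
  intro g _
  have hdet := det_eq g
  by_cases hc : g.1 1 0 = 0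
  · have ha : g.1 0 0 ≠ 0 := by
      intro h0
      rw [h0, hc] at hdet
      simp at hdet
    have hg : g = u (g.1 0 1 * g.1 0 0) * d (Units.mk0 _ ha) := by
      rw [ext_iff]
      simp [mul_val, Matrix.mul_apply, Fin.sum_univ_two]
      rw [hc, mul_zero, sub_zero] at hdet
      refine ⟨?_, hc, ?_⟩
      · field_simp
      · field_simp
        linear_combination hdet
    rw [hg]
    exact H.mul_mem (hu _) (hd _)
  · have hg : g = u ((g.1 0 0 - 1) / g.1 1 0) * v (g.1 1 0) * u ((g.1 1 1 - 1) / g.1 1 0) := by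
      rw [ext_iff]
      simp [mul_val, Matrix.mul_apply, Fin.sum_univ_two]
      refine ⟨?_, ?_, ?_⟩
      · field_simp
        ring
      · field_simp
        linear_combination -hdet
      · field_simp
        ring
    rw [hg]
    exact H.mul_mem (H.mul_mem (hu _) (hv _)) (hu _)

theorem closure_uw : Subgroup.closure (Set.range (u : F → SpecialLinearGroup (Fin 2) F) ∪ {w F}) = ⊤ := by
  have hw : w F ∈ Subgroup.closure (Set.range (u : F → SpecialLinearGroup (Fin 2) F) ∪ {w F}) :=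
    Subgroup.subset_closure (Or.inr rfl)
  have hu : ∀ t : F, u t ∈ Subgroup.closure (Set.range (u : F → SpecialLinearGroup (Fin 2) F) ∪ {w F}) :=
    fun t => Subgroup.subset_closure (Or.inl ⟨t, rfl⟩)
  apply eq_top_of_uv _ hu
  intro t
  have : v t = w F * u (-t) * (w F)⁻¹ := by rw [w_conj_u, neg_neg]
  rw [this]
  exact Subgroup.mul_mem _ (Subgroup.mul_mem _ hw (hu _)) (Subgroup.inv_mem _ hw)

/-- Induction principle: a property closed under products holding for the `u t` and `w`. -/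
theorem eq_top_of_uw (H : Subgroup (SpecialLinearGroup (Fin 2) F)) (hu : ∀ t, u t ∈ H)
    (hw : w F ∈ H) : H = ⊤ := by
  apply eq_top_of_uv _ hu
  intro t
  have : v t = w F * u (-t) * (w F)⁻¹ := by rw [w_conj_u, neg_neg]
  rw [this]
  exact H.mul_mem (H.mul_mem hw (hu _)) (H.inv_mem hw)

/-- Two homomorphisms agreeing on the `u t` and on `w` agree. -/
theorem hom_ext {A : Type*} [Group A] {f g : SpecialLinearGroup (Fin 2) F →* A}
    (hu : ∀ t, f (u t) = g (u t)) (hw : f (w F) = g (w F)) : f = g := by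
  have h : f.eqLocus g = ⊤ := eq_top_of_uw _ hu hw
  ext x
  have : x ∈ f.eqLocus g := by rw [h]; trivial
  exact this

/-- If `g` conjugates some nontrivial `u t` to an upper unitriangular matrix then `g` is upper
triangular. -/
theorem lower_eq_zero_of_conj {g : SpecialLinearGroup (Fin 2) F} {t s : F} (ht : t ≠ 0)
    (h : g * u t * g⁻¹ = u s) : g.1 1 0 = 0 := by
  have h1 := (ext_iff.1 h).2.2.1
  simp [mul_val, Matrix.adjugate_fin_two, Matrix.mul_apply, Fin.sum_univ_two] at h1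
  have h2 : g.1 1 0 * t * g.1 1 0 = 0 := by linear_combination -h1
  rcases mul_eq_zero.1 h2 with h3 | h3
  · rcases mul_eq_zero.1 h3 with h4 | h4
    · exact h4
    · exact absurd h4 ht
  · exact h3

/-- Upper triangular elements. -/
theorem eq_u_mul_d {g : SpecialLinearGroup (Fin 2) F} (h : g.1 1 0 = 0) :
    ∃ (s : F) (l : Fˣ), g = u s * d l := by
  have hdet := det_eq g
  rw [h, mul_zero, sub_zero] at hdet
  have ha : g.1 0 0 ≠ 0 := by
    intro h0
    rw [h0] at hdet
    simp at hdet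
  refine ⟨g.1 0 1 * g.1 0 0, Units.mk0 _ ha, ?_⟩
  rw [ext_iff]
  simp [mul_val, Matrix.mul_apply, Fin.sum_univ_two]
  refine ⟨?_, h, ?_⟩
  · field_simp
  · field_simp
    linear_combination hdet

end Basic

section CharTwo

variable {F : Type*} [Field F] [CharP F 2]

theorem add_self (x : F) : x + x = 0 := CharTwo.add_self_eq_zero x

theorem neg_eq (x : F) : -x = x := CharTwo.neg_eq x

theorem u_inv' (t : F) : (u t)⁻¹ = u t := by rw [u_inv, neg_eq]

theorem v_inv' (t : F) : (v t)⁻¹ = v t := by rw [v_inv, neg_eq]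

theorem u_mul_self (t : F) : u t * u t = 1 := by rw [u_mul, add_self, u_zero]

theorem v_mul_self (t : F) : v t * v t = 1 := by rw [v_mul, add_self, v_zero]

theorem w_mul_w : w F * w F = 1 := by
  rw [ext_iff]
  simp [mul_val, Matrix.mul_apply, Fin.sum_univ_two, CharTwo.neg_eq]

theorem w_inv : (w F)⁻¹ = w F := by
  rw [inv_eq_iff_mul_eq_one, w_mul_w]

theorem w_u_w (t : F) : w F * u t * w F = v t := by
  have := w_conj_u t
  rwa [w_inv, neg_eq] at this

theorem w_v_w (t : F) : w F * v t * w F = u t := by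
  have := w_conj_v t
  rwa [w_inv, neg_eq] at this

theorem w_d_w (l : Fˣ) : w F * d l * w F = (d l)⁻¹ := by
  have := w_conj_d l
  rwa [w_inv] at this

theorem w_eq' : w F = u 1 * v 1 * u 1 := by
  have := w_eq (F := F)
  rwa [neg_eq] at this

theorem d_mul_w' (l : Fˣ) : d l * w F = u (l : F) * v ((l⁻¹ : Fˣ) : F) * u (l : F) := by
  have := d_mul_w l
  rwa [neg_eq] at this

/-- An element of square one fixes a nonzero vector; it is conjugate to some `u t`. -/
theorem sq_eq_one_iff_of_lower {g : SpecialLinearGroup (Fin 2) F} (h : g.1 1 0 = 0)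
    (hg : g * g = 1) : ∃ t, g = u t := by
  obtain ⟨s, l, rfl⟩ := eq_u_mul_d h
  have h1 := (ext_iff.1 hg).1
  simp [mul_val, Matrix.mul_apply, Fin.sum_univ_two] at h1
  have h2 : ((l : F) - 1) * (l - 1) = 0 := by
    have h3 : (l : F) + l = 0 := add_self _
    have h3' : (1 : F) + 1 = 0 := add_self _
    linear_combination h1 - h3 + h3'
  have h4 : (l : F) = 1 := by
    rcases mul_eq_zero.1 h2 with h | h <;> exact sub_eq_zero.1 h
  have h5 : l = 1 := Units.ext h4
  exact ⟨s, by rw [h5, d_one, mul_one]⟩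

omit [CharP F 2] in
/-- A field with at least four elements of characteristic two has a unit different from one. -/
theorem exists_unit_ne_one (hq : 4 ≤ Nat.card F) : ∃ l : Fˣ, (l : F) ≠ 1 := by
  classical
  have hfin : Finite F := Nat.finite_of_card_ne_zero (by omega)
  have := Fintype.ofFinite F
  by_contra hcon
  push Not at hcon
  have h1 : (Finset.univ : Finset F) ⊆ {0, 1} := by
    intro x _
    by_cases hx : x = 0
    · simp [hx]
    · have := hcon (Units.mk0 x hx)
      simp at this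
      simp [this]
  have h2 := Finset.card_le_card h1
  have h3 : Finset.card ({0, 1} : Finset F) ≤ 2 := Finset.card_le_two
  rw [Finset.card_univ, ← Nat.card_eq_fintype_card] at h2
  omega

theorem sq_ne_one {l : Fˣ} (hl : (l : F) ≠ 1) : (l : F) ^ 2 - 1 ≠ 0 := by
  intro h
  apply hl
  have h3 : (l : F) + l = 0 := add_self _
  have h3' : (1 : F) + 1 = 0 := add_self _
  have h2 : ((l : F) - 1) * (l - 1) = 0 := by linear_combination h - h3 + h3'
  rcases mul_eq_zero.1 h2 with h | h <;> exact sub_eq_zero.1 h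

theorem u_mem_commutator (hq : 4 ≤ Nat.card F) (t : F) :
    ∃ (l : Fˣ) (s : F), u t = d l * u s * (d l)⁻¹ * (u s)⁻¹ := by
  obtain ⟨l, hl⟩ := exists_unit_ne_one hq
  refine ⟨l, t / ((l : F) ^ 2 - 1), ?_⟩
  rw [d_conj_u, u_inv, u_mul]
  congr 1
  have := sq_ne_one hl
  field_simp
  ring

/-- `SL(2,F)` is perfect. -/
theorem perfect (hq : 4 ≤ Nat.card F) {A : Type*} [CommGroup A]
    (f : SpecialLinearGroup (Fin 2) F →* A) : f = 1 := by
  have hu : ∀ t, f (u t) = 1 := by
    intro t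
    obtain ⟨l, s, h⟩ := u_mem_commutator hq t
    rw [h, map_mul, map_mul, map_mul, map_inv, map_inv, mul_comm (f (d l)), mul_inv_cancel_right,
      mul_inv_cancel]
  apply hom_ext
  · intro t; rw [hu, MonoidHom.one_apply]
  · rw [MonoidHom.one_apply, w_eq' , map_mul, map_mul, hu, ← w_u_w, map_mul, map_mul, hu, mul_one,
      one_mul, mul_one, ← map_mul, w_mul_w, map_one]

omit [CharP F 2] in
theorem mulVec_apply (g : SpecialLinearGroup (Fin 2) F) (x : Fin 2 → F) :
    g.1 *ᵥ x = ![g.1 0 0 * x 0 + g.1 0 1 * x 1, g.1 1 0 * x 0 + g.1 1 1 * x 1] := by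
  ext i
  fin_cases i <;> simp [Matrix.mulVec, dotProduct, Fin.sum_univ_two]

omit [CharP F 2] in
theorem u_mulVec (t : F) (x : Fin 2 → F) : (u t).1 *ᵥ x = ![x 0 + t * x 1, x 1] := by
  rw [mulVec_apply]; simp

omit [CharP F 2] in
theorem d_mulVec (l : Fˣ) (x : Fin 2 → F) :
    (d l).1 *ᵥ x = ![(l : F) * x 0, ((l⁻¹ : Fˣ) : F) * x 1] := by
  rw [mulVec_apply]; simp

theorem w_mulVec (x : Fin 2 → F) : (w F).1 *ᵥ x = ![x 1, x 0] := by
  rw [mulVec_apply]; simp [CharTwo.neg_eq]

/-- Additive endomorphisms of the natural module commuting with `SL(2,F)` are scalars. -/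
theorem end_scalar (f : (Fin 2 → F) →+ (Fin 2 → F))
    (h : ∀ (g : SpecialLinearGroup (Fin 2) F) x, f (g.1 *ᵥ x) = g.1 *ᵥ f x) :
    ∃ c : F, ∀ x, f x = c • x := by
  have h0 : f ![1, 0] 1 = 0 := by
    have h1 := h (u 1) ![1, 0]
    rw [u_mulVec, u_mulVec] at h1
    have h2 := congrFun h1 0
    simp at h2
    exact h2
  refine ⟨f ![1, 0] 0, ?_⟩
  have h1 : ∀ a : F, f ![a, 0] = ![f ![1, 0] 0 * a, 0] := by
    intro a
    by_cases ha : a = 0
    · subst ha
      have : (![0, 0] : Fin 2 → F) = 0 := by ext i; fin_cases i <;> rfl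
      rw [mul_zero, this, map_zero]
    · have h2 := h (d (Units.mk0 a ha)) ![1, 0]
      rw [d_mulVec, d_mulVec] at h2
      simp at h2
      rw [h2, h0, mul_zero, mul_comm]
  have h2 : ∀ a : F, f ![0, a] = ![0, f ![1, 0] 0 * a] := by
    intro a
    have h3 := h (w F) ![a, 0]
    rw [w_mulVec, w_mulVec, h1] at h3
    simpa using h3
  intro x
  have hx : x = ![x 0, 0] + ![0, x 1] := by
    ext i; fin_cases i <;> simp
  conv_lhs => rw [hx]
  rw [map_add, h1, h2]
  ext i
  fin_cases i <;> simp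

/-- Abelian subgroups of the Borel subgroup meeting the unipotent radical trivially are conjugate
into the torus. -/
theorem conj_T (P : Subgroup (SpecialLinearGroup (Fin 2) F)) (hc : ∀ x ∈ P, ∀ y ∈ P, x * y = y * x)
    (hB : ∀ x ∈ P, x.1 1 0 = 0) (hU : ∀ t : F, u t ∈ P → t = 0) :
    ∃ s : F, ∀ x ∈ P, ∃ l : Fˣ, u s * x * (u s)⁻¹ = d l := by
  by_cases htriv : ∀ x ∈ P, x = 1
  · refine ⟨0, fun x hx => ⟨1, ?_⟩⟩
    rw [htriv x hx, mul_one, mul_inv_cancel, d_one]
  push Not at htriv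
  obtain ⟨x, hx, hx1⟩ := htriv
  obtain ⟨b, a, hxba⟩ := eq_u_mul_d (hB x hx)
  have ha : (a : F) ≠ 1 := by
    intro h
    have h1 : a = 1 := Units.ext h
    rw [h1, d_one, mul_one] at hxba
    have h2 := hU b (hxba ▸ hx)
    apply hx1
    rw [hxba, h2, u_zero]
  have ha2 := sq_ne_one ha
  -- conjugate x into the torus
  refine ⟨b / ((a : F) ^ 2 - 1), ?_⟩
  set s : F := b / ((a : F) ^ 2 - 1) with hs
  have hsb : s * ((a : F) ^ 2 - 1) = b := by rw [hs]; field_simp
  have hxd : u s * x * (u s)⁻¹ = d a := by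
    have h1 : d a * u s * (d a)⁻¹ = u ((a : F) ^ 2 * s) := d_conj_u a s
    have h2 : d a * u s = u ((a : F) ^ 2 * s) * d a := by rw [← h1]; group
    have h3 : u s * x = d a * u s := by
      rw [h2, hxba, ← mul_assoc, u_mul]
      congr 2
      have h4 : s + b = (a : F) ^ 2 * s := by linear_combination -hsb
      exact h4
    rw [h3]; group
  intro y hy
  have hy0 := hB y hy
  obtain ⟨c, l, hyc⟩ := eq_u_mul_d hy0
  have hcomm : (u s * y * (u s)⁻¹) * d a = d a * (u s * y * (u s)⁻¹) := by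
    rw [← hxd]
    have := hc y hy x hx
    calc (u s * y * (u s)⁻¹) * (u s * x * (u s)⁻¹) = u s * (y * x) * (u s)⁻¹ := by group
      _ = u s * (x * y) * (u s)⁻¹ := by rw [this]
      _ = (u s * x * (u s)⁻¹) * (u s * y * (u s)⁻¹) := by group
  have hlow : (u s * y * (u s)⁻¹).1 1 0 = 0 := by
    rw [u_inv, hyc]
    simp [mul_val, Matrix.mul_apply, Fin.sum_univ_two]
  obtain ⟨c', l', hz⟩ := eq_u_mul_d hlow
  refine ⟨l', ?_⟩
  rw [hz] at hcomm ⊢
  have h5 : u c' * (d l' * d a) = u ((a : F) ^ 2 * c') * (d l' * d a) := by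
    have h6 : d a * u c' = u ((a : F) ^ 2 * c') * d a := by rw [← d_conj_u]; group
    calc u c' * (d l' * d a) = u c' * d l' * d a := by group
      _ = d a * (u c' * d l') := hcomm
      _ = (d a * u c') * d l' := by group
      _ = u ((a : F) ^ 2 * c') * (d a * d l') := by rw [h6]; group
      _ = u ((a : F) ^ 2 * c') * (d l' * d a) := by rw [d_mul, d_mul, mul_comm a l']
  have h7 := u_injective (mul_right_cancel h5)
  have h8 : c' * ((a : F) ^ 2 - 1) = 0 := by linear_combination -h7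
  have h9 : c' = 0 := by
    rcases mul_eq_zero.1 h8 with h | h
    · exact h
    · exact absurd h ha2
  rw [h9, u_zero, one_mul]

omit [CharP F 2] in
/-- A nonzero vector can be moved to the first basis vector. -/
theorem exists_map_e0 (x : Fin 2 → F) (hx : x ≠ 0) :
    ∃ g : SpecialLinearGroup (Fin 2) F, g.1 *ᵥ x = ![1, 0] := by
  by_cases h0 : x 0 = 0
  · have h1 : x 1 ≠ 0 := by
      intro h1
      apply hx
      ext i; fin_cases i <;> simp [h0, h1]
    refine ⟨⟨!![0, (x 1)⁻¹; -(x 1), 0], ?_⟩, ?_⟩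
    · rw [Matrix.det_fin_two]; simp [h1]
    · show (!![0, (x 1)⁻¹; -(x 1), 0] : Matrix (Fin 2) (Fin 2) F) *ᵥ x = ![1, 0]
      ext i
      fin_cases i <;> simp [Matrix.mulVec, dotProduct, Fin.sum_univ_two, h0, h1]
  · refine ⟨⟨!![(x 0)⁻¹, 0; -(x 1), x 0], ?_⟩, ?_⟩
    · rw [Matrix.det_fin_two]; simp [h0]
    · show (!![(x 0)⁻¹, 0; -(x 1), x 0] : Matrix (Fin 2) (Fin 2) F) *ᵥ x = ![1, 0]
      ext i
      fin_cases i
      · simp [Matrix.mulVec, dotProduct, Fin.sum_univ_two, h0]
      · simp [Matrix.mulVec, dotProduct, Fin.sum_univ_two]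
        ring

/-- Elementary abelian subgroups of order `q` are conjugate to the group of the `u t`. -/
theorem conj_U [Finite F] (P : Subgroup (SpecialLinearGroup (Fin 2) F)) (hsq : ∀ x ∈ P, x * x = 1)
    (hcard : Nat.card P = Nat.card F) : ∃ g, ∀ x ∈ P, ∃ t : F, g * x * g⁻¹ = u t := by
  have hcomm : ∀ x ∈ P, ∀ y ∈ P, x * y = y * x := by
    intro x hx y hy
    have h1 := hsq x hx
    have h2 := hsq y hy
    have h3 := hsq (x * y) (P.mul_mem hx hy)
    calc x * y = (x * y)⁻¹ := eq_inv_of_mul_eq_one_left h3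
      _ = y⁻¹ * x⁻¹ := mul_inv_rev _ _
      _ = y * x := by rw [← eq_inv_of_mul_eq_one_left h1, ← eq_inv_of_mul_eq_one_left h2]
  have hne : ∃ x ∈ P, x ≠ 1 := by
    by_contra hcon
    push Not at hcon
    have h1 : P = ⊥ := (Subgroup.eq_bot_iff_forall P).2 hcon
    rw [h1, Subgroup.card_bot] at hcard
    have : 1 < Nat.card F := Finite.one_lt_card
    omega
  obtain ⟨x, hx, hx1⟩ := hne
  -- a vector moved by x
  obtain ⟨a, ha⟩ : ∃ a : Fin 2 → F, x.1 *ᵥ a ≠ a := by
    by_contra hcon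
    push Not at hcon
    apply hx1
    rw [ext_iff]
    have h1 := hcon ![1, 0]
    have h2 := hcon ![0, 1]
    rw [mulVec_apply] at h1 h2
    have h3 := congrFun h1 0
    have h4 := congrFun h1 1
    have h5 := congrFun h2 0
    have h6 := congrFun h2 1
    simp at h3 h4 h5 h6
    simp [h3, h4, h5, h6]
  set e : Fin 2 → F := x.1 *ᵥ a - a with he
  have he0 : e ≠ 0 := sub_ne_zero.2 ha
  obtain ⟨g, hg⟩ := exists_map_e0 e he0
  refine ⟨g, fun y hy => ?_⟩
  -- y maps e to (x-1) (y a)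
  have hyx := hcomm y hy x hx
  -- e is an eigenvector of every y: since x fixes exactly a line
  have hxe : x.1 *ᵥ e = e := by
    have h1 : x.1 *ᵥ (x.1 *ᵥ a) = a := by
      rw [Matrix.mulVec_mulVec, ← mul_val, hsq x hx]; simp
    rw [he, Matrix.mulVec_sub, h1]
    ext i
    have := add_self (F := F) ((x.1 *ᵥ a) i - a i)
    simp only [Pi.sub_apply]
    linear_combination -this
  have hxye : x.1 *ᵥ (y.1 *ᵥ e) = y.1 *ᵥ e := by
    rw [Matrix.mulVec_mulVec, ← mul_val, ← hyx, mul_val, ← Matrix.mulVec_mulVec, hxe]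
  -- conjugate everything by g
  have key : ∀ z ∈ P, z.1 *ᵥ e = z.1 *ᵥ e := fun _ _ => rfl
  set x' := g * x * g⁻¹ with hx'
  set y' := g * y * g⁻¹ with hy'
  have hinv : (g⁻¹).1 *ᵥ ![1, 0] = e := by
    rw [← hg, Matrix.mulVec_mulVec, ← mul_val, inv_mul_cancel]; simp
  have hx'e : x'.1 *ᵥ ![1, 0] = ![1, 0] := by
    rw [hx', mul_val, mul_val, ← Matrix.mulVec_mulVec, ← Matrix.mulVec_mulVec, hinv, hxe, hg]
  have hx'10 : x'.1 1 0 = 0 := by
    have := congrFun hx'e 1
    rw [mulVec_apply] at this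
    simpa using this
  have hx'sq : x' * x' = 1 := by
    rw [hx']
    calc g * x * g⁻¹ * (g * x * g⁻¹) = g * (x * x) * g⁻¹ := by group
      _ = 1 := by rw [hsq x hx]; group
  obtain ⟨t, ht⟩ := sq_eq_one_iff_of_lower hx'10 hx'sq
  have ht0 : t ≠ 0 := by
    rintro rfl
    rw [u_zero] at ht
    apply hx1
    have : x = g⁻¹ * x' * g := by rw [hx']; group
    rw [this, ht]; group
  have hcomm' : y' * u t * y'⁻¹ = u t := by
    rw [← ht]
    have : y' * x' = x' * y' := by
      rw [hx', hy']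
      calc g * y * g⁻¹ * (g * x * g⁻¹) = g * (y * x) * g⁻¹ := by group
        _ = g * (x * y) * g⁻¹ := by rw [hyx]
        _ = g * x * g⁻¹ * (g * y * g⁻¹) := by group
    rw [this]; group
  have hy'10 := lower_eq_zero_of_conj ht0 hcomm'
  have hy'sq : y' * y' = 1 := by
    rw [hy']
    calc g * y * g⁻¹ * (g * y * g⁻¹) = g * (y * y) * g⁻¹ := by group
      _ = 1 := by rw [hsq y hy]; group
  exact sq_eq_one_iff_of_lower hy'10 hy'sq

/-- In a finite field of characteristic two every unit is a square. -/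
theorem exists_sq_eq [Finite F] (x : F) (hx : x ≠ 0) : ∃ l : Fˣ, (l : F) ^ 2 = x := by
  have h : Function.Surjective (frobenius F 2) :=
    Finite.surjective_of_injective (frobenius F 2).injective
  obtain ⟨y, hy⟩ := h x
  rw [frobenius_def] at hy
  have hy0 : y ≠ 0 := by
    rintro rfl
    apply hx
    rw [← hy]; simp
  exact ⟨Units.mk0 y hy0, by simpa using hy⟩

/-- An injective endomorphism of `SL(2,F)` fixing the torus and normalizing the group of the
`u t` is the conjugation by an element of the torus. -/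
theorem aut_torus [Finite F] (hq : 4 ≤ Nat.card F)
    (α : SpecialLinearGroup (Fin 2) F →* SpecialLinearGroup (Fin 2) F)
    (hinj : Function.Injective α) (ht : ∀ l : Fˣ, α (d l) = d l)
    (hu : ∀ t : F, ∃ t', α (u t) = u t') : ∃ l : Fˣ, ∀ g, α g = d l * g * (d l)⁻¹ := by
  choose φ hφ using hu
  have hφ1 : ∀ (l : Fˣ) t, φ ((l : F) ^ 2 * t) = (l : F) ^ 2 * φ t := by
    intro l t
    apply u_injective
    rw [← hφ, ← d_conj_u, ← d_conj_u, map_mul, map_mul, map_inv, ht, hφ]
  have hφ0 : φ 0 = 0 := by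
    apply u_injective
    rw [← hφ, u_zero, map_one]
  have hφ2 : ∀ x, φ x = x * φ 1 := by
    intro x
    by_cases hx : x = 0
    · rw [hx, hφ0, zero_mul]
    · obtain ⟨l, hl⟩ := exists_sq_eq x hx
      have := hφ1 l 1
      rw [hl, mul_one] at this
      exact this
  have hφ3 : φ 1 ≠ 0 := by
    intro h
    have h1 : α (u 1) = α 1 := by rw [hφ, h, u_zero, map_one]
    have h2 := hinj h1
    rw [u_eq_one] at h2
    exact one_ne_zero h2
  obtain ⟨l, hl⟩ := exists_sq_eq _ hφ3
  have hαu : ∀ t, α (u t) = d l * u t * (d l)⁻¹ := by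
    intro t
    rw [hφ, d_conj_u, hφ2, hl, mul_comm]
  refine ⟨l, ?_⟩
  -- it is enough to treat `w`
  set W := (d l)⁻¹ * α (w F) * d l with hW
  have hdd : ∀ m : Fˣ, (d l)⁻¹ * d m * d l = d m := by
    intro m
    rw [d_inv, d_mul, d_mul]; congr 1
    rw [mul_comm l⁻¹ m, mul_assoc, inv_mul_cancel, mul_one]
  have hWd : ∀ m : Fˣ, W * d m = d m⁻¹ * W := by
    intro m
    have h1 : w F * d m = d m⁻¹ * w F := by rw [← d_inv, ← w_conj_d]; group
    have h2 : α (w F) * d m = d m⁻¹ * α (w F) := by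
      have := congrArg α h1
      rwa [map_mul, map_mul, ht, ht] at this
    calc W * d m = (d l)⁻¹ * α (w F) * (d l * d m) := by rw [hW]; group
      _ = (d l)⁻¹ * α (w F) * (d m * d l) := by rw [d_mul, d_mul, mul_comm]
      _ = (d l)⁻¹ * (α (w F) * d m) * d l := by group
      _ = (d l)⁻¹ * (d m⁻¹ * α (w F)) * d l := by rw [h2]
      _ = ((d l)⁻¹ * d m⁻¹) * (α (w F) * d l) := by group
      _ = (d m⁻¹ * (d l)⁻¹) * (α (w F) * d l) := by
          rw [d_inv, d_mul, d_mul, mul_comm l⁻¹]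
      _ = d m⁻¹ * W := by rw [hW]; group
  obtain ⟨m, hm⟩ := exists_unit_ne_one hq
  have hm2 := sq_ne_one hm
  have hWm := hWd m
  rw [ext_iff] at hWm
  simp [mul_val, Matrix.mul_apply, Fin.sum_univ_two] at hWm
  have hW00 : W.1 0 0 = 0 := by
    have h1 := hWm.1
    have h2 : W.1 0 0 * ((m : F) ^ 2 - 1) = 0 := by
      have hm0 : (m : F) ≠ 0 := m.ne_zero
      field_simp at h1
      linear_combination h1
    rcases mul_eq_zero.1 h2 with h | h
    · exact h
    · exact absurd h hm2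
  have hW11 : W.1 1 1 = 0 := by
    have h1 := hWm.2.2.2
    have h2 : W.1 1 1 * ((m : F) ^ 2 - 1) = 0 := by
      have hm0 : (m : F) ≠ 0 := m.ne_zero
      field_simp at h1
      linear_combination -h1
    rcases mul_eq_zero.1 h2 with h | h
    · exact h
    · exact absurd h hm2
  have hdet := det_eq W
  rw [hW00, zero_mul, zero_sub] at hdet
  -- the relation `w = u 1 * (w * u 1 * w) * u 1`
  have hWrel : W = u 1 * (W * u 1 * W) * u 1 := by
    have h1 : w F = u 1 * (w F * u 1 * w F) * u 1 := by rw [w_u_w, ← w_eq']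
    have h2 : α (w F) = α (u 1) * (α (w F) * α (u 1) * α (w F)) * α (u 1) := by
      conv_lhs => rw [h1]
      simp only [map_mul]
    rw [hαu] at h2
    rw [hW]
    conv_lhs => rw [h2]
    group
  rw [ext_iff] at hWrel
  simp [mul_val_apply, hW00, hW11] at hWrel
  have hneg : ∀ x : F, -x = x := neg_eq
  have hW10 : W.1 1 0 = 1 := by
    have h3 := add_self (W.1 1 0)
    have h1 : (W.1 1 0 - 1) * (W.1 1 0 - 1) = 0 := by
      have h4 := hWrel.1
      have h5 : W.1 0 1 * W.1 1 0 = 1 := by rw [hneg] at hdet; exact hdet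
      linear_combination -h4 - h5 - h3
    rcases mul_eq_zero.1 h1 with h | h <;> exact sub_eq_zero.1 h
  have hW01 : W.1 0 1 = 1 := by
    rw [hW10, mul_one, hneg] at hdet
    exact hdet
  have hWw : W = w F := by
    rw [ext_iff]
    simp [hW00, hW11, hW01, hW10, hneg]
  have hαw : α (w F) = d l * w F * (d l)⁻¹ := by
    have h1 : α (w F) = d l * W * (d l)⁻¹ := by rw [hW]; group
    rw [h1, hWw]
  have heq : α = (MulAut.conj (d l)).toMonoidHom := by
    apply hom_ext
    · intro t; rw [hαu]; simp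
    · rw [hαw]; simp
  intro g
  rw [heq]; simp

/-- The additive form of the recognition of the natural module. -/
theorem mod_add [Finite F] {M : Type*} [AddCommGroup M] [Finite M]
    (ρ : SpecialLinearGroup (Fin 2) F →* AddMonoid.End M) (M0 : AddSubgroup M)
    (h1 : ∀ t : F, ∀ m ∈ M0, ρ (u t) m = m) (h2 : ∀ (t : F) m, ρ (u t) m - m ∈ M0)
    (hM : Nat.card M = Nat.card F ^ 2) (hM0 : Nat.card M0 = Nat.card F)
    (h3 : ∀ m, (∀ g, ρ g m = m) → m = 0) :
    ∃ j : (Fin 2 → F) →+ M, Function.Bijective j ∧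
      ∀ (g : SpecialLinearGroup (Fin 2) F) x, j (g.1 *ᵥ x) = ρ g (j x) := by
  have hmul : ∀ g h m, ρ (g * h) m = ρ g (ρ h m) := fun g h m => by rw [map_mul]; rfl
  have hone : ∀ m, ρ 1 m = m := fun m => by rw [map_one]; rfl
  have hww : ∀ m, ρ (w F) (ρ (w F) m) = m := fun m => by rw [← hmul, w_mul_w, hone]
  -- the stabilizer of an element
  have hstab : ∀ m, (∀ t, ρ (u t) m = m) → (∀ t, ρ (v t) m = m) → m = 0 := by
    intro m hu hv
    apply h3
    let H : Subgroup (SpecialLinearGroup (Fin 2) F) :=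
      { carrier := {g | ρ g m = m}
        mul_mem' := by
          intro a b ha hb
          simp only [Set.mem_ofPred_eq] at ha hb ⊢
          rw [hmul, hb, ha]
        one_mem' := hone m
        inv_mem' := by
          intro a ha
          simp only [Set.mem_ofPred_eq] at ha ⊢
          conv_lhs => rw [← ha]
          rw [← hmul, inv_mul_cancel, hone] }
    have hH : H = ⊤ := eq_top_of_uv H hu hv
    intro g
    have : g ∈ H := by rw [hH]; trivial
    exact this
  -- step 1
  have hdisj : ∀ m ∈ M0, ρ (w F) m ∈ M0 → m = 0 := by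
    intro m hm hwm
    apply hstab m (fun t => h1 t m hm)
    intro t
    rw [← w_u_w, hmul, hmul, h1 t _ hwm, hww]
  have hsum_inj : ∀ x ∈ M0, ∀ y ∈ M0, ∀ x' ∈ M0, ∀ y' ∈ M0,
      x + ρ (w F) y = x' + ρ (w F) y' → x = x' ∧ y = y' := by
    intro x hx y hy x' hx' y' hy' h
    have h4 : ρ (w F) (y - y') = x' - x := by
      rw [map_sub]
      have h7 : x + ρ (w F) y - ρ (w F) y' - x = x' + ρ (w F) y' - ρ (w F) y' - x := by rw [h]
      rw [show x + ρ (w F) y - ρ (w F) y' - x = ρ (w F) y - ρ (w F) y' by abel] at h7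
      rw [h7]; abel
    have h5 := hdisj (y - y') (M0.sub_mem hy hy') (by rw [h4]; exact M0.sub_mem hx' hx)
    have h6 : y = y' := sub_eq_zero.1 h5
    refine ⟨?_, h6⟩
    rw [h6] at h
    exact add_right_cancel h
  have hdecomp : ∀ m, ∃ x ∈ M0, ∃ y ∈ M0, m = x + ρ (w F) y := by
    let f : M0 × M0 → M := fun p => (p.1 : M) + ρ (w F) (p.2 : M)
    have hf : Function.Injective f := by
      rintro ⟨x, y⟩ ⟨x', y'⟩ h
      obtain ⟨h4, h5⟩ := hsum_inj x x.2 y y.2 x' x'.2 y' y'.2 h
      exact Prod.ext (Subtype.ext h4) (Subtype.ext h5)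
    have hcard : Nat.card (M0 × M0) = Nat.card M := by
      rw [Nat.card_prod, hM0, hM, sq]
    have hf' : Function.Bijective f := (Nat.bijective_iff_injective_and_card f).2 ⟨hf, hcard⟩
    intro m
    obtain ⟨⟨x, y⟩, hxy⟩ := hf'.2 m
    exact ⟨x, x.2, y, y.2, hxy.symm⟩
  -- step 2: the fixed points of `u t`
  have hvw : ∀ y ∈ M0, ∀ s, ρ (v s) (ρ (w F) y) = ρ (w F) y := by
    intro y hy s
    rw [← hmul]
    have : v s * w F = w F * u s := by
      rw [← w_u_w, mul_assoc, mul_assoc, w_mul_w, mul_one]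
    rw [this, hmul, h1 s y hy]
  have hfix : ∀ t : F, t ≠ 0 → ∀ m, ρ (u t) m = m → m ∈ M0 := by
    intro t ht m hm
    obtain ⟨x, hx, y, hy, rfl⟩ := hdecomp m
    have h4 : ρ (u t) (ρ (w F) y) = ρ (w F) y := by
      rw [map_add, h1 t x hx] at hm
      exact add_left_cancel hm
    set z := ρ (w F) y with hz
    have hdw : ρ (d (Units.mk0 t ht) * w F) z = z := by
      rw [d_mul_w', hmul, hmul]
      simp only [Units.val_mk0]
      rw [h4, hvw y hy, h4]
    have hall : ∀ s, ρ (u s) z = z := by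
      intro s
      obtain ⟨r, hr⟩ : ∃ r : F, u s * (d (Units.mk0 t ht) * w F) =
          (d (Units.mk0 t ht) * w F) * v r := by
        refine ⟨s / t ^ 2, ?_⟩
        rw [← w_u_w]
        have h5 : d (Units.mk0 t ht) * u (s / t ^ 2) * (d (Units.mk0 t ht))⁻¹ = u s := by
          rw [d_conj_u]; congr 1; simp only [Units.val_mk0]; field_simp
        rw [← h5]
        calc d (Units.mk0 t ht) * u (s / t ^ 2) * (d (Units.mk0 t ht))⁻¹ *
              (d (Units.mk0 t ht) * w F)
            = d (Units.mk0 t ht) * (u (s / t ^ 2)) * w F := by group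
          _ = d (Units.mk0 t ht) * (w F * w F) * (u (s / t ^ 2)) * w F := by
              rw [w_mul_w, mul_one]
          _ = _ := by group
      calc ρ (u s) z = ρ (u s) (ρ (d (Units.mk0 t ht) * w F) z) := by rw [hdw]
        _ = ρ (u s * (d (Units.mk0 t ht) * w F)) z := by rw [hmul (u s)]
        _ = ρ (d (Units.mk0 t ht) * w F) (ρ (v r) z) := by rw [hr, hmul _ (v r)]
        _ = z := by rw [hvw y hy, hdw]
    have hz0 : z = 0 := hstab z hall (hvw y hy)
    rw [hz0, add_zero]; exact hx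
  -- step 3
  let A : F → M → M := fun t x => ρ (u t) (ρ (w F) x) - ρ (w F) x
  have hA_mem : ∀ t x, A t x ∈ M0 := fun t x => h2 t _
  have hA_def : ∀ t x, ρ (u t) (ρ (w F) x) = ρ (w F) x + A t x := by
    intro t x; simp only [A]; abel
  have hA_add : ∀ s t x, A (s + t) x = A s x + A t x := by
    intro s t x
    have h4 : ρ (u (s + t)) (ρ (w F) x) = ρ (w F) x + A s x + A t x := by
      rw [← u_mul, hmul, hA_def t, map_add, hA_def s, h1 s _ (hA_mem t x)]
    rw [hA_def] at h4
    rw [add_assoc] at h4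
    exact add_left_cancel h4
  have hA_addx : ∀ t x y, A t (x + y) = A t x + A t y := by
    intro t x y
    simp only [A, map_add]; abel
  have hA_zero : ∀ x, A 0 x = 0 := by
    intro x; simp only [A]; rw [u_zero, hone, sub_self]
  have hA_self : ∀ t x, A t x + A t x = 0 := by
    intro t x; rw [← hA_add, add_self, hA_zero]
  have hA_inj : ∀ t : F, t ≠ 0 → ∀ x ∈ M0, A t x = 0 → x = 0 := by
    intro t ht x hx h
    apply hdisj x hx
    apply hfix t ht
    rw [hA_def, h, add_zero]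
  -- step 4
  have hD_mem : ∀ (l : Fˣ) x, x ∈ M0 → ρ (d l) x ∈ M0 := by
    intro l x hx
    apply hfix 1 one_ne_zero
    rw [← hmul]
    have h5 : u 1 * d l = d l * u (((l⁻¹ : Fˣ) : F) ^ 2 * 1) := by
      rw [← d_conj_u, d_inv, inv_inv]
      rw [← d_inv]; group
    rw [h5, hmul, h1 _ _ hx]
  have hstep4 : ∀ (l : Fˣ) x, x ∈ M0 → A ((l⁻¹ : Fˣ) : F) x = ρ (d l⁻¹) x ∧
      x + A (l : F) (A ((l⁻¹ : Fˣ) : F) x) = 0 := by
    intro l x hx
    have h5 : ρ (d l * w F) x = ρ (w F) (ρ (d l⁻¹) x) := by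
      rw [← hmul]
      congr 2
      rw [← d_inv, ← w_d_w]
      calc d l * w F = d l * w F := rfl
        _ = (w F * w F) * d l * w F := by rw [w_mul_w, one_mul]
        _ = _ := by group
    have h6 : ρ (d l * w F) x =
        (x + A (l : F) (A ((l⁻¹ : Fˣ) : F) x)) + ρ (w F) (A ((l⁻¹ : Fˣ) : F) x) := by
      rw [d_mul_w', ← w_u_w, hmul, hmul, hmul, hmul, h1 _ x hx, hA_def ((l⁻¹ : Fˣ) : F) x,
        map_add, hww, map_add, h1 _ x hx, hA_def]
      abel
    rw [h5] at h6
    rw [← zero_add (ρ (w F) _)] at h6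
    have h7 := hsum_inj 0 M0.zero_mem _ (hD_mem _ _ hx) _ (M0.add_mem hx (hA_mem _ _)) _
      (hA_mem _ _) h6
    exact ⟨h7.2.symm, h7.1.symm⟩
  have hA_D : ∀ (l : Fˣ) x, x ∈ M0 → A (l : F) x = ρ (d l) x := by
    intro l x hx
    have := (hstep4 l⁻¹ x hx).1
    rwa [inv_inv] at this
  have hA_mul : ∀ s t x, x ∈ M0 → A (s * t) x = A s (A t x) := by
    intro s t x hx
    by_cases hs : s = 0
    · subst hs; rw [zero_mul, hA_zero, hA_zero]
    by_cases ht : t = 0
    · subst ht
      rw [mul_zero, hA_zero]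
      have : A s (0 + 0) = A s 0 + A s 0 := hA_addx s 0 0
      rw [add_zero] at this
      have h8 : A s 0 = 0 := by
        have := left_eq_add.1 this
        exact this
      rw [h8]
    · have h5 := hA_D (Units.mk0 s hs * Units.mk0 t ht) x hx
      have h6 := hA_D (Units.mk0 t ht) x hx
      have h7 := hA_D (Units.mk0 s hs) _ (hD_mem (Units.mk0 t ht) x hx)
      simp only [Units.val_mul, Units.val_mk0] at h5 h6 h7
      rw [h5, h6, h7, ← d_mul, hmul]
  -- step 5
  obtain ⟨x0, hx0, hx00⟩ : ∃ x ∈ M0, x ≠ 0 := by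
    by_contra hcon
    push Not at hcon
    have h4 : M0 = ⊥ := (AddSubgroup.eq_bot_iff_forall M0).2 hcon
    rw [h4, AddSubgroup.card_bot] at hM0
    have : 1 < Nat.card F := Finite.one_lt_card
    omega
  let j : (Fin 2 → F) →+ M :=
    AddMonoidHom.mk' (fun x => A (x 0) x0 + ρ (w F) (A (x 1) x0)) (by
      intro x y
      simp only [Pi.add_apply, hA_add, map_add]
      abel)
  have hj : ∀ x, j x = A (x 0) x0 + ρ (w F) (A (x 1) x0) := fun x => rfl
  have hAx0 : ∀ a, A a x0 = 0 → a = 0 := by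
    intro a ha
    by_contra hne
    exact hx00 (hA_inj a hne x0 hx0 ha)
  have hjinj : Function.Injective j := by
    rw [injective_iff_map_eq_zero]
    intro x hx
    rw [hj] at hx
    have h5 := hsum_inj _ (hA_mem (x 0) x0) _ (hA_mem (x 1) x0) 0 M0.zero_mem 0 M0.zero_mem
      (by rw [hx, map_zero, add_zero])
    ext i
    fin_cases i
    · exact hAx0 _ h5.1
    · exact hAx0 _ h5.2
  have hjcard : Nat.card (Fin 2 → F) = Nat.card M := by
    rw [hM, Nat.card_fun]; simp
  refine ⟨j, (Nat.bijective_iff_injective_and_card j).2 ⟨hjinj, hjcard⟩, ?_⟩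
  have hju : ∀ t x, j ((u t).1 *ᵥ x) = ρ (u t) (j x) := by
    intro t x
    rw [u_mulVec, hj, hj, map_add, h1 t _ (hA_mem _ _), hA_def]
    simp only [Matrix.cons_val_zero, Matrix.cons_val_one]
    rw [hA_add, hA_mul t (x 1) x0 hx0]
    abel
  have hjw : ∀ x, j ((w F).1 *ᵥ x) = ρ (w F) (j x) := by
    intro x
    rw [w_mulVec, hj, hj, map_add, hww]
    simp only [Matrix.cons_val_zero, Matrix.cons_val_one]
    abel
  let H : Subgroup (SpecialLinearGroup (Fin 2) F) :=
    { carrier := {g | ∀ x, j (g.1 *ᵥ x) = ρ g (j x)}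
      mul_mem' := by
        intro a b ha hb x
        rw [mul_val, ← Matrix.mulVec_mulVec, ha, hb, hmul]
      one_mem' := by
        intro x
        rw [hone]
        simp
      inv_mem' := by
        intro a ha x
        have h5 := ha (a⁻¹.1 *ᵥ x)
        rw [Matrix.mulVec_mulVec, ← mul_val, mul_inv_cancel] at h5
        have h6 : ((1 : SpecialLinearGroup (Fin 2) F)).1 *ᵥ x = x := by simp
        rw [h6] at h5
        rw [h5, ← hmul, inv_mul_cancel, hone] }
  have hH : H = ⊤ := eq_top_of_uw H hju hjw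
  intro g
  have : g ∈ H := by rw [hH]; trivial
  exact this

/-- Recognition of the natural module of `SL(2,F)`, `F` finite of characteristic two. -/
theorem mod [Finite F] {M : Type*} [CommGroup M] [Finite M]
    (ρ : SpecialLinearGroup (Fin 2) F →* MulAut M) (M0 : Subgroup M)
    (h1 : ∀ t : F, ∀ m ∈ M0, ρ (u t) m = m) (h2 : ∀ (t : F) m, ρ (u t) m * m⁻¹ ∈ M0)
    (hM : Nat.card M = Nat.card F ^ 2) (hM0 : Nat.card M0 = Nat.card F)
    (h3 : ∀ m, (∀ g, ρ g m = m) → m = 1) :
    ∃ e : M → (Fin 2 → F), Function.Bijective e ∧ (∀ a b, e (a * b) = e a + e b) ∧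
      ∀ (g : SpecialLinearGroup (Fin 2) F) m, e (ρ g m) = g.1 *ᵥ e m := by
  let ρ' : SpecialLinearGroup (Fin 2) F →* AddMonoid.End (Additive M) :=
    { toFun := fun g => MonoidHom.toAdditive (ρ g).toMonoidHom
      map_one' := by rw [map_one]; rfl
      map_mul' := by intro g h; rw [map_mul]; rfl }
  obtain ⟨j, hj, hjg⟩ := mod_add ρ' (Subgroup.toAddSubgroup M0)
    (fun t m hm => h1 t (Additive.toMul m) hm)
    (fun t m => by
      have h4 := h2 t (Additive.toMul m)
      rw [← div_eq_mul_inv] at h4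
      exact h4)
    hM hM0 (fun m hm => h3 (Additive.toMul m) hm)
  let J : (Fin 2 → F) ≃+ Additive M := AddEquiv.ofBijective j hj
  have hJ : ∀ x, J x = j x := fun x => rfl
  refine ⟨fun m => J.symm (Additive.ofMul m), ?_, ?_, ?_⟩
  · exact J.symm.bijective.comp Additive.ofMul.bijective
  · intro a b
    show J.symm (Additive.ofMul (a * b)) = J.symm (Additive.ofMul a) + J.symm (Additive.ofMul b)
    rw [ofMul_mul, map_add]
  · intro g m
    show J.symm (Additive.ofMul (ρ g m)) = g.1 *ᵥ J.symm (Additive.ofMul m)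
    rw [AddEquiv.symm_apply_eq, hJ, hjg, ← hJ, AddEquiv.apply_symm_apply]
    rfl

end CharTwo

end Cfsg.Agent.ClassTwo.Sp4SL2
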