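/-
Commuting tori for the two minimal parabolic subgroups of `Sp(4,q)`.
-/
import Mathlib
import Cfsg.Agent.ClassTwo.Sp4Side

set_option autoImplicit false

namespace Cfsg.Agent.ClassTwo.Sp4Torus

open Cfsg.Agent.ClassTwo.Sp4Defs Cfsg.Agent.ClassTwo.Sp4Side
open Matrix (SpecialLinearGroup)
open scoped Matrix

/-- normalised amalgam -/
structure NAm (F G : Type*) [Field F] [Group G] extends Amalgam F G where
  hU₁ : ∀ x (hx : x ∈ V₂), ∃ t : F, φ₁ ⟨x, V₂_le_X₁ hx⟩ = u t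
  hU₂ : ∀ x (hx : x ∈ V₁), ∃ t : F, φ₂ ⟨x, V₁_le_X₂ hx⟩ = u t
  disj : V₁ ⊓ Subgroup.centralizer (X₁ : Set G) ⊓ (V₂ ⊓ Subgroup.centralizer (X₂ : Set G)) = ⊥

variable {F G : Type*} [Field F] [Group G]

/-- exchange the two parabolic subgroups -/
def Amalgam.swap (A : Amalgam F G) : Amalgam F G where
  V₁ := A.V₂
  V₂ := A.V₁
  X₁ := A.X₂
  X₂ := A.X₁
  φ₁ := A.φ₂
  φ₂ := A.φ₁
  surj₁ := A.surj₂
  surj₂ := A.surj₁
  ker₁ := A.ker₂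
  ker₂ := A.ker₁
  V₁_le_X₁ := A.V₂_le_X₂
  V₂_le_X₂ := A.V₁_le_X₁
  V₂_le_X₁ := A.V₁_le_X₂
  V₁_le_X₂ := A.V₂_le_X₁
  sq₁ := A.sq₂
  sq₂ := A.sq₁
  card₁ := A.card₂
  card₂ := A.card₁
  card₁₂ := by rw [inf_comm]; exact A.card₁₂
  cent₁ := A.cent₂
  cent₂ := A.cent₁
  cardZ₁ := A.cardZ₂
  cardZ₂ := A.cardZ₁
  norm₁ := A.norm₂
  norm₂ := A.norm₁
  odd₁ := A.odd₂
  odd₂ := A.odd₁

/-- change of `φ₁, φ₂` by inner automorphisms of `SL(2,F)` -/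
def chg (A : Amalgam F G) (g h : SpecialLinearGroup (Fin 2) F) : Amalgam F G :=
  { A with
    φ₁ := (MulAut.conj g).toMonoidHom.comp A.φ₁
    φ₂ := (MulAut.conj h).toMonoidHom.comp A.φ₂
    surj₁ := (MulAut.conj g).surjective.comp A.surj₁
    surj₂ := (MulAut.conj h).surjective.comp A.surj₂
    ker₁ := by
      rw [← A.ker₁]
      ext x
      simp [MonoidHom.mem_ker]
    ker₂ := by
      rw [← A.ker₂]
      ext x
      simp [MonoidHom.mem_ker] }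

theorem chg_φ₁ (A : Amalgam F G) (g h : SpecialLinearGroup (Fin 2) F) (x : ↥A.X₁) :
    (chg A g h).φ₁ x = g * A.φ₁ x * g⁻¹ := rfl

theorem chg_φ₂ (A : Amalgam F G) (g h : SpecialLinearGroup (Fin 2) F) (x : ↥A.X₂) :
    (chg A g h).φ₂ x = h * A.φ₂ x * h⁻¹ := rfl

theorem exists_conj [Finite F] [CharP F 2] (A : Amalgam F G) :
    ∃ g : SpecialLinearGroup (Fin 2) F, ∀ x (hx : x ∈ A.V₂), ∃ t : F, g * A.φ₁ ⟨x, A.V₂_le_X₁ hx⟩ * g⁻¹ = u t := by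
  have hq : 0 < Nat.card F := Nat.card_pos
  obtain ⟨g, hg⟩ := Sp4SL2.conj_U ((A.V₂.subgroupOf A.X₁).map A.φ₁) (by
      rintro _ ⟨x, hx, rfl⟩
      rw [← map_mul]
      have : x * x = 1 := Subtype.ext (A.sq₂ x (Subgroup.mem_subgroupOf.1 hx))
      rw [this, map_one]) (by
      rw [← Subgroup.relIndex_ker, A.ker₁, Subgroup.relIndex_subgroupOf A.V₂_le_X₁]
      have h1 := Subgroup.relIndex_mul_relIndex ⊥ (A.V₁ ⊓ A.V₂) A.V₂ bot_le inf_le_right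
      rw [Subgroup.relIndex_bot_left, Subgroup.relIndex_bot_left, A.card₁₂, A.card₂,
        Subgroup.inf_relIndex_right] at h1
      have : Nat.card F ^ 2 * A.V₁.relIndex A.V₂ = Nat.card F ^ 2 * Nat.card F := by
        rw [h1]; ring
      exact Nat.eq_of_mul_eq_mul_left (by positivity) this)
  exact ⟨g, fun x hx => hg _ ⟨⟨x, A.V₂_le_X₁ hx⟩, hx, rfl⟩⟩

theorem exists_NAm [Finite F] [CharP F 2] (A : Amalgam F G)
    (hZ : A.V₁ ⊓ Subgroup.centralizer (A.X₁ : Set G) ⊓ (A.V₂ ⊓ Subgroup.centralizer (A.X₂ : Set G)) = ⊥) :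
    ∃ N : NAm F G, N.V₁ = A.V₁ ∧ N.V₂ = A.V₂ ∧ N.X₁ = A.X₁ ∧ N.X₂ = A.X₂ := by
  obtain ⟨g, hg⟩ := exists_conj A
  obtain ⟨h, hh⟩ := exists_conj (Amalgam.swap A)
  exact ⟨{ chg A g h with hU₁ := hg, hU₂ := hh, disj := hZ }, rfl, rfl, rfl, rfl⟩

namespace NAm

/-- exchange the two parabolic subgroups -/
def swap (A : NAm F G) : NAm F G :=
  { Amalgam.swap A.toAmalgam with
    hU₁ := A.hU₂
    hU₂ := A.hU₁
    disj := by rw [inf_comm]; exact A.disj }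

/-- the first side -/
def side₁ (A : NAm F G) : Side F G where
  V := A.V₁
  V' := A.V₂
  X := A.X₁
  φ := A.φ₁
  surj := A.surj₁
  ker := A.ker₁
  V_le := A.V₁_le_X₁
  V'_le := A.V₂_le_X₁
  sq := A.sq₁
  sq' := A.sq₂
  card := A.card₁
  card' := A.card₂
  cardD := A.card₁₂
  cent := A.cent₁
  cent' := A.cent₂
  cardZ := A.cardZ₁
  hU := A.hU₁
  nrm' := by
    intro v hv x hx
    have h1 : (⟨x, A.V₂_le_X₂ hx⟩ : ↥A.X₂) ∈ A.φ₂.ker := by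
      rw [A.ker₂]; exact hx
    have h2 := (inferInstance : A.φ₂.ker.Normal).conj_mem _ h1 ⟨v, A.V₁_le_X₂ hv⟩
    rw [A.ker₂] at h2
    exact h2

/-- the second side -/
def side₂ (A : NAm F G) : Side F G := A.swap.side₁

variable (A : NAm F G)

theorem swap_swap : A.swap.swap = A := rfl

/-- the Sylow subgroup -/
def S : Subgroup G := A.V₁ ⊔ A.V₂

theorem side₁_S : A.side₁.S = A.S := rfl

theorem side₂_S : A.side₂.S = A.S := sup_comm _ _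

theorem swap_S : A.swap.S = A.S := sup_comm _ _

theorem S_le₁ : A.S ≤ A.X₁ := A.side₁.S_le

theorem S_le₂ : A.S ≤ A.X₂ := by
  rw [← A.side₂_S]; exact A.side₂.S_le

/-- the common overgroup of the Borel subgroups -/
def R : Subgroup G :=
  Subgroup.normalizer (A.V₁ : Set G) ⊓ Subgroup.normalizer (A.V₂ : Set G) ⊓ Subgroup.normalizer (A.S : Set G)

theorem swap_R : A.swap.R = A.R := by
  unfold R
  rw [swap_S]
  congr 1
  exact inf_comm _ _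

theorem S_le_R : A.S ≤ A.R := by
  refine le_inf (le_inf ?_ ?_) Subgroup.le_normalizer
  · exact A.S_le₁.trans A.side₁.le_normalizer
  · exact A.S_le₂.trans A.side₂.le_normalizer

theorem borel_le_R₁ [Finite F] [CharP F 2] [Finite G] (hq : 4 ≤ Nat.card F) {b : G} (hb : b ∈ A.X₁)
    (hB : (A.φ₁ ⟨b, hb⟩).1 1 0 = 0) : b ∈ A.R := by
  obtain ⟨c⟩ := A.side₁.nonempty_crd hq
  refine ⟨⟨A.side₁.le_normalizer hb, ?_⟩, ?_⟩
  · change b ∈ Subgroup.normalizer (A.V₂ : Set G)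
    rw [Subgroup.mem_normalizer_iff]
    intro y
    constructor
    · intro hy
      exact Side.conj_mem_V' c hb hB hy
    · intro hy
      have h2 := Side.conj_mem_V' c (A.X₁.inv_mem hb)
        (by rw [Side.φ_inv (T := A.side₁) hb]; exact Side.inv_borel hB) hy
      change b⁻¹ * (b * y * b⁻¹) * b⁻¹⁻¹ ∈ A.V₂ at h2
      simpa [mul_assoc] using h2
  · exact (Side.mem_normalizer_S (T := A.side₁) hb).2 hB

theorem borel_le_R₂ [Finite F] [CharP F 2] [Finite G] (hq : 4 ≤ Nat.card F) {b : G} (hb : b ∈ A.X₂)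
    (hB : (A.φ₂ ⟨b, hb⟩).1 1 0 = 0) : b ∈ A.R := by
  rw [← swap_R]
  exact A.swap.borel_le_R₁ hq hb hB

theorem odd_R [Finite F] [CharP F 2] [Finite G] : Odd (A.S.relIndex A.R) := by
  have h1 : Odd (A.S.relIndex (Subgroup.normalizer (A.V₁ : Set G))) := by
    rw [← Subgroup.relIndex_mul_relIndex A.S A.X₁ (Subgroup.normalizer (A.V₁ : Set G)) A.S_le₁
      A.side₁.le_normalizer]
    exact A.side₁.odd_relIndex.mul A.odd₁
  have h2 := Subgroup.relIndex_mul_relIndex A.S A.R (Subgroup.normalizer (A.V₁ : Set G)) A.S_le_R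
    (inf_le_left.trans inf_le_left)
  rw [← h2] at h1
  exact (Nat.odd_mul.1 h1).1

theorem isPGroup_S [Finite G] : IsPGroup 2 A.S := by
  intro x
  refine ⟨2, ?_⟩
  obtain ⟨v, hv, y, hy, hxy⟩ := A.side₁.mem_S.1 (by rw [side₁_S]; exact x.2)
  have hv : v ∈ A.V₁ := hv
  have hy : y ∈ A.V₂ := hy
  have hyX : y ∈ A.X₁ := A.V₂_le_X₁ hy
  have h1 : (x : G) * x ∈ A.V₁ := by
    have : (x : G) * x = v * (y * v * y⁻¹) := by
      rw [← hxy]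
      have : y * y = 1 := A.sq₂ y hy
      calc v * y * (v * y) = v * (y * v * y⁻¹) * (y * y) := by group
        _ = _ := by rw [this, mul_one]
    rw [this]
    exact A.V₁.mul_mem hv (A.side₁.conj_mem hyX hv)
  apply Subtype.ext
  rw [Subgroup.coe_pow, Subgroup.coe_one]
  have h2 := A.sq₁ _ h1
  calc (x : G) ^ 2 ^ 2 = (x : G) * x * ((x : G) * x) := by norm_num [pow_succ, mul_assoc]
    _ = 1 := h2

/-- Schur–Zassenhaus -/
theorem exists_compl [Finite F] [CharP F 2] [Finite G] :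
    ∃ K : Subgroup G, K ≤ A.R ∧ (∀ k ∈ K, k ∈ A.S → k = 1) ∧ ∀ r ∈ A.R, ∃ k ∈ K, ∃ s ∈ A.S, r = k * s := by
  have hn : (A.S.subgroupOf A.R).Normal := by
    constructor
    intro a ha g
    rw [Subgroup.mem_subgroupOf] at ha ⊢
    exact (Subgroup.mem_normalizer_iff.1 g.2.2 _).1 ha
  have hc : Nat.Coprime (Nat.card ↥(A.S.subgroupOf A.R)) (A.S.subgroupOf A.R).index := by
    have h1 : Nat.card ↥(A.S.subgroupOf A.R) = Nat.card ↥A.S :=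
      Nat.card_congr (Subgroup.subgroupOfEquivOfLe A.S_le_R).toEquiv
    obtain ⟨n, hn⟩ := IsPGroup.iff_card.1 A.isPGroup_S
    rw [h1, hn]
    apply Nat.Coprime.pow_left
    exact (Nat.coprime_two_left).2 A.odd_R
  obtain ⟨K, hK⟩ := Subgroup.exists_right_complement'_of_coprime hc
  refine ⟨K.map A.R.subtype, ?_, ?_, ?_⟩
  · rintro _ ⟨k, _, rfl⟩
    exact k.2
  · rintro _ ⟨k, hk, rfl⟩ hS
    have h1 : k ∈ A.S.subgroupOf A.R ⊓ K := ⟨hS, hk⟩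
    rw [hK.disjoint.eq_bot] at h1
    rw [Subgroup.mem_bot.1 h1]
    rfl
  · intro r hr
    obtain ⟨⟨s, k⟩, hsk⟩ := hK.2 (⟨r, hr⟩ : ↥A.R)⁻¹
    have h2 : ((s : ↥A.R) : G) * ((k : ↥A.R) : G) = r⁻¹ := congrArg Subtype.val hsk
    refine ⟨((k : ↥A.R) : G)⁻¹, ?_, ((s : ↥A.R) : G)⁻¹, A.S.inv_mem s.2, ?_⟩
    · exact Subgroup.inv_mem _ ⟨k, k.2, rfl⟩
    · rw [← mul_inv_rev, h2, inv_inv]

theorem mem_S_of_mem [Finite F] [CharP F 2] [Finite G] (hq : 4 ≤ Nat.card F) {x : G} (h1 : x ∈ A.X₁)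
    (h2 : x ∈ A.X₂) (hR : x ∈ A.R) : x ∈ A.S := by
  obtain ⟨c⟩ := A.side₂.nonempty_crd hq
  have hB : (A.φ₂ ⟨x, h2⟩).1 1 0 = 0 := by
    have h3 : x ∈ Subgroup.normalizer (A.side₂.S : Set G) := by
      rw [side₂_S]; exact hR.2
    exact (Side.mem_normalizer_S (T := A.side₂) h2).1 h3
  obtain ⟨z, hz, hz1⟩ := Side.exists_mem_Z_ne (T := A.side₁) hq
  have hz2 : z ∈ A.V₂ := A.side₁.Z_le' hz
  have hz1' : z ∈ A.V₁ := A.side₁.Z_le hz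
  have hzZ : z ∉ A.side₂.Z := by
    intro h
    apply hz1
    have : z ∈ (⊥ : Subgroup G) := by
      rw [← A.disj]
      exact ⟨hz, h⟩
    exact Subgroup.mem_bot.1 this
  have hc : x * z * x⁻¹ = z := by
    rw [(A.side₁.mem_Z.1 hz).2 x h1, mul_inv_cancel_right]
  have h5 := c.conj (T := A.side₂) h2 hz2 (by rw [hc]; exact hz2)
  simp only [hc] at h5
  have h6 : c.e ⟨z, hz2⟩ 1 = 0 := c.snd_eq_zero hz2 hz1'
  have h7 : c.e ⟨z, hz2⟩ 0 ≠ 0 := by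
    intro h0
    apply hzZ
    apply (c.eq_zero ⟨z, hz2⟩).1
    ext i
    fin_cases i
    · exact h0
    · exact h6
  have h8 := congrFun h5 0
  simp only [Matrix.mulVec, dotProduct, Fin.sum_univ_two, h6, mul_zero, add_zero] at h8
  have h9 : (A.φ₂ ⟨x, h2⟩).1 0 0 = 1 := by
    have : (A.φ₂ ⟨x, h2⟩).1 0 0 * c.e ⟨z, hz2⟩ 0 = 1 * c.e ⟨z, hz2⟩ 0 := by rw [one_mul]; exact h8.symm
    exact mul_right_cancel₀ h7 this
  rw [← side₂_S]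
  exact (A.side₂.mem_S_iff h2).2 ⟨_, Side.eq_u hB h9⟩

theorem R_conj_X₁ {r x : G} (hr : r ∈ A.R) (hx : x ∈ A.X₁) : r * x * r⁻¹ ∈ A.X₁ := A.norm₁ r hr.1.1 x hx

theorem R_conj_X₂ {r x : G} (hr : r ∈ A.R) (hx : x ∈ A.X₂) : r * x * r⁻¹ ∈ A.X₂ := A.norm₂ r hr.1.2 x hx

theorem R_conj_V₁ {r x : G} (hr : r ∈ A.R) (hx : x ∈ A.V₁) : r * x * r⁻¹ ∈ A.V₁ :=
  (Subgroup.mem_normalizer_iff.1 hr.1.1 x).1 hx

theorem R_conj_V₂ {r x : G} (hr : r ∈ A.R) (hx : x ∈ A.V₂) : r * x * r⁻¹ ∈ A.V₂ :=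
  (Subgroup.mem_normalizer_iff.1 hr.1.2 x).1 hx

theorem borel_of_mem_R [Finite F] {x : G} (hx : x ∈ A.X₁) (hR : x ∈ A.R) : (A.φ₁ ⟨x, hx⟩).1 1 0 = 0 :=
  (Side.mem_normalizer_S (T := A.side₁) hx).1 hR.2

theorem comm_of_compl [Finite F] [CharP F 2] [Finite G] (hq : 4 ≤ Nat.card F) {K : Subgroup G} (hK : K ≤ A.R)
    (hKS : ∀ k ∈ K, k ∈ A.S → k = 1) {h k : G} (hh : h ∈ K ⊓ A.X₁) (hk : k ∈ K ⊓ A.X₂) : h * k = k * h := by
  have h1 : h * k * h⁻¹ * k⁻¹ = 1 := by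
    apply hKS
    · exact K.mul_mem (K.mul_mem (K.mul_mem hh.1 hk.1) (K.inv_mem hh.1)) (K.inv_mem hk.1)
    · apply A.mem_S_of_mem hq
      · have : h * k * h⁻¹ * k⁻¹ = h * (k * h⁻¹ * k⁻¹) := by group
        rw [this]
        exact A.X₁.mul_mem hh.2 (A.R_conj_X₁ (hK hk.1) (A.X₁.inv_mem hh.2))
      · exact A.X₂.mul_mem (A.R_conj_X₂ (hK hh.1) hk.2) (A.X₂.inv_mem hk.2)
      · exact A.R.mul_mem (A.R.mul_mem (A.R.mul_mem (hK hh.1) (hK hk.1)) (A.R.inv_mem (hK hh.1)))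
          (A.R.inv_mem (hK hk.1))
  rw [mul_inv_eq_one, mul_inv_eq_iff_eq_mul] at h1
  exact h1

theorem abelian_of_compl [Finite F] {K : Subgroup G} (hK : K ≤ A.R)
    (hKS : ∀ k ∈ K, k ∈ A.S → k = 1) {h k : G} (hh : h ∈ K ⊓ A.X₁) (hk : k ∈ K ⊓ A.X₁) : h * k = k * h := by
  have h1 : h * k * h⁻¹ * k⁻¹ = 1 := by
    have hX : h * k * h⁻¹ * k⁻¹ ∈ A.X₁ :=
      A.X₁.mul_mem (A.X₁.mul_mem (A.X₁.mul_mem hh.2 hk.2) (A.X₁.inv_mem hh.2)) (A.X₁.inv_mem hk.2)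
    apply hKS
    · exact K.mul_mem (K.mul_mem (K.mul_mem hh.1 hk.1) (K.inv_mem hh.1)) (K.inv_mem hk.1)
    · rw [← side₁_S]
      rw [A.side₁.mem_S_iff hX]
      have h2 := Side.borel_comm (A.borel_of_mem_R hh.2 (hK hh.1)) (A.borel_of_mem_R hk.2 (hK hk.1))
      rw [← map_inv, ← map_inv, ← map_mul, ← map_mul, ← map_mul] at h2
      exact h2
  rw [mul_inv_eq_one, mul_inv_eq_iff_eq_mul] at h1
  exact h1

theorem exists_tor₁ [Finite F] [CharP F 2] [Finite G] {K : Subgroup G} (hK : K ≤ A.R)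
    (hKS : ∀ k ∈ K, k ∈ A.S → k = 1) :
    ∃ s : F, ∀ k, ∀ (hk : k ∈ K ⊓ A.X₁), ∃ l : Fˣ, u s * A.φ₁ ⟨k, hk.2⟩ * (u s)⁻¹ = d l := by
  obtain ⟨s, hs⟩ := Sp4SL2.conj_T (((K ⊓ A.X₁).subgroupOf A.X₁).map A.φ₁) (by
      rintro _ ⟨x, hx, rfl⟩ _ ⟨y, hy, rfl⟩
      rw [← map_mul, ← map_mul]
      congr 1
      apply Subtype.ext
      exact A.abelian_of_compl hK hKS hx hy) (by
      rintro _ ⟨x, hx, rfl⟩
      exact A.borel_of_mem_R x.2 (hK hx.1)) (by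
      rintro t ⟨x, hx, hxt⟩
      have h1 : (x : G) ∈ A.S := by
        rw [← side₁_S]
        exact (A.side₁.mem_S_iff x.2).2 ⟨t, hxt⟩
      have h2 : x = 1 := Subtype.ext (hKS _ hx.1 h1)
      rw [h2, map_one, ← Side.u_zero] at hxt
      exact (Side.u_inj hxt).symm)
  exact ⟨s, fun k hk => hs _ ⟨⟨k, hk.2⟩, hk, rfl⟩⟩

theorem d_eq_mul_u {l l' : Fˣ} {t : F} (h : d l' = d l * u t) : t = 0 := by
  have h1 := congrArg (fun z : SpecialLinearGroup (Fin 2) F => z.1 0 1) h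
  simp only [Matrix.SpecialLinearGroup.coe_mul] at h1
  simp [d, u, Matrix.mul_apply, Fin.sum_univ_two] at h1
  exact h1

end NAm

namespace NAm

variable (A : NAm F G)

theorem exists_tor₁' [Finite F] [CharP F 2] [Finite G] (hq : 4 ≤ Nat.card F) {K : Subgroup G}
    (hKR : ∀ r ∈ A.R, ∃ k ∈ K, ∃ s ∈ A.S, r = k * s)
    (htor : ∀ k, ∀ (hk : k ∈ K ⊓ A.X₁), ∃ l : Fˣ, A.φ₁ ⟨k, hk.2⟩ = d l) (l : Fˣ) :
    ∃ h, ∃ hh : h ∈ K ⊓ A.X₁, A.φ₁ ⟨h, hh.2⟩ = d l := by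
  obtain ⟨⟨b, hb⟩, hbl⟩ := A.surj₁ (d l)
  have hB : (A.φ₁ ⟨b, hb⟩).1 1 0 = 0 := by
    rw [hbl]; simp [d]
  obtain ⟨k, hk, s, hs, hbks⟩ := hKR b (A.borel_le_R₁ hq hb hB)
  have hsX : s ∈ A.X₁ := A.S_le₁ hs
  have hkX : k ∈ A.X₁ := by
    have : k = b * s⁻¹ := by rw [hbks]; group
    rw [this]
    exact A.X₁.mul_mem hb (A.X₁.inv_mem hsX)
  obtain ⟨l', hl'⟩ := htor k ⟨hk, hkX⟩
  obtain ⟨t, ht⟩ := (A.side₁.mem_S_iff hsX).1 (by rw [side₁_S]; exact hs)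
  have h1 : A.φ₁ ⟨b, hb⟩ = A.φ₁ ⟨k, hkX⟩ * A.φ₁ ⟨s, hsX⟩ := by
    rw [← map_mul]
    congr 1
    exact Subtype.ext hbks
  have ht' : A.φ₁ ⟨s, hsX⟩ = u t := ht
  rw [hbl, hl', ht'] at h1
  have h2 := d_eq_mul_u h1
  refine ⟨k, ⟨hk, hkX⟩, ?_⟩
  rw [h2, Side.u_zero, mul_one] at h1
  rw [hl', h1]

end NAm

end Cfsg.Agent.ClassTwo.Sp4Torus
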