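/-
From the amalgam of the two minimal parabolic subgroups of `Sp(4,q)`, `q` even, to a frame
(two Levi complements `SL(2,F)`).
-/
import Mathlib
import Cfsg.Agent.ClassTwo.Sp4Torus

set_option autoImplicit false

namespace Cfsg.Agent.ClassTwo.Sp4Frame

open Cfsg.Agent.ClassTwo.Sp4Defs Cfsg.Agent.ClassTwo.Sp4Side Cfsg.Agent.ClassTwo.Sp4Torus
open Matrix (SpecialLinearGroup)
open scoped Matrix

/-- amalgam with commuting tori -/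
structure TAm (F G : Type*) [Field F] [Group G] extends NAm F G where
  H₁ : Subgroup G
  H₂ : Subgroup G
  H₁_le : H₁ ≤ X₁
  H₂_le : H₂ ≤ X₂
  tor₁ : ∀ h (hh : h ∈ H₁), ∃ l : Fˣ, φ₁ ⟨h, H₁_le hh⟩ = d l
  tor₂ : ∀ h (hh : h ∈ H₂), ∃ l : Fˣ, φ₂ ⟨h, H₂_le hh⟩ = d l
  tor₁' : ∀ l : Fˣ, ∃ h, ∃ hh : h ∈ H₁, φ₁ ⟨h, H₁_le hh⟩ = d l
  tor₂' : ∀ l : Fˣ, ∃ h, ∃ hh : h ∈ H₂, φ₂ ⟨h, H₂_le hh⟩ = d l
  triv₁ : ∀ h ∈ H₁, h ∈ V₁ → h = 1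
  triv₂ : ∀ h ∈ H₂, h ∈ V₂ → h = 1
  comm : ∀ h ∈ H₁, ∀ k ∈ H₂, h * k = k * h
  nrm₁ : ∀ h ∈ H₁, ∀ x ∈ V₂, h * x * h⁻¹ ∈ V₂
  nrm₂ : ∀ h ∈ H₂, ∀ x ∈ V₁, h * x * h⁻¹ ∈ V₁

variable {F G : Type*} [Field F] [Group G]

theorem exists_TAm [Finite F] [CharP F 2] [Finite G] (hq : 4 ≤ Nat.card F) (A : NAm F G) :
    ∃ T : TAm F G, T.V₁ = A.V₁ ∧ T.V₂ = A.V₂ ∧ T.X₁ = A.X₁ ∧ T.X₂ = A.X₂ := by
  obtain ⟨K, hK, hKS, hKR⟩ := A.exists_compl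
  obtain ⟨s1, hs1⟩ := A.exists_tor₁ hK hKS
  obtain ⟨s2, hs2⟩ := A.swap.exists_tor₁ (K := K) (by rw [NAm.swap_R]; exact hK) (by
    rw [NAm.swap_S]; exact hKS)
  have hconj : ∀ s t : F, u s * u t * (u s)⁻¹ = u t := by
    intro s t
    rw [← Side.u_mul, add_comm, Side.u_mul, mul_inv_cancel_right]
  let B : NAm F G :=
    { chg A.toAmalgam (u s1) (u s2) with
      hU₁ := by
        intro x hx
        obtain ⟨t, ht⟩ := A.hU₁ x hx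
        refine ⟨t, ?_⟩
        change u s1 * A.φ₁ ⟨x, _⟩ * (u s1)⁻¹ = u t
        rw [ht, hconj]
      hU₂ := by
        intro x hx
        obtain ⟨t, ht⟩ := A.hU₂ x hx
        refine ⟨t, ?_⟩
        change u s2 * A.φ₂ ⟨x, _⟩ * (u s2)⁻¹ = u t
        rw [ht, hconj]
      disj := A.disj }
  have hBR : B.R = A.R := rfl
  have hBS : B.S = A.S := rfl
  refine ⟨{ B with
    H₁ := K ⊓ A.X₁
    H₂ := K ⊓ A.X₂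
    H₁_le := inf_le_right
    H₂_le := inf_le_right
    tor₁ := fun h hh => hs1 h hh
    tor₂ := fun h hh => hs2 h hh
    tor₁' := fun l => B.exists_tor₁' hq (K := K) hKR (fun k hk => hs1 k hk) l
    tor₂' := fun l => B.swap.exists_tor₁' hq (K := K) (by
      rw [NAm.swap_R, NAm.swap_S]; exact hKR) (fun k hk => hs2 k hk) l
    triv₁ := fun h hh hV => hKS h hh.1 (Subgroup.mem_sup_left hV)
    triv₂ := fun h hh hV => hKS h hh.1 (Subgroup.mem_sup_right hV)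
    comm := fun h hh k hk => A.comm_of_compl hq hK hKS hh hk
    nrm₁ := fun h hh x hx => A.R_conj_V₂ (hK hh.1) hx
    nrm₂ := fun h hh x hx => A.R_conj_V₁ (hK hh.1) hx }, rfl, rfl, rfl, rfl⟩

theorem d_inj {l l' : Fˣ} (h : d l = d l') : l = l' := by
  have h1 := congrArg (fun z : SpecialLinearGroup (Fin 2) F => z.1 0 0) h
  apply Units.ext
  simpa [d] using h1

theorem d_mul (l l' : Fˣ) : d (l * l') = d l * d l' := by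
  apply Subtype.ext
  rw [Matrix.SpecialLinearGroup.coe_mul]
  ext i j
  fin_cases i <;> fin_cases j <;> simp [d, Matrix.mul_apply, Fin.sum_univ_two, mul_comm]

theorem d_one : d (1 : Fˣ) = 1 := by
  apply Subtype.ext
  ext i j
  fin_cases i <;> fin_cases j <;> simp [d]

theorem d_inv (l : Fˣ) : d l⁻¹ = (d l)⁻¹ := by
  rw [eq_inv_iff_mul_eq_one, ← d_mul, inv_mul_cancel, d_one]

theorem d_comm (l l' : Fˣ) : d l * d l' = d l' * d l := by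
  rw [← d_mul, ← d_mul, mul_comm]

theorem d_conj_u (l : Fˣ) (t : F) : d l * u t * (d l)⁻¹ = u ((l : F) ^ 2 * t) := by
  have h : (d l).1 1 0 = 0 := by simp [d]
  rw [Side.borel_conj_u h]
  simp [d]

theorem w_mul_w [CharP F 2] : w F * w F = 1 := by
  apply Subtype.ext
  rw [Matrix.SpecialLinearGroup.coe_mul]
  ext i j
  fin_cases i <;> fin_cases j <;> simp [w, Matrix.mul_apply, Fin.sum_univ_two, CharTwo.neg_eq]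

theorem w_conj_d (l : Fˣ) : w F * d l * (w F)⁻¹ = (d l)⁻¹ := by
  rw [mul_inv_eq_iff_eq_mul, ← d_inv]
  apply Subtype.ext
  rw [Matrix.SpecialLinearGroup.coe_mul, Matrix.SpecialLinearGroup.coe_mul]
  ext i j
  fin_cases i <;> fin_cases j <;> simp [w, d, Matrix.mul_apply, Fin.sum_univ_two]

theorem sq_eq_one_iff [CharP F 2] {l : Fˣ} (h : (l : F) ^ 2 = 1) : l = 1 := by
  have h1 : ((l : F) + 1) ^ 2 = 0 := by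
    rw [CharTwo.add_sq, h, one_pow, CharTwo.add_self_eq_zero]
  have h2 : (l : F) + 1 = 0 := pow_eq_zero_iff (two_ne_zero) |>.1 h1
  apply Units.ext
  rw [Units.val_one]
  rw [← CharTwo.sub_eq_add, sub_eq_zero] at h2
  exact h2

namespace TAm

/-- exchange the two parabolic subgroups -/
def swap (A : TAm F G) : TAm F G :=
  { A.toNAm.swap with
    H₁ := A.H₂
    H₂ := A.H₁
    H₁_le := A.H₂_le
    H₂_le := A.H₁_le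
    tor₁ := A.tor₂
    tor₂ := A.tor₁
    tor₁' := A.tor₂'
    tor₂' := A.tor₁'
    triv₁ := A.triv₂
    triv₂ := A.triv₁
    comm := fun h hh k hk => (A.comm k hk h hh).symm
    nrm₁ := A.nrm₂
    nrm₂ := A.nrm₁ }

variable (A : TAm F G)

theorem H₁_inj {h k : G} (hh : h ∈ A.H₁) (hk : k ∈ A.H₁)
    (e : A.φ₁ ⟨h, A.H₁_le hh⟩ = A.φ₁ ⟨k, A.H₁_le hk⟩) : h = k := by
  have h1 := (A.side₁.φ_eq_iff (A.H₁_le hh) (A.H₁_le hk)).1 e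
  have h2 := A.triv₁ _ (A.H₁.mul_mem (A.H₁.inv_mem hh) hk) h1
  rw [inv_mul_eq_one] at h2
  exact h2

theorem H₁_comm {h k : G} (hh : h ∈ A.H₁) (hk : k ∈ A.H₁) : h * k = k * h := by
  apply A.H₁_inj (A.H₁.mul_mem hh hk) (A.H₁.mul_mem hk hh)
  obtain ⟨l, hl⟩ := A.tor₁ h hh
  obtain ⟨l', hl'⟩ := A.tor₁ k hk
  have h1 : A.φ₁ ⟨h * k, A.H₁_le (A.H₁.mul_mem hh hk)⟩ = A.φ₁ ⟨h, A.H₁_le hh⟩ * A.φ₁ ⟨k, A.H₁_le hk⟩ := by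
    rw [← map_mul]; rfl
  have h2 : A.φ₁ ⟨k * h, A.H₁_le (A.H₁.mul_mem hk hh)⟩ = A.φ₁ ⟨k, A.H₁_le hk⟩ * A.φ₁ ⟨h, A.H₁_le hh⟩ := by
    rw [← map_mul]; rfl
  rw [h1, h2, hl, hl', d_comm]

theorem H₂_comm {h k : G} (hh : h ∈ A.H₂) (hk : k ∈ A.H₂) : h * k = k * h := (swap A).H₁_comm hh hk

/-- the torus -/
def K : Subgroup G where
  carrier := {g | ∃ h ∈ A.H₁, ∃ k ∈ A.H₂, h * k = g}
  mul_mem' := by
    rintro _ _ ⟨h, hh, k, hk, rfl⟩ ⟨h', hh', k', hk', rfl⟩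
    refine ⟨h * h', A.H₁.mul_mem hh hh', k * k', A.H₂.mul_mem hk hk', ?_⟩
    calc h * h' * (k * k') = h * (h' * k) * k' := by group
      _ = h * (k * h') * k' := by rw [A.comm h' hh' k hk]
      _ = h * k * (h' * k') := by group
  one_mem' := ⟨1, A.H₁.one_mem, 1, A.H₂.one_mem, mul_one _⟩
  inv_mem' := by
    rintro _ ⟨h, hh, k, hk, rfl⟩
    refine ⟨h⁻¹, A.H₁.inv_mem hh, k⁻¹, A.H₂.inv_mem hk, ?_⟩
    rw [mul_inv_rev]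
    exact A.comm _ (A.H₁.inv_mem hh) _ (A.H₂.inv_mem hk)

theorem mem_K {g : G} : g ∈ A.K ↔ ∃ h ∈ A.H₁, ∃ k ∈ A.H₂, h * k = g := Iff.rfl

theorem H₁_le_K {h : G} (hh : h ∈ A.H₁) : h ∈ A.K := ⟨h, hh, 1, A.H₂.one_mem, mul_one _⟩

theorem H₂_le_K {h : G} (hh : h ∈ A.H₂) : h ∈ A.K := ⟨1, A.H₁.one_mem, h, hh, one_mul _⟩

theorem swap_K : (swap A).K = A.K := by
  ext g
  rw [mem_K, mem_K]
  constructor
  · rintro ⟨h, hh, k, hk, rfl⟩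
    exact ⟨k, hk, h, hh, A.comm k hk h hh⟩
  · rintro ⟨h, hh, k, hk, rfl⟩
    exact ⟨k, hk, h, hh, (A.comm h hh k hk).symm⟩

theorem K_comm {x y : G} (hx : x ∈ A.K) (hy : y ∈ A.K) : x * y = y * x := by
  obtain ⟨h, hh, k, hk, rfl⟩ := hx
  obtain ⟨h', hh', k', hk', rfl⟩ := hy
  calc h * k * (h' * k') = h * (k * h') * k' := by group
    _ = h * (h' * k) * k' := by rw [A.comm h' hh' k hk]
    _ = (h * h') * (k * k') := by group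
    _ = (h' * h) * (k' * k) := by rw [A.H₁_comm hh hh', A.H₂_comm hk hk']
    _ = h' * (h * k') * k := by group
    _ = h' * (k' * h) * k := by rw [A.comm h hh k' hk']
    _ = h' * k' * (h * k) := by group

theorem K_V₁ {k x : G} (hk : k ∈ A.K) (hx : x ∈ A.V₁) : k * x * k⁻¹ ∈ A.V₁ := by
  obtain ⟨h, hh, k, hk, rfl⟩ := hk
  have h1 := A.nrm₂ k hk x hx
  have h2 := A.side₁.conj_mem (A.H₁_le hh) h1
  have : h * k * x * (h * k)⁻¹ = h * (k * x * k⁻¹) * h⁻¹ := by group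
  rw [this]
  exact h2

theorem K_V₂ {k x : G} (hk : k ∈ A.K) (hx : x ∈ A.V₂) : k * x * k⁻¹ ∈ A.V₂ :=
  (swap A).K_V₁ (by rw [swap_K]; exact hk) hx

theorem K_nV₁ {k : G} (hk : k ∈ A.K) : k ∈ Subgroup.normalizer (A.V₁ : Set G) := by
  rw [Subgroup.mem_normalizer_iff]
  intro y
  constructor
  · exact fun hy => A.K_V₁ hk hy
  · intro hy
    have := A.K_V₁ (A.K.inv_mem hk) hy
    simpa [mul_assoc] using this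

theorem K_X₁ {k x : G} (hk : k ∈ A.K) (hx : x ∈ A.X₁) : k * x * k⁻¹ ∈ A.X₁ := A.norm₁ k (A.K_nV₁ hk) x hx

theorem K_X₂ {k x : G} (hk : k ∈ A.K) (hx : x ∈ A.X₂) : k * x * k⁻¹ ∈ A.X₂ :=
  (swap A).K_X₁ (by rw [swap_K]; exact hk) hx

/-- conjugation by `k ∈ K` on `X₁` -/
def cK (k : G) (hk : k ∈ A.K) : ↥A.X₁ →* ↥A.X₁ where
  toFun x := ⟨k * x * k⁻¹, A.K_X₁ hk x.2⟩
  map_one' := by
    apply Subtype.ext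
    simp
  map_mul' x y := by
    apply Subtype.ext
    simp [mul_assoc]

theorem exists_aut [Finite F] [CharP F 2] (hq : 4 ≤ Nat.card F) {k : G} (hk : k ∈ A.K) :
    ∃ l : Fˣ, ∀ x (hx : x ∈ A.X₁), A.φ₁ ⟨k * x * k⁻¹, A.K_X₁ hk hx⟩ = d l * A.φ₁ ⟨x, hx⟩ * (d l)⁻¹ := by
  have hker : A.φ₁.ker ≤ (A.φ₁.comp (A.cK k hk)).ker := by
    intro x hx
    rw [MonoidHom.mem_ker] at hx ⊢
    rw [MonoidHom.comp_apply]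
    exact (A.side₁.φ_eq_one _).2 (A.K_V₁ hk ((A.side₁.φ_eq_one x.2).1 hx))
  let α : SpecialLinearGroup (Fin 2) F →* SpecialLinearGroup (Fin 2) F :=
    A.φ₁.liftOfSurjective A.surj₁ ⟨A.φ₁.comp (A.cK k hk), hker⟩
  have hα : ∀ x (hx : x ∈ A.X₁), α (A.φ₁ ⟨x, hx⟩) = A.φ₁ ⟨k * x * k⁻¹, A.K_X₁ hk hx⟩ := by
    intro x hx
    have : α (A.φ₁ ⟨x, hx⟩) = (A.φ₁.comp (A.cK k hk)) ⟨x, hx⟩ := by simp [α]
    rw [this]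
    rfl
  obtain ⟨l, hl⟩ := Sp4SL2.aut_torus hq α (by
      rw [injective_iff_map_eq_one]
      intro g hg
      obtain ⟨⟨x, hx⟩, rfl⟩ := A.surj₁ g
      rw [hα] at hg
      have h1 : k * x * k⁻¹ ∈ A.V₁ := (A.side₁.φ_eq_one _).1 hg
      have h2 := A.K_V₁ (A.K.inv_mem hk) h1
      exact (A.side₁.φ_eq_one hx).2 (show x ∈ A.V₁ by simpa [mul_assoc] using h2)) (by
      intro l
      obtain ⟨h, hh, hhl⟩ := A.tor₁' l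
      rw [← hhl, hα]
      congr 1
      apply Subtype.ext
      change k * h * k⁻¹ = h
      rw [A.K_comm hk (A.H₁_le_K hh), mul_inv_cancel_right]) (by
      intro t
      obtain ⟨y, hy, hyt⟩ := A.side₁.usurj t
      have hyt' : A.φ₁ ⟨y, A.V₂_le_X₁ hy⟩ = u t := hyt
      rw [← hyt', hα]
      exact A.hU₁ _ (A.K_V₂ hk hy))
  exact ⟨l, fun x hx => by rw [← hα]; exact hl _⟩

/-- the elements of the torus which centralise `X₁/V₁` -/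
def C1 (c : G) : Prop := c ∈ A.K ∧ ∀ x ∈ A.X₁, x⁻¹ * (c * x * c⁻¹) ∈ A.V₁

theorem C1_iff {c : G} (hc : c ∈ A.K) :
    A.C1 c ↔ ∀ x (hx : x ∈ A.X₁), A.φ₁ ⟨c * x * c⁻¹, A.K_X₁ hc hx⟩ = A.φ₁ ⟨x, hx⟩ := by
  unfold C1
  constructor
  · rintro ⟨_, h⟩ x hx
    exact ((A.side₁.φ_eq_iff hx (A.K_X₁ hc hx)).2 (h x hx)).symm
  · intro h
    refine ⟨hc, fun x hx => ?_⟩
    exact (A.side₁.φ_eq_iff hx (A.K_X₁ hc hx)).1 (h x hx).symm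

theorem φ_conj {x y : G} (hx : x ∈ A.X₁) (hy : y ∈ A.X₁) (h : x * y * x⁻¹ ∈ A.X₁) :
    A.φ₁ ⟨x * y * x⁻¹, h⟩ = A.φ₁ ⟨x, hx⟩ * A.φ₁ ⟨y, hy⟩ * (A.φ₁ ⟨x, hx⟩)⁻¹ :=
  Side.φ_conj (T := A.side₁) hx hy h

theorem φ_inv {x : G} (hx : x ∈ A.X₁) : A.φ₁ ⟨x⁻¹, A.X₁.inv_mem hx⟩ = (A.φ₁ ⟨x, hx⟩)⁻¹ :=
  Side.φ_inv (T := A.side₁) hx

/-- decomposition `K = H₁ C₁` -/
theorem dec [Finite F] [CharP F 2] (hq : 4 ≤ Nat.card F) {k : G} (hk : k ∈ A.K) :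
    ∃ l : Fˣ, ∃ h, ∃ hh : h ∈ A.H₁, A.φ₁ ⟨h, A.H₁_le hh⟩ = d l ∧ A.C1 (h⁻¹ * k) := by
  obtain ⟨l, hl⟩ := A.exists_aut hq hk
  obtain ⟨h, hh, hhl⟩ := A.tor₁' l
  have hhK := A.H₁_le_K hh
  have hc : h⁻¹ * k ∈ A.K := A.K.mul_mem (A.K.inv_mem hhK) hk
  refine ⟨l, h, hh, hhl, (A.C1_iff hc).2 ?_⟩
  intro x hx
  have hkx := A.K_X₁ hk hx
  have hX := A.H₁_le hh
  have hX' : h⁻¹ ∈ A.X₁ := A.X₁.inv_mem hX
  have h1 : h⁻¹ * k * x * (h⁻¹ * k)⁻¹ = h⁻¹ * (k * x * k⁻¹) * h⁻¹⁻¹ := by group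
  have h2 : h⁻¹ * (k * x * k⁻¹) * h⁻¹⁻¹ ∈ A.X₁ := by rw [← h1]; exact A.K_X₁ hc hx
  have h3 : A.φ₁ ⟨h⁻¹ * k * x * (h⁻¹ * k)⁻¹, A.K_X₁ hc hx⟩ = A.φ₁ ⟨h⁻¹ * (k * x * k⁻¹) * h⁻¹⁻¹, h2⟩ := by
    congr 1
    exact Subtype.ext h1
  rw [h3, A.φ_conj hX' hkx, hl x hx, A.φ_inv hX, hhl]
  group

theorem K_Z₁ {k z : G} (hk : k ∈ A.K) (hz : z ∈ A.side₁.Z) : k * z * k⁻¹ ∈ A.side₁.Z := by
  rw [Side.mem_Z] at hz ⊢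
  refine ⟨A.K_V₁ hk hz.1, fun y hy => ?_⟩
  have h1 := A.K_X₁ (A.K.inv_mem hk) hy
  have h2 := hz.2 _ h1
  calc y * (k * z * k⁻¹) = k * ((k⁻¹ * y * k⁻¹⁻¹) * z) * k⁻¹ := by group
    _ = k * (z * (k⁻¹ * y * k⁻¹⁻¹)) * k⁻¹ := by rw [h2]
    _ = k * z * k⁻¹ * y := by group

/-- elements of `C₁` act as scalars on `V₁/Z₁` -/
theorem exists_scalar [Finite F] [CharP F 2] (e : A.side₁.Crd) {c : G} (hc : A.C1 c) :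
    ∃ μ : F, ∀ v (hv : v ∈ A.V₁), e.e ⟨c * v * c⁻¹, A.K_V₁ hc.1 hv⟩ = μ • e.e ⟨v, hv⟩ := by
  have hcK := hc.1
  -- the homomorphism `E`
  let E : ↥A.V₁ →* Multiplicative (Fin 2 → F) :=
    MonoidHom.mk' (fun a => Multiplicative.ofAdd (e.e a)) (fun a b => by
      rw [← ofAdd_add]; congr 1; exact e.mul a b)
  have hE : Function.Surjective E := by
    intro y
    obtain ⟨a, ha⟩ := e.surj (Multiplicative.toAdd y)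
    refine ⟨a, ?_⟩
    change Multiplicative.ofAdd (e.e a) = y
    rw [ha]
    rfl
  let cv : ↥A.V₁ →* ↥A.V₁ :=
    { toFun := fun v => ⟨c * v * c⁻¹, A.K_V₁ hcK v.2⟩
      map_one' := by apply Subtype.ext; simp
      map_mul' := fun x y => by apply Subtype.ext; simp [mul_assoc] }
  have hker : E.ker ≤ (E.comp cv).ker := by
    intro a ha
    rw [MonoidHom.mem_ker] at ha ⊢
    have h1 : e.e a = 0 := ha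
    have h2 := (e.eq_zero a).1 h1
    have h3 := A.K_Z₁ hcK h2
    have h4 : e.e (cv a) = 0 := (e.eq_zero (cv a)).2 h3
    change Multiplicative.ofAdd (e.e (cv a)) = 1
    rw [h4]
    rfl
  let f' : Multiplicative (Fin 2 → F) →* Multiplicative (Fin 2 → F) :=
    E.liftOfSurjective hE ⟨E.comp cv, hker⟩
  have hf' : ∀ a, f' (E a) = E (cv a) := by
    intro a
    simp [f']
  let f : (Fin 2 → F) →+ (Fin 2 → F) := MonoidHom.toAdditive f'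
  have hf : ∀ a, f (e.e a) = e.e (cv a) := fun a => hf' a
  obtain ⟨μ, hμ⟩ := Sp4SL2.end_scalar f (by
    intro g x
    obtain ⟨a, rfl⟩ := e.surj x
    obtain ⟨⟨y, hy⟩, rfl⟩ := A.surj₁ g
    have h1 := e.act ⟨y, hy⟩ a
    have h1' : (A.φ₁ ⟨y, hy⟩).1 *ᵥ e.e a = e.e (A.side₁.cj ⟨y, hy⟩ a) := h1.symm
    rw [h1', hf, hf]
    have hyc := A.K_X₁ hcK hy
    have h2 : cv (A.side₁.cj ⟨y, hy⟩ a) = A.side₁.cj ⟨c * y * c⁻¹, hyc⟩ (cv a) := by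
      apply Subtype.ext
      change c * (y * (a : G) * y⁻¹) * c⁻¹ = (c * y * c⁻¹) * (c * (a : G) * c⁻¹) * (c * y * c⁻¹)⁻¹
      group
    rw [h2]
    have h3 := e.act ⟨c * y * c⁻¹, hyc⟩ (cv a)
    refine h3.trans ?_
    have h4 : A.φ₁ ⟨c * y * c⁻¹, hyc⟩ = A.φ₁ ⟨y, hy⟩ := (A.C1_iff hcK).1 hc y hy
    change (A.φ₁ ⟨c * y * c⁻¹, hyc⟩).1 *ᵥ e.e (cv a) = _
    rw [h4])
  refine ⟨μ, fun v hv => ?_⟩
  rw [← hμ, hf]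
  rfl

theorem d_mulVec (l : Fˣ) (x : Fin 2 → F) : (d l).1 *ᵥ x = ![(l : F) * x 0, (l⁻¹ : Fˣ) * x 1] := by
  ext i
  fin_cases i <;> simp [d, Matrix.mulVec, dotProduct, Fin.sum_univ_two]

theorem Z_inf : A.side₁.Z ⊓ A.side₂.Z = ⊥ := A.disj

/-- nonzero first coordinate for elements of `Z₂` -/
theorem fst_ne_zero [Finite F] (e : A.side₁.Crd) {z : G} (hz : z ∈ A.side₂.Z) (hz1 : z ≠ 1) :
    ∃ hV : z ∈ A.V₁, e.e ⟨z, hV⟩ 0 ≠ 0 ∧ e.e ⟨z, hV⟩ 1 = 0 := by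
  have hV1 : z ∈ A.V₁ := A.side₂.Z_le' hz
  have hV2 : z ∈ A.V₂ := A.side₂.Z_le hz
  have h1 : e.e ⟨z, hV1⟩ 1 = 0 := e.snd_eq_zero hV1 hV2
  refine ⟨hV1, fun h0 => ?_, h1⟩
  have h2 : e.e ⟨z, hV1⟩ = 0 := by
    ext i
    fin_cases i
    · exact h0
    · exact h1
  have h3 := (e.eq_zero _).1 h2
  have h4 : z ∈ A.side₁.Z ⊓ A.side₂.Z := ⟨h3, hz⟩
  rw [Z_inf] at h4
  exact hz1 (Subgroup.mem_bot.1 h4)

theorem fst_ne_zero' [Finite F] (e : A.side₂.Crd) {z : G} (hz : z ∈ A.side₁.Z) (hz1 : z ≠ 1) :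
    ∃ hV : z ∈ A.V₂, e.e ⟨z, hV⟩ 0 ≠ 0 ∧ e.e ⟨z, hV⟩ 1 = 0 := (swap A).fst_ne_zero e hz hz1

/-- the scalar of `c = h⁻¹k` -/
theorem scalar_eq [Finite F] [CharP F 2] [Finite G] (hq : 4 ≤ Nat.card F) (e : A.side₁.Crd) {h k : G} {l : Fˣ}
    (hh : h ∈ A.H₁) (hhl : A.φ₁ ⟨h, A.H₁_le hh⟩ = d l) (hk : k ∈ A.H₂) (hc : A.C1 (h⁻¹ * k)) :
    ∀ v (hv : v ∈ A.V₁), e.e ⟨(h⁻¹ * k) * v * (h⁻¹ * k)⁻¹, A.K_V₁ hc.1 hv⟩ = ((l⁻¹ : Fˣ) : F) • e.e ⟨v, hv⟩ := by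
  obtain ⟨μ, hμ⟩ := A.exists_scalar e hc
  obtain ⟨z, hz, hz1⟩ := Side.exists_mem_Z_ne (T := A.side₂) hq
  obtain ⟨hV, h0, h1⟩ := A.fst_ne_zero e hz hz1
  have hkz : k * z * k⁻¹ = z := by
    rw [(A.side₂.mem_Z.1 hz).2 k (A.H₂_le hk), mul_inv_cancel_right]
  have h2 : (h⁻¹ * k) * z * (h⁻¹ * k)⁻¹ = h⁻¹ * z * h⁻¹⁻¹ := by
    calc (h⁻¹ * k) * z * (h⁻¹ * k)⁻¹ = h⁻¹ * (k * z * k⁻¹) * h⁻¹⁻¹ := by group
      _ = _ := by rw [hkz]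
  have hX' : h⁻¹ ∈ A.X₁ := A.X₁.inv_mem (A.H₁_le hh)
  have hV' : h⁻¹ * z * h⁻¹⁻¹ ∈ A.V₁ := A.side₁.conj_mem hX' hV
  have h3 := hμ z hV
  simp only [h2] at h3
  have h4 := e.conj (T := A.side₁) hX' hV hV'
  have h5 : A.side₁.φ ⟨h⁻¹, hX'⟩ = d l⁻¹ := by
    rw [d_inv, ← hhl]
    exact A.φ_inv (A.H₁_le hh)
  rw [h5] at h4
  rw [h4, d_mulVec] at h3
  have h6 := congrFun h3 0
  simp only [Matrix.cons_val_zero, Pi.smul_apply, smul_eq_mul] at h6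
  have h7 : ((l⁻¹ : Fˣ) : F) = μ := mul_right_cancel₀ h0 h6
  rw [h7]
  exact hμ

/-- `l = 1` implies `m = 1` -/
theorem one_of_one [Finite F] [CharP F 2] [Finite G] (hq : 4 ≤ Nat.card F) {h k : G}
    (hh : h ∈ A.H₁) (hhl : A.φ₁ ⟨h, A.H₁_le hh⟩ = d 1) (hk : k ∈ A.H₂) (hc : A.C1 (h⁻¹ * k)) : k = 1 := by
  obtain ⟨e⟩ := A.side₁.nonempty_crd hq
  have h1 : h = 1 := by
    apply A.H₁_inj hh A.H₁.one_mem
    rw [hhl, d_one]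
    exact (map_one A.φ₁).symm
  subst h1
  have h2 := A.scalar_eq hq e hh hhl hk hc
  simp only [inv_one, one_mul, Units.val_one, one_smul] at h2
  -- `k` centralises `V₁/Z₁`
  obtain ⟨m, hm⟩ := A.tor₂ k hk
  obtain ⟨v, hv, hvt⟩ := A.side₂.usurj 1
  have hv : v ∈ A.V₁ := hv
  have hkv := A.K_V₁ (A.H₂_le_K hk) hv
  have h3 := (e.eq_iff ⟨v, hv⟩ ⟨k * v * k⁻¹, hkv⟩).1 (h2 v hv).symm
  have h4 : v⁻¹ * (k * v * k⁻¹) ∈ A.V₂ := A.side₁.Z_le' h3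
  have hvX : v ∈ A.X₂ := A.V₁_le_X₂ hv
  have hkX : k ∈ A.X₂ := A.H₂_le hk
  have hkvX : k * v * k⁻¹ ∈ A.X₂ := A.V₁_le_X₂ hkv
  have h5 : A.φ₂ ⟨v, hvX⟩ = A.φ₂ ⟨k * v * k⁻¹, hkvX⟩ := (A.side₂.φ_eq_iff hvX hkvX).2 h4
  have h6 := (swap A).φ_conj hkX hvX hkvX
  have h6' : A.φ₂ ⟨k * v * k⁻¹, hkvX⟩ = A.φ₂ ⟨k, hkX⟩ * A.φ₂ ⟨v, hvX⟩ * (A.φ₂ ⟨k, hkX⟩)⁻¹ := h6
  have hvt' : A.φ₂ ⟨v, hvX⟩ = u 1 := hvt
  rw [← h5, hm, hvt', d_conj_u, mul_one] at h6'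
  have h7 := Side.u_inj h6'
  have h8 := sq_eq_one_iff h7.symm
  apply (swap A).H₁_inj hk A.H₂.one_mem
  change A.φ₂ ⟨k, hkX⟩ = A.φ₂ 1
  rw [hm, h8, d_one, map_one]

theorem C1_mul {c c' : G} (hc : A.C1 c) (hc' : A.C1 c') : A.C1 (c * c') := by
  refine ⟨A.K.mul_mem hc.1 hc'.1, fun x hx => ?_⟩
  have h1 := hc'.2 x hx
  have h2 := hc.2 (c' * x * c'⁻¹) (A.K_X₁ hc'.1 hx)
  have h3 := A.V₁.mul_mem h1 h2
  have h4 : x⁻¹ * (c' * x * c'⁻¹) * ((c' * x * c'⁻¹)⁻¹ * (c * (c' * x * c'⁻¹) * c⁻¹))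
      = x⁻¹ * (c * c' * x * (c * c')⁻¹) := by group
  rwa [h4] at h3

theorem C1_inv {c : G} (hc : A.C1 c) : A.C1 c⁻¹ := by
  refine ⟨A.K.inv_mem hc.1, fun x hx => ?_⟩
  have h1 := hc.2 (c⁻¹ * x * c⁻¹⁻¹) (A.K_X₁ (A.K.inv_mem hc.1) hx)
  have h2 := A.V₁.inv_mem h1
  have h3 : ((c⁻¹ * x * c⁻¹⁻¹)⁻¹ * (c * (c⁻¹ * x * c⁻¹⁻¹) * c⁻¹))⁻¹ = x⁻¹ * (c⁻¹ * x * c⁻¹⁻¹) := by group
  rwa [h3] at h2

/-- `H₁ ∩ C₁ = 1` -/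
theorem H₁_C1 [Finite F] [CharP F 2] {h : G} (hh : h ∈ A.H₁) (hc : A.C1 h) : h = 1 := by
  obtain ⟨l, hl⟩ := A.tor₁ h hh
  obtain ⟨y, hy, hyt⟩ := A.side₁.usurj 1
  have hyX : y ∈ A.X₁ := A.V₂_le_X₁ hy
  have hyt' : A.φ₁ ⟨y, hyX⟩ = u 1 := hyt
  have h1 := (A.C1_iff hc.1).1 hc y hyX
  rw [A.φ_conj (A.H₁_le hh) hyX, hl, hyt', d_conj_u, mul_one] at h1
  have h2 := sq_eq_one_iff (Side.u_inj h1)
  apply A.H₁_inj hh A.H₁.one_mem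
  rw [hl, h2, d_one]
  exact (map_one A.φ₁).symm

/-- nontrivial elements of `C₁` act fixed-point-freely on `V₁` -/
theorem fpf [Finite F] [CharP F 2] [Finite G] (hq : 4 ≤ Nat.card F) {c : G} (hc : A.C1 c) (hc1 : c ≠ 1)
    {v : G} (hv : v ∈ A.V₁) (hcv : c * v * c⁻¹ = v) : v = 1 := by
  obtain ⟨h₁, hh₁, k, hk, rfl⟩ := hc.1
  obtain ⟨l, h, hh, hhl, hck⟩ := A.dec hq (A.H₂_le_K hk)
  -- `c = h⁻¹ k`
  have h1 : h₁ * h = 1 := by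
    apply A.H₁_C1 (A.H₁.mul_mem hh₁ hh)
    have h2 := A.C1_mul hc (A.C1_inv hck)
    have h3 : h₁ * k * (h⁻¹ * k)⁻¹ = h₁ * h := by group
    rwa [h3] at h2
  have h2 : h₁ = h⁻¹ := eq_inv_of_mul_eq_one_left h1
  subst h2
  have hm1 : l ≠ 1 := by
    rintro rfl
    have hk1 := A.one_of_one hq hh hhl hk hc
    subst hk1
    have h3 : h⁻¹ = 1 := A.H₁_C1 (A.H₁.inv_mem hh) (by simpa using hc)
    exact hc1 (by rw [h3, mul_one])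
  obtain ⟨e⟩ := A.side₁.nonempty_crd hq
  have h3 := A.scalar_eq hq e hh hhl hk hc v hv
  simp only [hcv] at h3
  have h4 : e.e ⟨v, hv⟩ = 0 := by
    have h5 : (1 - ((l⁻¹ : Fˣ) : F)) • e.e ⟨v, hv⟩ = 0 := by
      rw [sub_smul, one_smul, ← h3, sub_self]
    rcases smul_eq_zero.1 h5 with h6 | h6
    · exfalso
      apply hm1
      rw [sub_eq_zero] at h6
      have h7 : l⁻¹ = 1 := Units.ext (by rw [← h6, Units.val_one])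
      exact inv_eq_one.1 h7
    · exact h6
  have hvZ : v ∈ A.side₁.Z := (e.eq_zero _).1 h4
  -- now look at `V₂/Z₂`
  by_contra hv1
  obtain ⟨e2⟩ := A.side₂.nonempty_crd hq
  obtain ⟨hV2, h0, h00⟩ := A.fst_ne_zero' e2 hvZ hv1
  have hkv : k * v * k⁻¹ = v := by
    have h5 : k * v * k⁻¹ = h * (h⁻¹ * k * v * (h⁻¹ * k)⁻¹) * h⁻¹ := by group
    rw [h5, hcv, (A.side₁.mem_Z.1 hvZ).2 h (A.H₁_le hh), mul_inv_cancel_right]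
  obtain ⟨m, hm⟩ := A.tor₂ k hk
  have h5 := e2.conj (T := A.side₂) (A.H₂_le hk) hV2 (by rw [hkv]; exact hV2)
  simp only [hkv] at h5
  have hm' : A.side₂.φ ⟨k, A.H₂_le hk⟩ = d m := hm
  rw [hm', d_mulVec] at h5
  have h6 := congrFun h5 0
  simp only [Matrix.cons_val_zero] at h6
  have h7 : (m : F) = 1 := by
    have : (m : F) * e2.e ⟨v, hV2⟩ 0 = 1 * e2.e ⟨v, hV2⟩ 0 := by rw [one_mul]; exact h6.symm
    exact mul_right_cancel₀ h0 this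
  have h8 : m = 1 := Units.ext (by rw [h7, Units.val_one])
  have hk1 : k = 1 := by
    apply (swap A).H₁_inj hk A.H₂.one_mem
    change A.φ₂ ⟨k, A.H₂_le hk⟩ = A.φ₂ 1
    rw [hm, h8, d_one, map_one]
  subst hk1
  have h9 : h⁻¹ = 1 := A.H₁_C1 (A.H₁.inv_mem hh) (by simpa using hc)
  exact hc1 (by rw [h9, mul_one])

theorem exists_unit_ne_one [Finite F] (hq : 4 ≤ Nat.card F) : ∃ m : Fˣ, m ≠ 1 := by
  by_contra h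
  push Not at h
  have h1 : Nat.card Fˣ = 1 := by
    rw [Nat.card_eq_one_iff_unique]
    exact ⟨⟨fun a b => by rw [h a, h b]⟩, ⟨1⟩⟩
  have := Fintype.ofFinite F
  rw [Nat.card_units] at h1
  omega

/-- `C₁ ≠ 1` -/
theorem exists_C1 [Finite F] [CharP F 2] [Finite G] (hq : 4 ≤ Nat.card F) : ∃ c, A.C1 c ∧ c ≠ 1 := by
  obtain ⟨m, hm⟩ := exists_unit_ne_one hq
  obtain ⟨k, hk, hkm⟩ := A.tor₂' m
  obtain ⟨l, h, hh, hhl, hck⟩ := A.dec hq (A.H₂_le_K hk)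
  refine ⟨_, hck, fun h1 => ?_⟩
  obtain ⟨e⟩ := A.side₁.nonempty_crd hq
  have h2 := A.scalar_eq hq e hh hhl hk hck
  have hl : l = 1 := by
    obtain ⟨z, hz, hz1⟩ := Side.exists_mem_Z_ne (T := A.side₂) hq
    obtain ⟨hV, h0, _⟩ := A.fst_ne_zero e hz hz1
    have h3 := h2 z hV
    have h4 : (h⁻¹ * k) * z * (h⁻¹ * k)⁻¹ = z := by rw [h1]; group
    simp only [h4] at h3
    have h5 := congrFun h3 0
    rw [Pi.smul_apply, smul_eq_mul] at h5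
    have h6 : ((l⁻¹ : Fˣ) : F) = 1 := by
      have : ((l⁻¹ : Fˣ) : F) * e.e ⟨z, hV⟩ 0 = 1 * e.e ⟨z, hV⟩ 0 := by rw [one_mul]; exact h5.symm
      exact mul_right_cancel₀ h0 this
    have h7 : l⁻¹ = 1 := Units.ext (by rw [h6, Units.val_one])
    exact inv_eq_one.1 h7
  subst hl
  have hk1 := A.one_of_one hq hh hhl hk hck
  subst hk1
  apply hm
  apply d_inj
  rw [← hkm, d_one]
  exact map_one A.φ₂

/-- fixed points in cosets -/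
theorem exists_fix {W : Subgroup G} [Finite G] {c : G} (hW : ∀ x ∈ W, x * x = 1) (hcW : ∀ x ∈ W, c * x * c⁻¹ ∈ W)
    (hfix : ∀ x ∈ W, c * x * c⁻¹ = x → x = 1) {y : G} (hy : y⁻¹ * (c * y * c⁻¹) ∈ W) :
    ∃ v ∈ W, c * (y * v) = (y * v) * c := by
  let β : ↥W → ↥W := fun v => v * ⟨c * v * c⁻¹, hcW v v.2⟩
  have hβ : Function.Injective β := by
    intro a b hab
    have h1 : (a : G) * (c * a * c⁻¹) = b * (c * b * c⁻¹) := congrArg Subtype.val hab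
    have hb2 : (b : G)⁻¹ = b := inv_eq_of_mul_eq_one_left (hW b b.2)
    have ha2 : (a : G)⁻¹ = a := inv_eq_of_mul_eq_one_left (hW a a.2)
    have h2 : (a : G) * b = 1 := by
      apply hfix _ (W.mul_mem a.2 b.2)
      have h3 : (b : G) * a = a * b := Side.mul_comm_of_sq hW b.2 a.2
      have h4 : (b : G)⁻¹ * (a * (c * a * c⁻¹)) = c * b * c⁻¹ := by rw [h1]; group
      rw [hb2] at h4
      have h5 : (c * a * c⁻¹) = a * b * (c * b * c⁻¹) := by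
        rw [← h4]
        have h6 : (a : G) * b * (b * (a * (c * a * c⁻¹))) = a * (b * b) * a * (c * a * c⁻¹) := by group
        rw [h6, hW b b.2, mul_one, hW a a.2, one_mul]
      calc c * (a * b) * c⁻¹ = (c * a * c⁻¹) * (c * b * c⁻¹) := by group
        _ = a * b * ((c * b * c⁻¹) * (c * b * c⁻¹)) := by rw [h5]; group
        _ = a * b * (c * (b * b) * c⁻¹) := by group
        _ = a * b := by rw [hW b b.2]; group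
    apply Subtype.ext
    rw [mul_eq_one_iff_eq_inv, hb2] at h2
    exact h2
  have hβs : Function.Surjective β := Finite.surjective_of_injective hβ
  obtain ⟨v, hv⟩ := hβs ⟨_, hy⟩
  have h1 : (v : G) * (c * v * c⁻¹) = y⁻¹ * (c * y * c⁻¹) := congrArg Subtype.val hv
  refine ⟨v, v.2, ?_⟩
  have hcv2 : (c * (v : G) * c⁻¹) * (c * v * c⁻¹) = 1 := by
    calc (c * (v : G) * c⁻¹) * (c * v * c⁻¹) = c * (v * v) * c⁻¹ := by group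
      _ = 1 := by rw [hW v v.2]; group
  have h2 : c * (y * v) * c⁻¹ = y * v := by
    calc c * (y * v) * c⁻¹ = y * (y⁻¹ * (c * y * c⁻¹)) * (c * v * c⁻¹) := by group
      _ = y * (v * (c * v * c⁻¹)) * (c * v * c⁻¹) := by rw [h1]
      _ = y * v * ((c * v * c⁻¹) * (c * v * c⁻¹)) := by group
      _ = y * v := by rw [hcv2, mul_one]
  rw [mul_inv_eq_iff_eq_mul] at h2
  exact h2

/-- the Levi complement -/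
def L₁ : Subgroup G where
  carrier := {x | x ∈ A.X₁ ∧ ∀ c, A.C1 c → c * x = x * c}
  mul_mem' := by
    rintro a b ⟨ha, ha'⟩ ⟨hb, hb'⟩
    refine ⟨A.X₁.mul_mem ha hb, fun c hc => ?_⟩
    rw [← mul_assoc, ha' c hc, mul_assoc, hb' c hc, mul_assoc]
  one_mem' := ⟨A.X₁.one_mem, fun c _ => by simp⟩
  inv_mem' := by
    rintro a ⟨ha, ha'⟩
    exact ⟨A.X₁.inv_mem ha, fun c hc => (show Commute c a from ha' c hc).inv_right.eq⟩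

theorem mem_L₁ {x : G} : x ∈ A.L₁ ↔ x ∈ A.X₁ ∧ ∀ c, A.C1 c → c * x = x * c := Iff.rfl

theorem L₁_le {x : G} (hx : x ∈ A.L₁) : x ∈ A.X₁ := hx.1

theorem mem_L₁_of_comm [Finite F] [CharP F 2] [Finite G] (hq : 4 ≤ Nat.card F) {c x : G} (hc : A.C1 c)
    (hc1 : c ≠ 1) (hx : x ∈ A.X₁) (hcx : c * x = x * c) : x ∈ A.L₁ := by
  refine ⟨hx, fun c' hc' => ?_⟩
  have h1 := hc'.2 x hx
  have h2 : x⁻¹ * (c' * x * c'⁻¹) = 1 := by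
    apply A.fpf hq hc hc1 h1
    have h3 : c * c' = c' * c := A.K_comm hc.1 hc'.1
    have h4 : c * (x⁻¹ * (c' * x * c'⁻¹)) = (x⁻¹ * (c' * x * c'⁻¹)) * c := by
      have hcx' : c * x⁻¹ = x⁻¹ * c := by
        rw [eq_inv_mul_iff_mul_eq, ← mul_assoc, ← hcx, mul_assoc, mul_inv_cancel, mul_one]
      have h5 : c * c'⁻¹ = c'⁻¹ * c := by
        rw [eq_inv_mul_iff_mul_eq, ← mul_assoc, ← h3, mul_assoc, mul_inv_cancel, mul_one]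
      calc c * (x⁻¹ * (c' * x * c'⁻¹)) = (c * x⁻¹) * (c' * x * c'⁻¹) := by group
        _ = x⁻¹ * (c * c') * x * c'⁻¹ := by rw [hcx']; group
        _ = x⁻¹ * c' * (c * x) * c'⁻¹ := by rw [h3]; group
        _ = x⁻¹ * c' * x * (c * c'⁻¹) := by rw [hcx]; group
        _ = (x⁻¹ * (c' * x * c'⁻¹)) * c := by rw [h5]; group
    rw [h4, mul_inv_cancel_right]
  rw [inv_mul_eq_one] at h2
  rw [← mul_inv_eq_iff_eq_mul]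
  exact h2.symm

theorem L₁_inj [Finite F] [CharP F 2] [Finite G] (hq : 4 ≤ Nat.card F) {x y : G} (hx : x ∈ A.L₁) (hy : y ∈ A.L₁)
    (h : A.φ₁ ⟨x, hx.1⟩ = A.φ₁ ⟨y, hy.1⟩) : x = y := by
  obtain ⟨c, hc, hc1⟩ := A.exists_C1 hq
  have h1 : x⁻¹ * y ∈ A.V₁ := (A.side₁.φ_eq_iff hx.1 hy.1).1 h
  have h2 := (A.L₁.mul_mem (A.L₁.inv_mem hx) hy).2 c hc
  have h3 := A.fpf hq hc hc1 h1 (by rw [h2, mul_inv_cancel_right])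
  rw [inv_mul_eq_one] at h3
  exact h3

theorem L₁_surj [Finite F] [CharP F 2] [Finite G] (hq : 4 ≤ Nat.card F) (g : SpecialLinearGroup (Fin 2) F) :
    ∃ x, ∃ hx : x ∈ A.L₁, A.φ₁ ⟨x, hx.1⟩ = g := by
  obtain ⟨c, hc, hc1⟩ := A.exists_C1 hq
  obtain ⟨⟨y, hy⟩, rfl⟩ := A.surj₁ g
  obtain ⟨v, hv, hcv⟩ := exists_fix (c := c) (W := A.V₁) A.sq₁ (fun x hx => A.K_V₁ hc.1 hx)
    (fun x hx h => A.fpf hq hc hc1 hx h) (hc.2 y hy)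
  have hyv : y * v ∈ A.X₁ := A.X₁.mul_mem hy (A.V₁_le_X₁ hv)
  refine ⟨y * v, A.mem_L₁_of_comm hq hc hc1 hyv hcv, (A.side₁.φ_eq_iff hyv hy).2 ?_⟩
  have : (y * v)⁻¹ * y = v⁻¹ := by group
  change (y * v)⁻¹ * y ∈ A.V₁
  rw [this]
  exact A.V₁.inv_mem hv

/-- the restriction of `φ₁` to `L₁` -/
def f₁ : ↥A.L₁ →* SpecialLinearGroup (Fin 2) F :=
  A.φ₁.comp (Subgroup.inclusion (fun _ hx => hx.1))

theorem f₁_bij [Finite F] [CharP F 2] [Finite G] (hq : 4 ≤ Nat.card F) : Function.Bijective A.f₁ := by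
  constructor
  · intro a b hab
    exact Subtype.ext (A.L₁_inj hq a.2 b.2 hab)
  · intro g
    obtain ⟨x, hx, hxg⟩ := A.L₁_surj hq g
    exact ⟨⟨x, hx⟩, hxg⟩

/-- `ψ₁ : SL(2,F) → G` -/
noncomputable def ψ₁ [Finite F] [CharP F 2] [Finite G] (hq : 4 ≤ Nat.card F) : SpecialLinearGroup (Fin 2) F →* G :=
  A.L₁.subtype.comp (MulEquiv.ofBijective A.f₁ (A.f₁_bij hq)).symm.toMonoidHom

theorem ψ₁_mem [Finite F] [CharP F 2] [Finite G] (hq : 4 ≤ Nat.card F) (g : SpecialLinearGroup (Fin 2) F) :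
    A.ψ₁ hq g ∈ A.L₁ := ((MulEquiv.ofBijective A.f₁ (A.f₁_bij hq)).symm g).2

theorem φ₁_ψ₁ [Finite F] [CharP F 2] [Finite G] (hq : 4 ≤ Nat.card F) (g : SpecialLinearGroup (Fin 2) F) :
    A.φ₁ ⟨A.ψ₁ hq g, (A.ψ₁_mem hq g).1⟩ = g := by
  have := (MulEquiv.ofBijective A.f₁ (A.f₁_bij hq)).apply_symm_apply g
  exact this

theorem ψ₁_eq [Finite F] [CharP F 2] [Finite G] (hq : 4 ≤ Nat.card F) {x : G} (hx : x ∈ A.L₁)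
    {g : SpecialLinearGroup (Fin 2) F} (h : A.φ₁ ⟨x, hx.1⟩ = g) : A.ψ₁ hq g = x :=
  A.L₁_inj hq (A.ψ₁_mem hq g) hx (by rw [φ₁_ψ₁, h])

theorem ψ₁_injective [Finite F] [CharP F 2] [Finite G] (hq : 4 ≤ Nat.card F) : Function.Injective (A.ψ₁ hq) := by
  intro a b hab
  have h1 := A.φ₁_ψ₁ hq a
  have h2 := A.φ₁_ψ₁ hq b
  simp only [hab] at h1
  exact h1.symm.trans h2

theorem H₁_le_L₁ {h : G} (hh : h ∈ A.H₁) : h ∈ A.L₁ :=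
  ⟨A.H₁_le hh, fun c hc => A.K_comm hc.1 (A.H₁_le_K hh)⟩

theorem ψ₁_d [Finite F] [CharP F 2] [Finite G] (hq : 4 ≤ Nat.card F) (l : Fˣ) : A.ψ₁ hq (d l) ∈ A.H₁ := by
  obtain ⟨h, hh, hhl⟩ := A.tor₁' l
  rw [A.ψ₁_eq hq (A.H₁_le_L₁ hh) hhl]
  exact hh

theorem K_L₁ {k x : G} (hk : k ∈ A.K) (hx : x ∈ A.L₁) : k * x * k⁻¹ ∈ A.L₁ := by
  refine ⟨A.K_X₁ hk hx.1, fun c hc => ?_⟩
  have h1 : c * k = k * c := A.K_comm hc.1 hk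
  have h2 : c * k⁻¹ = k⁻¹ * c := A.K_comm hc.1 (A.K.inv_mem hk)
  calc c * (k * x * k⁻¹) = (c * k) * x * k⁻¹ := by group
    _ = k * (c * x) * k⁻¹ := by rw [h1]; group
    _ = k * x * (c * k⁻¹) := by rw [hx.2 c hc]; group
    _ = k * x * k⁻¹ * c := by rw [h2]; group

theorem ψ₁_u [Finite F] [CharP F 2] [Finite G] (hq : 4 ≤ Nat.card F) (t : F) : A.ψ₁ hq (u t) ∈ A.V₂ := by
  obtain ⟨c, hc, hc1⟩ := A.exists_C1 hq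
  obtain ⟨y, hy, hyt⟩ := A.side₁.usurj t
  have hy : y ∈ A.V₂ := hy
  have hyX : y ∈ A.X₁ := A.V₂_le_X₁ hy
  obtain ⟨v, hv, hcv⟩ := exists_fix (c := c) (W := A.V₁ ⊓ A.V₂) (fun x hx => A.sq₁ x hx.1)
    (fun x hx => ⟨A.K_V₁ hc.1 hx.1, A.K_V₂ hc.1 hx.2⟩)
    (fun x hx h => A.fpf hq hc hc1 hx.1 h) (y := y)
    ⟨hc.2 y hyX, A.V₂.mul_mem (A.V₂.inv_mem hy) (A.K_V₂ hc.1 hy)⟩
  have hyv : y * v ∈ A.V₂ := A.V₂.mul_mem hy hv.2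
  have hyvX : y * v ∈ A.X₁ := A.V₂_le_X₁ hyv
  have h1 : A.ψ₁ hq (u t) = y * v := by
    apply A.ψ₁_eq hq (A.mem_L₁_of_comm hq hc hc1 hyvX hcv)
    have hyt' : A.φ₁ ⟨y, hyX⟩ = u t := hyt
    refine Eq.trans ((A.side₁.φ_eq_iff hyvX hyX).2 ?_) hyt'
    have : (y * v)⁻¹ * y = v⁻¹ := by group
    change (y * v)⁻¹ * y ∈ A.V₁
    rw [this]
    exact A.V₁.inv_mem hv.1
  rw [h1]
  exact hyv

section final

variable [Finite F] [CharP F 2] [Finite G] (hq : 4 ≤ Nat.card F)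

include hq

/-- `ψ₂ : SL(2,F) → G` -/
noncomputable def ψ₂ : SpecialLinearGroup (Fin 2) F →* G := (swap A).ψ₁ hq

theorem n_sq : A.ψ₁ hq (w F) * A.ψ₁ hq (w F) = 1 := by
  rw [← map_mul, w_mul_w, map_one]

theorem n_conj {h k : G} {l : Fˣ} (hh : h ∈ A.H₁) (hhl : A.φ₁ ⟨h, A.H₁_le hh⟩ = d l)
    (hc : A.C1 (h⁻¹ * k)) : A.ψ₁ hq (w F) * k * (A.ψ₁ hq (w F))⁻¹ = h⁻¹ * (h⁻¹ * k) := by
  set n := A.ψ₁ hq (w F) with hn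
  have hnL : n ∈ A.L₁ := A.ψ₁_mem hq _
  have h1 : A.ψ₁ hq (d l) = h := A.ψ₁_eq hq (A.H₁_le_L₁ hh) hhl
  have h2 : n * h * n⁻¹ = h⁻¹ := by
    rw [hn, ← h1, ← map_inv, ← map_mul, ← map_mul, w_conj_d, map_inv]
  have h3 : n * (h⁻¹ * k) * n⁻¹ = h⁻¹ * k := by
    rw [← hnL.2 _ hc, mul_inv_cancel_right]
  calc n * k * n⁻¹ = (n * h * n⁻¹) * (n * (h⁻¹ * k) * n⁻¹) := by group
    _ = _ := by rw [h2, h3]

theorem c2_C2 {h k : G} {l : Fˣ} (hh : h ∈ A.H₁) (hhl : A.φ₁ ⟨h, A.H₁_le hh⟩ = d l) (hk : k ∈ A.H₂)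
    (hc : A.C1 (h⁻¹ * k)) : (swap A).C1 (h⁻¹ * (h⁻¹ * k)) := by
  obtain ⟨e⟩ := A.side₁.nonempty_crd hq
  have hcK : h⁻¹ * (h⁻¹ * k) ∈ A.K := A.K.mul_mem (A.K.inv_mem (A.H₁_le_K hh)) hc.1
  have hcK' : h⁻¹ * (h⁻¹ * k) ∈ (swap A).K := by rw [swap_K]; exact hcK
  obtain ⟨l', hl'⟩ := (swap A).exists_aut hq hcK'
  obtain ⟨v, hv, hvt⟩ := A.side₂.usurj 1
  have hv : v ∈ A.V₁ := hv
  have hvX : v ∈ A.X₂ := A.V₁_le_X₂ hv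
  have hvt' : A.φ₂ ⟨v, hvX⟩ = u 1 := hvt
  have hcv := A.K_V₁ hc.1 hv
  have hX' : h⁻¹ ∈ A.X₁ := A.X₁.inv_mem (A.H₁_le hh)
  have hV' : h⁻¹ * (h⁻¹ * k * v * (h⁻¹ * k)⁻¹) * h⁻¹⁻¹ ∈ A.V₁ := A.side₁.conj_mem hX' hcv
  have h4 := e.conj (T := A.side₁) hX' hcv hV'
  have h5 : A.side₁.φ ⟨h⁻¹, hX'⟩ = d l⁻¹ := by
    rw [d_inv, ← hhl]
    exact A.φ_inv (A.H₁_le hh)
  have h6 := A.scalar_eq hq e hh hhl hk hc v hv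
  have h6' : e.e ⟨h⁻¹ * k * v * (h⁻¹ * k)⁻¹, hcv⟩ = ((l⁻¹ : Fˣ) : F) • e.e ⟨v, hv⟩ := h6
  rw [h5, h6', d_mulVec] at h4
  have h7 := congrFun h4 1
  have h7' : e.e ⟨h⁻¹ * (h⁻¹ * k * v * (h⁻¹ * k)⁻¹) * h⁻¹⁻¹, hV'⟩ 1 = e.e ⟨v, hv⟩ 1 := by
    refine h7.trans ?_
    change ((l⁻¹⁻¹ : Fˣ) : F) * (((l⁻¹ : Fˣ) : F) * e.e ⟨v, hv⟩ 1) = _
    rw [← mul_assoc, ← Units.val_mul, inv_mul_cancel, Units.val_one, one_mul]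
  have hcc : h⁻¹ * (h⁻¹ * k * v * (h⁻¹ * k)⁻¹) * h⁻¹⁻¹
      = h⁻¹ * (h⁻¹ * k) * v * (h⁻¹ * (h⁻¹ * k))⁻¹ := by
    simp only [mul_inv_rev, inv_inv, mul_assoc]
  have hV'' : h⁻¹ * (h⁻¹ * k) * v * (h⁻¹ * (h⁻¹ * k))⁻¹ ∈ A.V₁ := by rw [← hcc]; exact hV'
  simp only [hcc] at h7'
  have hdiff : v⁻¹ * (h⁻¹ * (h⁻¹ * k) * v * (h⁻¹ * (h⁻¹ * k))⁻¹) ∈ A.V₂ := by
    have hm : v⁻¹ * (h⁻¹ * (h⁻¹ * k) * v * (h⁻¹ * (h⁻¹ * k))⁻¹) ∈ A.V₁ :=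
      A.V₁.mul_mem (A.V₁.inv_mem hv) hV''
    apply e.mem_V' hm
    have h8 : (⟨v⁻¹ * (h⁻¹ * (h⁻¹ * k) * v * (h⁻¹ * (h⁻¹ * k))⁻¹), hm⟩ : ↥A.V₁)
        = (⟨v, hv⟩ : ↥A.V₁)⁻¹ * ⟨_, hV''⟩ := rfl
    have h9 := e.mul (⟨v, hv⟩ : ↥A.V₁)⁻¹ ⟨_, hV''⟩
    have h10 := e.inv (⟨v, hv⟩ : ↥A.V₁)
    rw [h10] at h9
    have h11 := congrFun h9 1
    rw [Pi.add_apply, Pi.neg_apply, h7'] at h11
    exact h11.trans (neg_add_cancel _)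
  have hvX' : h⁻¹ * (h⁻¹ * k) * v * (h⁻¹ * (h⁻¹ * k))⁻¹ ∈ A.X₂ := A.V₁_le_X₂ hV''
  have h12 : A.φ₂ ⟨v, hvX⟩ = A.φ₂ ⟨_, hvX'⟩ := (A.side₂.φ_eq_iff hvX hvX').2 hdiff
  have h13 : A.φ₂ ⟨_, hvX'⟩ = d l' * A.φ₂ ⟨v, hvX⟩ * (d l')⁻¹ := hl' v hvX
  rw [← h12, hvt', d_conj_u, mul_one] at h13
  have h14 := sq_eq_one_iff (Side.u_inj h13).symm
  rw [C1_iff _ hcK']
  intro x hx
  rw [hl' x hx, h14, d_one, one_mul, inv_one, mul_one]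

/-- `Z₂` is mapped by `n_a` into `X_b` -/
theorem exists_t {z : G} (hz : z ∈ A.side₂.Z) :
    ∃ t : F, A.ψ₁ hq (w F) * z * (A.ψ₁ hq (w F))⁻¹ = A.ψ₂ hq (u t) := by
  obtain ⟨m, hm⟩ := exists_unit_ne_one hq
  obtain ⟨k, hk, hkm⟩ := A.tor₂' m
  have hk1 : k ≠ 1 := by
    rintro rfl
    apply hm
    apply d_inj
    rw [← hkm, d_one]
    exact map_one A.φ₂
  obtain ⟨l, h, hh, hhl, hck⟩ := A.dec hq (A.H₂_le_K hk)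
  have h1 := A.n_conj hq hh hhl hck
  have h2 := A.c2_C2 hq hh hhl hk hck
  set n := A.ψ₁ hq (w F) with hn
  have hnX : n ∈ A.X₁ := (A.ψ₁_mem hq _).1
  have hzV : z ∈ A.V₁ := A.side₂.Z_le' hz
  have hy : n * z * n⁻¹ ∈ A.V₁ := A.side₁.conj_mem hnX hzV
  have hyX : n * z * n⁻¹ ∈ A.X₂ := A.V₁_le_X₂ hy
  have hkz : k * z = z * k := (A.side₂.mem_Z.1 hz).2 k (A.H₂_le hk)
  have hyL : n * z * n⁻¹ ∈ (swap A).L₁ := by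
    apply (swap A).mem_L₁_of_comm hq h2 _ hyX
    · rw [← h1]
      calc n * k * n⁻¹ * (n * z * n⁻¹) = n * (k * z) * n⁻¹ := by group
        _ = n * (z * k) * n⁻¹ := by rw [hkz]
        _ = n * z * n⁻¹ * (n * k * n⁻¹) := by group
    · rw [← h1]
      intro h3
      apply hk1
      rw [mul_inv_eq_one] at h3
      exact mul_eq_left.1 h3
  obtain ⟨t, ht⟩ := A.hU₂ _ hy
  exact ⟨t, ((swap A).ψ₁_eq hq hyL ht).symm⟩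

theorem exists_z (t : F) : ∃ z ∈ A.side₂.Z, A.ψ₁ hq (w F) * z * (A.ψ₁ hq (w F))⁻¹ = A.ψ₂ hq (u t) := by
  choose f hf using fun z : ↥A.side₂.Z => A.exists_t hq z.2
  have hinj : Function.Injective f := by
    intro a b hab
    have h1 := hf a
    rw [hab, ← hf b] at h1
    exact Subtype.ext (mul_left_cancel (mul_right_cancel h1))
  have hbij := hinj.bijective_of_nat_card_le (by rw [A.side₂.card_Z])
  obtain ⟨z, hz⟩ := hbij.2 t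
  exact ⟨z, z.2, by rw [← hz]; exact hf z⟩

theorem mem_Z₂_iff (z : G) : z ∈ A.side₂.Z ↔
    ∃ t : F, z = A.ψ₁ hq (w F) * A.ψ₂ hq (u t) * A.ψ₁ hq (w F) := by
  have hn := A.n_sq hq
  have hn' : (A.ψ₁ hq (w F))⁻¹ = A.ψ₁ hq (w F) := inv_eq_of_mul_eq_one_left hn
  constructor
  · intro hz
    obtain ⟨t, ht⟩ := A.exists_t hq hz
    refine ⟨t, ?_⟩
    rw [← ht, hn']
    calc z = (A.ψ₁ hq (w F) * A.ψ₁ hq (w F)) * z * (A.ψ₁ hq (w F) * A.ψ₁ hq (w F)) := by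
          rw [hn, one_mul, mul_one]
      _ = _ := by group
  · rintro ⟨t, rfl⟩
    obtain ⟨z, hz, hzt⟩ := A.exists_z hq t
    have : A.ψ₁ hq (w F) * A.ψ₂ hq (u t) * A.ψ₁ hq (w F) = z := by
      rw [← hzt, hn']
      calc A.ψ₁ hq (w F) * (A.ψ₁ hq (w F) * z * A.ψ₁ hq (w F)) * A.ψ₁ hq (w F)
          = (A.ψ₁ hq (w F) * A.ψ₁ hq (w F)) * z * (A.ψ₁ hq (w F) * A.ψ₁ hq (w F)) := by group
        _ = z := by rw [hn, one_mul, mul_one]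
    rw [this]
    exact hz

theorem D_le {v : G} (hv : v ∈ A.V₁ ⊓ A.V₂) : v ∈ A.side₁.Z ⊔ A.side₂.Z := by
  obtain ⟨e⟩ := A.side₁.nonempty_crd hq
  let f : ↥A.side₂.Z → F := fun z => e.e ⟨z, A.side₂.Z_le' z.2⟩ 0
  have hinj : Function.Injective f := by
    intro a b hab
    have h1 : e.e ⟨a, A.side₂.Z_le' a.2⟩ = e.e ⟨b, A.side₂.Z_le' b.2⟩ := by
      ext i
      fin_cases i
      · exact hab
      · change e.e ⟨a, A.side₂.Z_le' a.2⟩ 1 = e.e ⟨b, A.side₂.Z_le' b.2⟩ 1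
        rw [e.snd_eq_zero (A.side₂.Z_le' a.2) (A.side₂.Z_le a.2),
          e.snd_eq_zero (A.side₂.Z_le' b.2) (A.side₂.Z_le b.2)]
    have h2 := (e.eq_iff _ _).1 h1
    have h3 : (a : G)⁻¹ * b ∈ A.side₁.Z ⊓ A.side₂.Z :=
      ⟨h2, A.side₂.Z.mul_mem (A.side₂.Z.inv_mem a.2) b.2⟩
    rw [Z_inf] at h3
    exact Subtype.ext (inv_mul_eq_one.1 (Subgroup.mem_bot.1 h3))
  have hbij := hinj.bijective_of_nat_card_le (by rw [A.side₂.card_Z])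
  obtain ⟨z, hz⟩ := hbij.2 (e.e ⟨v, hv.1⟩ 0)
  have h1 : e.e ⟨z, A.side₂.Z_le' z.2⟩ = e.e ⟨v, hv.1⟩ := by
    ext i
    fin_cases i
    · exact hz
    · change e.e ⟨z, A.side₂.Z_le' z.2⟩ 1 = e.e ⟨v, hv.1⟩ 1
      rw [e.snd_eq_zero (A.side₂.Z_le' z.2) (A.side₂.Z_le z.2), e.snd_eq_zero hv.1 hv.2]
  have h2 := (e.eq_iff _ _).1 h1
  have h3 : v = z * ((z : G)⁻¹ * v) := by group
  rw [h3]
  exact Subgroup.mul_mem _ (Subgroup.mem_sup_right z.2) (Subgroup.mem_sup_left h2)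

theorem ψ₂_L₂ (g : SpecialLinearGroup (Fin 2) F) : A.ψ₂ hq g ∈ (swap A).L₁ := (swap A).ψ₁_mem hq g

theorem φ₂_ψ₂ (g : SpecialLinearGroup (Fin 2) F) : A.φ₂ ⟨A.ψ₂ hq g, (A.ψ₂_L₂ hq g).1⟩ = g :=
  (swap A).φ₁_ψ₁ hq g

theorem ψ₂_u (t : F) : A.ψ₂ hq (u t) ∈ A.V₁ := (swap A).ψ₁_u hq t

theorem ψ₂_d (l : Fˣ) : A.ψ₂ hq (d l) ∈ A.H₂ := (swap A).ψ₁_d hq l

theorem mem_Z₁_iff (z : G) : z ∈ A.side₁.Z ↔
    ∃ t : F, z = A.ψ₂ hq (w F) * A.ψ₁ hq (u t) * A.ψ₂ hq (w F) := (swap A).mem_Z₂_iff hq z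

theorem norm₁' (m : Fˣ) (g : SpecialLinearGroup (Fin 2) F) :
    ∃ g', A.ψ₂ hq (d m) * A.ψ₁ hq g * (A.ψ₂ hq (d m))⁻¹ = A.ψ₁ hq g' := by
  have h1 := A.K_L₁ (A.H₂_le_K (A.ψ₂_d hq m)) (A.ψ₁_mem hq g)
  exact ⟨_, (A.ψ₁_eq hq h1 rfl).symm⟩

theorem norm₂' (m : Fˣ) (g : SpecialLinearGroup (Fin 2) F) :
    ∃ g', A.ψ₁ hq (d m) * A.ψ₂ hq g * (A.ψ₁ hq (d m))⁻¹ = A.ψ₂ hq g' := (swap A).norm₁' hq m g

theorem tor₁'' (l : Fˣ) (t : F) : ∃ t', A.ψ₁ hq (d l) * A.ψ₂ hq (u t) * (A.ψ₁ hq (d l))⁻¹ = A.ψ₂ hq (u t') := by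
  have hl := A.H₁_le_K (A.ψ₁_d hq l)
  have h1 := (swap A).K_L₁ (by rw [swap_K]; exact hl) (A.ψ₂_L₂ hq (u t))
  have h2 := A.K_V₁ hl (A.ψ₂_u hq t)
  obtain ⟨t', ht'⟩ := A.hU₂ _ h2
  exact ⟨t', ((swap A).ψ₁_eq hq h1 ht').symm⟩

theorem tor₂'' (l : Fˣ) (t : F) : ∃ t', A.ψ₂ hq (d l) * A.ψ₁ hq (u t) * (A.ψ₂ hq (d l))⁻¹ = A.ψ₁ hq (u t') :=
  (swap A).tor₁'' hq l t

/-- the frame -/
noncomputable def frame : Frame F G where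
  ψ₁ := A.ψ₁ hq
  ψ₂ := A.ψ₂ hq
  inj₁ := A.ψ₁_injective hq
  inj₂ := (swap A).ψ₁_injective hq
  Z₁ := A.side₁.Z
  Z₂ := A.side₂.Z
  cent₁ := fun g z hz => (A.side₁.mem_Z.1 hz).2 _ (A.ψ₁_mem hq g).1
  cent₂ := fun g z hz => (A.side₂.mem_Z.1 hz).2 _ (A.ψ₂_L₂ hq g).1
  mem_Z₁ := A.mem_Z₁_iff hq
  mem_Z₂ := A.mem_Z₂_iff hq
  disj := A.Z_inf
  commZ := fun a ha b hb => A.side₁.comm (A.side₁.Z_le ha) (A.side₂.Z_le' hb)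
  comm_a_Z₂ := fun t z hz => A.side₁.comm' (A.ψ₁_u hq t) (A.side₂.Z_le hz)
  comm_b_Z₁ := fun t z hz => A.side₁.comm (A.ψ₂_u hq t) (A.side₁.Z_le hz)
  comm_ab := fun t s => A.D_le hq (A.side₁.comm_mem (A.ψ₁_u hq t) (A.ψ₂_u hq s))
  tori := fun l m => A.comm _ (A.ψ₁_d hq l) _ (A.ψ₂_d hq m)
  tor₁ := A.tor₁'' hq
  tor₂ := A.tor₂'' hq

/-- elementwise natural coordinates -/
theorem nat₁ : ∃ e : G → (Fin 2 → F), (∀ x ∈ A.V₁, ∀ y ∈ A.V₁, e (x * y) = e x + e y) ∧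
    (∀ x ∈ A.V₁, e x = 0 ↔ x ∈ A.side₁.Z) ∧ (∀ y, ∃ x ∈ A.V₁, e x = y) ∧
    ∀ g, ∀ x ∈ A.V₁, e (A.ψ₁ hq g * x * (A.ψ₁ hq g)⁻¹) = g.1 *ᵥ e x := by
  classical
  obtain ⟨c⟩ := A.side₁.nonempty_crd hq
  have he : ∀ x (hx : x ∈ A.V₁), (fun x => if h : x ∈ A.V₁ then c.e ⟨x, h⟩ else 0) x = c.e ⟨x, hx⟩ :=
    fun x hx => dif_pos hx
  refine ⟨fun x => if h : x ∈ A.V₁ then c.e ⟨x, h⟩ else 0, ?_, ?_, ?_, ?_⟩
  · intro x hx y hy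
    rw [he x hx, he y hy, he _ (A.V₁.mul_mem hx hy)]
    exact c.mul ⟨x, hx⟩ ⟨y, hy⟩
  · intro x hx
    rw [he x hx]
    exact c.eq_zero ⟨x, hx⟩
  · intro y
    obtain ⟨x, hx⟩ := c.surj y
    exact ⟨x, x.2, by rw [he x x.2]; exact hx⟩
  · intro g x hx
    have hX := (A.ψ₁_mem hq g).1
    have h1 : A.ψ₁ hq g * x * (A.ψ₁ hq g)⁻¹ ∈ A.V₁ := A.side₁.conj_mem hX hx
    rw [he x hx, he _ h1]
    have h2 := c.conj (T := A.side₁) hX hx h1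
    refine h2.trans ?_
    have h3 : A.side₁.φ ⟨A.ψ₁ hq g, hX⟩ = g := A.φ₁_ψ₁ hq g
    rw [h3]

theorem nat₂ : ∃ e : G → (Fin 2 → F), (∀ x ∈ A.V₂, ∀ y ∈ A.V₂, e (x * y) = e x + e y) ∧
    (∀ x ∈ A.V₂, e x = 0 ↔ x ∈ A.side₂.Z) ∧ (∀ y, ∃ x ∈ A.V₂, e x = y) ∧
    ∀ g, ∀ x ∈ A.V₂, e (A.ψ₂ hq g * x * (A.ψ₂ hq g)⁻¹) = g.1 *ᵥ e x := (swap A).nat₁ hq

end final

end TAm

/-- the main theorem: two Levi complements `SL(2,F)` with commuting tori -/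
theorem exists_frame [Finite F] [CharP F 2] [Finite G] (hq : 4 ≤ Nat.card F) (A : Amalgam F G)
    (hZ : A.V₁ ⊓ Subgroup.centralizer (A.X₁ : Set G) ⊓ (A.V₂ ⊓ Subgroup.centralizer (A.X₂ : Set G)) = ⊥) :
    ∃ (A' : Amalgam F G) (Fr : Frame F G), A'.V₁ = A.V₁ ∧ A'.V₂ = A.V₂ ∧ A'.X₁ = A.X₁ ∧ A'.X₂ = A.X₂ ∧
      Fr.Z₁ = A'.V₁ ⊓ Subgroup.centralizer (A'.X₁ : Set G) ∧
      Fr.Z₂ = A'.V₂ ⊓ Subgroup.centralizer (A'.X₂ : Set G) ∧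
      (∀ g, ∃ h : Fr.ψ₁ g ∈ A'.X₁, A'.φ₁ ⟨Fr.ψ₁ g, h⟩ = g) ∧
      (∀ g, ∃ h : Fr.ψ₂ g ∈ A'.X₂, A'.φ₂ ⟨Fr.ψ₂ g, h⟩ = g) ∧
      (∀ t, Fr.ψ₁ (u t) ∈ A'.V₂) ∧ (∀ t, Fr.ψ₂ (u t) ∈ A'.V₁) ∧
      (∀ m g, ∃ g', Fr.ψ₂ (d m) * Fr.ψ₁ g * (Fr.ψ₂ (d m))⁻¹ = Fr.ψ₁ g') ∧
      (∀ m g, ∃ g', Fr.ψ₁ (d m) * Fr.ψ₂ g * (Fr.ψ₁ (d m))⁻¹ = Fr.ψ₂ g') ∧
      (∃ e : G → (Fin 2 → F), (∀ x ∈ A'.V₁, ∀ y ∈ A'.V₁, e (x * y) = e x + e y) ∧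
        (∀ x ∈ A'.V₁, e x = 0 ↔ x ∈ Fr.Z₁) ∧ (∀ y, ∃ x ∈ A'.V₁, e x = y) ∧
        ∀ g, ∀ x ∈ A'.V₁, e (Fr.ψ₁ g * x * (Fr.ψ₁ g)⁻¹) = g.1 *ᵥ e x) ∧
      (∃ e : G → (Fin 2 → F), (∀ x ∈ A'.V₂, ∀ y ∈ A'.V₂, e (x * y) = e x + e y) ∧
        (∀ x ∈ A'.V₂, e x = 0 ↔ x ∈ Fr.Z₂) ∧ (∀ y, ∃ x ∈ A'.V₂, e x = y) ∧
        ∀ g, ∀ x ∈ A'.V₂, e (Fr.ψ₂ g * x * (Fr.ψ₂ g)⁻¹) = g.1 *ᵥ e x) := by
  obtain ⟨N, hN1, hN2, hN3, hN4⟩ := exists_NAm A hZ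
  obtain ⟨T, hT1, hT2, hT3, hT4⟩ := exists_TAm hq N
  refine ⟨T.toAmalgam, T.frame hq, hT1.trans hN1, hT2.trans hN2, hT3.trans hN3, hT4.trans hN4, rfl, rfl,
    fun g => ⟨_, T.φ₁_ψ₁ hq g⟩, fun g => ⟨_, T.φ₂_ψ₂ hq g⟩, T.ψ₁_u hq, T.ψ₂_u hq, T.norm₁' hq, T.norm₂' hq,
    T.nat₁ hq, T.nat₂ hq⟩

end Cfsg.Agent.ClassTwo.Sp4Frame
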