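/-
The amalgam of the two minimal parabolic subgroups of `Sp(4,q)`, `q` even, generates a simple group in which the
centralizers of the central involutions of the Sylow subgroup lie in the two normalizers.
-/
import Mathlib
import Cfsg.Agent.ClassTwo.Sp4Frame
import Cfsg.Agent.ClassTwo.Sp4Braid

set_option autoImplicit false

namespace Cfsg.Agent.ClassTwo.Sp4Final

open Cfsg.Agent.ClassTwo.Sp4Defs Cfsg.Agent.ClassTwo.Sp4Side Cfsg.Agent.ClassTwo.Sp4Torus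
open Matrix (SpecialLinearGroup)
open scoped Matrix

variable {F G : Type*} [Field F] [Group G]

/-! ### generalities -/

theorem le_or_le {W A B : Subgroup G} (h : ∀ x ∈ W, x ∈ A ∨ x ∈ B) : W ≤ A ∨ W ≤ B := by
  by_contra hc
  push Not at hc
  obtain ⟨h1, h2⟩ := hc
  obtain ⟨a, ha, haA⟩ := SetLike.not_le_iff_exists.1 h1
  obtain ⟨b, hb, hbB⟩ := SetLike.not_le_iff_exists.1 h2
  have haB := (h a ha).resolve_left haA
  have hbA := (h b hb).resolve_right hbB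
  rcases h (a * b) (W.mul_mem ha hb) with h3 | h3
  · apply haA
    have := A.mul_mem h3 (A.inv_mem hbA)
    simpa using this
  · apply hbB
    have := B.mul_mem (B.inv_mem haB) h3
    simpa using this

/-- two non-conjugate involutions commute with a common involution -/
theorem exists_common [Finite G] {z t : G} (hz : z * z = 1) (ht : t * t = 1)
    (hn : ∀ g, g * z * g⁻¹ ≠ t) : ∃ c : G, c * c = 1 ∧ c ≠ 1 ∧ c * z = z * c ∧ c * t = t * c := by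
  have hz' : z⁻¹ = z := inv_eq_of_mul_eq_one_left hz
  have ht' : t⁻¹ = t := inv_eq_of_mul_eq_one_left ht
  set y := z * t with hy
  have hinv : z * y * z⁻¹ = y⁻¹ := by
    rw [hy, mul_inv_rev, hz', ht', ← mul_assoc, hz, one_mul]
  have hinv' : t * y * t⁻¹ = y⁻¹ := by
    rw [hy, mul_inv_rev, hz', ht', mul_assoc, mul_assoc, ht, mul_one]
  have hpow : ∀ n : ℕ, z * y ^ n * z⁻¹ = (y ^ n)⁻¹ := by
    intro n
    rw [← conj_pow, hinv, inv_pow]
  have hpow' : ∀ n : ℕ, t * y ^ n * t⁻¹ = (y ^ n)⁻¹ := by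
    intro n
    rw [← conj_pow, hinv', inv_pow]
  have hfin : 0 < orderOf y := orderOf_pos y
  rcases Nat.even_or_odd (orderOf y) with h | h
  · obtain ⟨m, hm⟩ := h
    refine ⟨y ^ m, ?_, ?_, ?_, ?_⟩
    · rw [← pow_add, ← hm, pow_orderOf_eq_one]
    · intro h1
      have := orderOf_dvd_of_pow_eq_one h1
      have := Nat.le_of_dvd (by omega) this
      omega
    · have h1 : (y ^ m)⁻¹ = y ^ m := by
        rw [inv_eq_iff_mul_eq_one, ← pow_add, ← hm, pow_orderOf_eq_one]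
      have := hpow m
      rw [h1, mul_inv_eq_iff_eq_mul] at this
      exact this.symm
    · have h1 : (y ^ m)⁻¹ = y ^ m := by
        rw [inv_eq_iff_mul_eq_one, ← pow_add, ← hm, pow_orderOf_eq_one]
      have := hpow' m
      rw [h1, mul_inv_eq_iff_eq_mul] at this
      exact this.symm
  · exfalso
    obtain ⟨m, hm⟩ := h
    -- `(zt)^m z (zt)^{-m} = (zt)^{2m} z = (zt)^{-1} z = t z z = t`
    apply hn (y ^ m)
    have h1 : z * (y ^ m)⁻¹ = y ^ m * z := by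
      have := hpow m
      rw [mul_inv_eq_iff_eq_mul] at this
      have h2 : y ^ m * (z * y ^ m) * (y ^ m)⁻¹ = y ^ m * ((y ^ m)⁻¹ * z) * (y ^ m)⁻¹ := by rw [this]
      rw [mul_inv_cancel_left, ← mul_assoc, mul_assoc, mul_inv_cancel, mul_one] at h2
      exact h2.symm
    rw [mul_assoc, h1, ← mul_assoc, ← pow_add]
    have h2 : y ^ (m + m) = y⁻¹ := by
      rw [eq_inv_iff_mul_eq_one, ← pow_succ]
      have : m + m + 1 = orderOf y := by omega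
      rw [this, pow_orderOf_eq_one]
    rw [h2, hy, mul_inv_rev, hz', mul_assoc, hz, mul_one, ht']

/-- In a simple group a proper subgroup containing the centralizers of its involutions: all its involutions are
conjugate (to any involution outside). -/
theorem eq_top_of_cent [Finite G] [IsSimpleGroup G] (H : Subgroup G) {z₁ z₂ : G}
    (hz₁ : z₁ ∈ H) (h₁ : z₁ * z₁ = 1) (h₁' : z₁ ≠ 1) (hz₂ : z₂ ∈ H) (h₂ : z₂ * z₂ = 1) (_h₂' : z₂ ≠ 1)
    (hc : ∀ z ∈ H, z * z = 1 → z ≠ 1 → ∀ g, g * z = z * g → g ∈ H)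
    (hn : ∀ g, g * z₁ * g⁻¹ ≠ z₂) : H = ⊤ := by
  by_contra hH
  -- an involution outside
  have hex : ∃ t : G, t * t = 1 ∧ t ∉ H := by
    by_contra hno
    push Not at hno
    have hN : (Subgroup.closure {t : G | t * t = 1}).Normal := by
      constructor
      intro n hn g
      induction hn using Subgroup.closure_induction with
      | mem x hx =>
        apply Subgroup.subset_closure
        change g * x * g⁻¹ * (g * x * g⁻¹) = 1
        have : g * x * g⁻¹ * (g * x * g⁻¹) = g * (x * x) * g⁻¹ := by group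
        rw [this, hx, mul_one, mul_inv_cancel]
      | one => simp
      | mul a b _ _ ha hb =>
        have : g * (a * b) * g⁻¹ = (g * a * g⁻¹) * (g * b * g⁻¹) := by group
        rw [this]
        exact Subgroup.mul_mem _ ha hb
      | inv a _ ha =>
        have : g * a⁻¹ * g⁻¹ = (g * a * g⁻¹)⁻¹ := by group
        rw [this]
        exact Subgroup.inv_mem _ ha
    rcases hN.eq_bot_or_eq_top with h | h
    · have : z₁ ∈ Subgroup.closure {t : G | t * t = 1} := Subgroup.subset_closure h₁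
      rw [h, Subgroup.mem_bot] at this
      exact h₁' this
    · apply hH
      rw [eq_top_iff, ← h, Subgroup.closure_le]
      intro t ht
      exact hno t ht
  obtain ⟨t, ht, htH⟩ := hex
  have hconj : ∀ z ∈ H, z * z = 1 → z ≠ 1 → ∃ g, g * z * g⁻¹ = t := by
    intro z hz hzz hz1
    by_contra hno
    push Not at hno
    obtain ⟨c, hc1, hc2, hc3, hc4⟩ := exists_common hzz ht hno
    have hcH : c ∈ H := hc z hz hzz hz1 c hc3
    exact htH (hc c hcH hc1 hc2 t hc4.symm)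
  obtain ⟨g, hg⟩ := hconj z₁ hz₁ h₁ h₁'
  obtain ⟨k, hk⟩ := hconj z₂ hz₂ h₂ _h₂'
  apply hn (k⁻¹ * g)
  have : k⁻¹ * g * z₁ * (k⁻¹ * g)⁻¹ = k⁻¹ * (g * z₁ * g⁻¹) * k := by group
  rw [this, hg, ← hk]
  group

/-! ### the amalgam before normalisation -/

/-- one side of an amalgam -/
theorem exists_side [Finite F] [CharP F 2] (A : Amalgam F G) :
    ∃ T : Side F G, T.V = A.V₁ ∧ T.V' = A.V₂ ∧ T.X = A.X₁ := by
  obtain ⟨g, hg⟩ := exists_conj A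
  refine ⟨{ V := A.V₁
            V' := A.V₂
            X := A.X₁
            φ := (chg A g 1).φ₁
            surj := (chg A g 1).surj₁
            ker := (chg A g 1).ker₁
            V_le := A.V₁_le_X₁
            V'_le := A.V₂_le_X₁
            sq := A.sq₁
            sq' := A.sq₂
            card := A.card₁
            card' := A.card₂
            cardD := A.card₁₂
            cent := A.cent₁
            cent' := A.cent₂
            cardZ := A.cardZ₁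
            hU := hg
            nrm' := ?_ }, rfl, rfl, rfl⟩
  intro v hv x hx
  have h1 : (⟨x, A.V₂_le_X₂ hx⟩ : ↥A.X₂) ∈ A.φ₂.ker := by
    rw [A.ker₂]; exact hx
  have h2 := (inferInstance : A.φ₂.ker.Normal).conj_mem _ h1 ⟨v, A.V₁_le_X₂ hv⟩
  rw [A.ker₂] at h2
  exact h2

theorem side_not_le [Finite F] (T : Side F G) : ¬ T.X ≤ Subgroup.normalizer (T.V' : Set G) := by
  intro h
  obtain ⟨⟨x, hx⟩, hxw⟩ := T.surj (w F)
  have h1 : x ∈ Subgroup.normalizer (T.S : Set G) := by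
    have h2 := T.le_normalizer hx
    have h3 := h hx
    rw [Subgroup.mem_normalizer_iff] at h2 h3 ⊢
    intro y
    constructor
    · intro hy
      obtain ⟨v, hv, v', hv', rfl⟩ := T.mem_S.1 hy
      refine T.mem_S.2 ⟨x * v * x⁻¹, (h2 v).1 hv, x * v' * x⁻¹, (h3 v').1 hv', by group⟩
    · intro hy
      obtain ⟨v, hv, v', hv', hvv⟩ := T.mem_S.1 hy
      refine T.mem_S.2 ⟨x⁻¹ * v * x, (h2 _).2 (by simpa [mul_assoc] using hv), x⁻¹ * v' * x,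
        (h3 _).2 (by simpa [mul_assoc] using hv'), ?_⟩
      have : y = x⁻¹ * (x * y * x⁻¹) * x := by group
      rw [this, ← hvv]
      group
  rw [Side.mem_normalizer_S hx, hxw] at h1
  simp [w] at h1

theorem not_le₁ [Finite F] [CharP F 2] (A : Amalgam F G) :
    ¬ A.X₁ ≤ Subgroup.normalizer (A.V₂ : Set G) := by
  obtain ⟨T, h1, h2, h3⟩ := exists_side A
  have := side_not_le T
  rwa [h2, h3] at this

theorem not_le₂ [Finite F] [CharP F 2] (A : Amalgam F G) :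
    ¬ A.X₂ ≤ Subgroup.normalizer (A.V₁ : Set G) := not_le₁ (Amalgam.swap A)

/-- the condition on the centralizers of the involutions of the centre of `S = V₁V₂` -/
def Cond (A : Amalgam F G) : Prop :=
  ∀ z ∈ A.V₁ ⊓ A.V₂, z ≠ 1 → Subgroup.centralizer ({z} : Set G) ≤ Subgroup.normalizer (A.V₁ : Set G) ∨
    Subgroup.centralizer ({z} : Set G) ≤ Subgroup.normalizer (A.V₂ : Set G)

theorem Cond.swap {A : Amalgam F G} (h : Cond A) : Cond (Amalgam.swap A) :=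
  fun z hz hz1 => (h z ⟨hz.2, hz.1⟩ hz1).symm

theorem Z₁_le {A : Amalgam F G} {z : G} (hz : z ∈ A.V₁ ⊓ Subgroup.centralizer (A.X₁ : Set G)) :
    z ∈ A.V₁ ⊓ A.V₂ := by
  refine ⟨hz.1, A.cent₂ ?_⟩
  rw [Subgroup.mem_centralizer_iff]
  intro y hy
  exact Subgroup.mem_centralizer_iff.1 hz.2 y (A.V₂_le_X₁ hy)

theorem X₁_le_cent {A : Amalgam F G} {z : G} (hz : z ∈ A.V₁ ⊓ Subgroup.centralizer (A.X₁ : Set G)) :
    A.X₁ ≤ Subgroup.centralizer ({z} : Set G) := by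
  intro x hx
  rw [Subgroup.mem_centralizer_singleton_iff]
  exact Subgroup.mem_centralizer_iff.1 hz.2 x hx

theorem Cond.cent₁ [Finite F] [CharP F 2] {A : Amalgam F G} (h : Cond A) {z : G}
    (hz : z ∈ A.V₁ ⊓ Subgroup.centralizer (A.X₁ : Set G)) (hz1 : z ≠ 1) :
    Subgroup.centralizer ({z} : Set G) ≤ Subgroup.normalizer (A.V₁ : Set G) := by
  rcases h z (Z₁_le hz) hz1 with h1 | h1
  · exact h1
  · exact absurd ((X₁_le_cent hz).trans h1) (not_le₁ A)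

theorem Cond.cent₂ [Finite F] [CharP F 2] {A : Amalgam F G} (h : Cond A) {z : G}
    (hz : z ∈ A.V₂ ⊓ Subgroup.centralizer (A.X₂ : Set G)) (hz1 : z ≠ 1) :
    Subgroup.centralizer ({z} : Set G) ≤ Subgroup.normalizer (A.V₂ : Set G) :=
  (Cond.swap h).cent₁ hz hz1

theorem Cond.disj [Finite F] [CharP F 2] {A : Amalgam F G} (h : Cond A) :
    A.V₁ ⊓ Subgroup.centralizer (A.X₁ : Set G) ⊓ (A.V₂ ⊓ Subgroup.centralizer (A.X₂ : Set G)) = ⊥ := by
  rw [Subgroup.eq_bot_iff_forall]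
  rintro z ⟨hz1, hz2⟩
  by_contra hne
  exact not_le₁ A ((X₁_le_cent hz1).trans (h.cent₂ hz2 hne))

/-! ### the Sylow subgroup -/

section sylow

variable [Finite F] [CharP F 2] [Finite G] (A : NAm F G)

omit [Finite G] in
theorem isPGroup_of_sq {V : Subgroup G} (h : ∀ x ∈ V, x * x = 1) : IsPGroup 2 ↥V := by
  intro x
  refine ⟨1, Subtype.ext ?_⟩
  rw [pow_one, Subgroup.coe_pow, pow_two]
  exact h x x.2

omit [Finite F] [CharP F 2] [Finite G] in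
theorem isPGroup_S : IsPGroup 2 ↥A.S :=
  IsPGroup.to_sup_of_normal_right' (isPGroup_of_sq A.sq₁) (isPGroup_of_sq A.sq₂)
    (A.V₁_le_X₂.trans A.side₂.le_normalizer)

omit [Finite G] in
theorem odd_S₁ : Odd (A.S.relIndex (Subgroup.normalizer (A.V₁ : Set G))) := by
  rw [← Subgroup.relIndex_mul_relIndex A.S A.X₁ (Subgroup.normalizer (A.V₁ : Set G)) A.S_le₁
    A.side₁.le_normalizer]
  exact A.side₁.odd_relIndex.mul A.odd₁

omit [Finite G] in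
theorem odd_S₂ : Odd (A.S.relIndex (Subgroup.normalizer (A.V₂ : Set G))) := by
  have := odd_S₁ A.swap
  rwa [A.swap_S] at this

omit [Finite F] [CharP F 2] in
theorem le_of_odd {S P N : Subgroup G} (hP : IsPGroup 2 ↥P) (hSP : S ≤ P) (hPN : P ≤ N) (h : Odd (S.relIndex N)) :
    P ≤ S := by
  rw [← Subgroup.relIndex_eq_one]
  have h1 := Subgroup.relIndex_mul_relIndex S P N hSP hPN
  rw [← h1] at h
  have h2 : Odd (S.relIndex P) := Nat.odd_mul.1 h |>.1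
  obtain ⟨n, hn⟩ := hP.index (S.subgroupOf P)
  change S.relIndex P = 2 ^ n at hn
  rcases Nat.eq_zero_or_pos n with h0 | h0
  · rw [hn, h0, pow_zero]
  · exfalso
    rw [hn] at h2
    have : Even (2 ^ n) := (even_two).pow_of_ne_zero (by omega)
    exact (Nat.not_even_iff_odd.2 h2) this

theorem exists_sylow (hq : 4 ≤ Nat.card F) (hc : Cond A.toAmalgam) :
    ∃ P : Sylow 2 G, (P : Subgroup G) = A.S := by
  obtain ⟨P, hP⟩ := (isPGroup_S A).exists_le_sylow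
  refine ⟨P, le_antisymm ?_ hP⟩
  obtain ⟨z, hz, hz1⟩ := A.side₁.exists_mem_Z_ne hq
  have : Nontrivial ↥(P : Subgroup G) :=
    ⟨⟨⟨z, hP (Subgroup.mem_sup_left (A.side₁.Z_le hz))⟩, 1, fun h => hz1 (congrArg Subtype.val h)⟩⟩
  have := P.isPGroup'.center_nontrivial
  obtain ⟨⟨⟨c, hcP⟩, hcc⟩, hc1⟩ := exists_ne (1 : ↥(Subgroup.center ↥(P : Subgroup G)))
  have hcomm : ∀ x ∈ (P : Subgroup G), x * c = c * x := by
    intro x hx
    have := Subgroup.mem_center_iff.1 hcc ⟨x, hx⟩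
    exact congrArg Subtype.val this
  have hc1' : c ≠ 1 := by
    rintro rfl
    exact hc1 rfl
  have hD : c ∈ A.V₁ ⊓ A.V₂ := by
    refine ⟨A.cent₁ ?_, A.cent₂ ?_⟩
    · rw [Subgroup.mem_centralizer_iff]
      intro y hy
      exact hcomm y (hP (Subgroup.mem_sup_left hy))
    · rw [Subgroup.mem_centralizer_iff]
      intro y hy
      exact hcomm y (hP (Subgroup.mem_sup_right hy))
  have hPc : (P : Subgroup G) ≤ Subgroup.centralizer ({c} : Set G) := by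
    intro x hx
    rw [Subgroup.mem_centralizer_singleton_iff]
    exact hcomm x hx
  rcases hc c hD hc1' with h | h
  · exact le_of_odd P.isPGroup' hP (hPc.trans h) (odd_S₁ A)
  · exact le_of_odd P.isPGroup' hP (hPc.trans h) (odd_S₂ A)

/-- an element of `N(S)` maps `V₁` to `V₁` or `V₂` -/
theorem normalizer_S_cases (hq : 4 ≤ Nat.card F) {n : G} (hn : n ∈ Subgroup.normalizer (A.S : Set G)) :
    (∀ x ∈ A.V₁, n * x * n⁻¹ ∈ A.V₁) ∨ (∀ x ∈ A.V₁, n * x * n⁻¹ ∈ A.V₂) := by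
  obtain ⟨c⟩ := A.side₁.nonempty_crd hq
  have h : ∀ x ∈ A.V₁.map (MulAut.conj n).toMonoidHom, x ∈ A.V₁ ∨ x ∈ A.V₂ := by
    rintro _ ⟨x, hx, rfl⟩
    change n * x * n⁻¹ ∈ A.V₁ ∨ n * x * n⁻¹ ∈ A.V₂
    refine Side.inv_mem c ?_ ?_
    · exact (Subgroup.mem_normalizer_iff.1 hn x).1 (Subgroup.mem_sup_left hx)
    · have : n * x * n⁻¹ * (n * x * n⁻¹) = n * (x * x) * n⁻¹ := by group
      rw [this, A.sq₁ x hx, mul_one, mul_inv_cancel]
  rcases le_or_le h with h1 | h1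
  · left
    intro x hx
    exact h1 ⟨x, hx, rfl⟩
  · right
    intro x hx
    exact h1 ⟨x, hx, rfl⟩

omit [Finite F] [CharP F 2] in
theorem mem_normalizer_of_conj {V : Subgroup G} {n : G} (h : ∀ x ∈ V, n * x * n⁻¹ ∈ V) :
    n ∈ Subgroup.normalizer (V : Set G) := by
  have h1 : V.map (MulAut.conj n).toMonoidHom = V := by
    apply Subgroup.eq_of_le_of_card_ge
    · rintro _ ⟨x, hx, rfl⟩
      exact h x hx
    · rw [Subgroup.card_map_of_injective (MulAut.conj n).injective]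
  rw [Subgroup.mem_normalizer_iff]
  intro x
  refine ⟨h x, fun hx => ?_⟩
  have h2 : n * x * n⁻¹ ∈ V.map (MulAut.conj n).toMonoidHom := by rw [h1]; exact hx
  obtain ⟨y, hy, hyx⟩ := h2
  have h3 : n * y * n⁻¹ = n * x * n⁻¹ := hyx
  have h4 : y = x := by simpa using h3
  rwa [← h4]

omit [CharP F 2] [Finite G] in
theorem V_ne : ¬ A.V₁ ≤ A.V₂ := by
  intro h
  have h1 := A.card₁₂
  rw [inf_eq_left.2 h, A.card₁] at h1
  have h2 : 1 < Nat.card F := Finite.one_lt_card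
  have := Nat.pow_right_injective h2 h1
  omega

theorem normalizer_S (hq : 4 ≤ Nat.card F) (hc : Cond A.toAmalgam) {n : G}
    (hn : n ∈ Subgroup.normalizer (A.S : Set G)) : n ∈ Subgroup.normalizer (A.V₁ : Set G) := by
  rcases normalizer_S_cases A hq hn with h | h
  · exact mem_normalizer_of_conj h
  · -- the swap
    have hsw : ∀ x ∈ A.V₂, n * x * n⁻¹ ∈ A.V₁ := by
      rcases normalizer_S_cases A.swap hq (n := n) (by rw [A.swap_S]; exact hn) with h2 | h2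
      · exfalso
        have h3 := mem_normalizer_of_conj (V := A.V₂) h2
        apply V_ne A
        intro x hx
        exact (Subgroup.mem_normalizer_iff.1 h3 x).2 (h x hx)
      · exact h2
    have hsq : n ^ 2 ∈ Subgroup.normalizer (A.V₁ : Set G) := by
      apply mem_normalizer_of_conj
      intro x hx
      have : n ^ 2 * x * (n ^ 2)⁻¹ = n * (n * x * n⁻¹) * n⁻¹ := by
        rw [pow_two]; group
      rw [this]
      exact hsw _ (h x hx)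
    obtain ⟨P, hP⟩ := exists_sylow A hq hc
    have hodd : ¬ 2 ∣ A.S.relIndex (Subgroup.normalizer (A.S : Set G)) := by
      intro h3
      apply P.not_dvd_index
      rw [hP]
      exact h3.trans (Subgroup.relIndex_dvd_index_of_le Subgroup.le_normalizer)
    have hpow : n ^ (A.S.relIndex (Subgroup.normalizer (A.S : Set G))) ∈ A.S := by
      have h3 := Subgroup.pow_index_mem (A.S.subgroupOf (Subgroup.normalizer (A.S : Set G))) ⟨n, hn⟩
      rw [Subgroup.mem_subgroupOf] at h3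
      exact h3
    obtain ⟨k, hk⟩ : ∃ k, A.S.relIndex (Subgroup.normalizer (A.S : Set G)) = 2 * k + 1 := by
      exact Nat.not_even_iff_odd.1 (fun h4 => hodd (even_iff_two_dvd.1 h4))
    rw [hk, pow_succ, pow_mul] at hpow
    have h4 : (n ^ 2) ^ k * n ∈ Subgroup.normalizer (A.V₁ : Set G) :=
      (A.S_le₁.trans A.side₁.le_normalizer) hpow
    have h5 := Subgroup.mul_mem _ (Subgroup.inv_mem _ (Subgroup.pow_mem _ hsq k)) h4
    simpa using h5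

theorem normalizer_S' (hq : 4 ≤ Nat.card F) (hc : Cond A.toAmalgam) {n : G}
    (hn : n ∈ Subgroup.normalizer (A.S : Set G)) : n ∈ Subgroup.normalizer (A.V₂ : Set G) :=
  normalizer_S A.swap hq (Cond.swap hc) (by rw [A.swap_S]; exact hn)

/-- fusion of `Z₁` and `Z₂` -/
theorem not_conj (hq : 4 ≤ Nat.card F) (hc : Cond A.toAmalgam) {z₁ z₂ : G} (h₁ : z₁ ∈ A.side₁.Z)
    (h₂ : z₂ ∈ A.side₂.Z) (hz₁ : z₁ ≠ 1) (g : G) : g * z₁ * g⁻¹ ≠ z₂ := by
  intro hg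
  obtain ⟨P, hP⟩ := exists_sylow A hq hc
  have hcent : ∀ z ∈ A.V₁ ⊓ A.V₂, z ∈ Subgroup.centralizer ((P : Subgroup G) : Set G) := by
    intro z hz
    rw [Subgroup.mem_centralizer_iff]
    intro y hy
    rw [SetLike.mem_coe, hP] at hy
    obtain ⟨v, hv, v', hv', rfl⟩ := A.side₁.mem_S.1 hy
    have e1 : v * z = z * v := A.side₁.comm hv hz.1
    have e2 : v' * z = z * v' := A.side₁.comm' hv' hz.2
    rw [mul_assoc, e2, ← mul_assoc, e1, mul_assoc]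
  obtain ⟨n, hn, hn'⟩ := P.conj_eq_normalizer_conj_of_mem_centralizer z₁ g⁻¹
    (hcent _ ⟨A.side₁.Z_le h₁, A.side₁.Z_le' h₁⟩)
    (by rw [inv_inv, hg]; exact hcent _ ⟨A.side₂.Z_le' h₂, A.side₂.Z_le h₂⟩)
  rw [inv_inv, hg] at hn'
  have hn2 : n⁻¹ ∈ Subgroup.normalizer (A.S : Set G) := by
    apply Subgroup.inv_mem
    have : n ∈ Subgroup.normalizer ((P : Subgroup G) : Set G) := hn
    rwa [hP] at this
  have hnV := normalizer_S A hq hc hn2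
  have hz2 : z₂ ∈ A.side₁.Z := by
    rw [Side.mem_Z, hn']
    constructor
    · have := (Subgroup.mem_normalizer_iff.1 hnV z₁).1 (A.side₁.Z_le h₁)
      rw [inv_inv] at this
      exact this
    · intro y hy
      have h5 : n * y * n⁻¹ ∈ A.X₁ := by
        have := A.norm₁ n (by simpa using Subgroup.inv_mem _ hnV) y hy
        exact this
      have h6 := (A.side₁.mem_Z.1 h₁).2 _ h5
      have h7 : n⁻¹ * (n * y * n⁻¹ * z₁) * n = n⁻¹ * (z₁ * (n * y * n⁻¹)) * n := by rw [h6]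
      have e1 : n⁻¹ * (n * y * n⁻¹ * z₁) * n = y * (n⁻¹ * z₁ * n) := by group
      have e2 : n⁻¹ * (z₁ * (n * y * n⁻¹)) * n = n⁻¹ * z₁ * n * y := by group
      rw [← e1, h7, e2]
  have h3 : z₂ ∈ A.side₁.Z ⊓ A.side₂.Z := ⟨hz2, h₂⟩
  have h4 : A.side₁.Z ⊓ A.side₂.Z = ⊥ := A.disj
  rw [h4, Subgroup.mem_bot] at h3
  rw [h3] at hg
  apply hz₁
  have : z₁ = g⁻¹ * (g * z₁ * g⁻¹) * g := by group
  rw [this, hg]
  group

/-- every element of `V₁` is conjugate in `X₁` to an element of `V₁ ∩ V₂` -/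
theorem conj_D (hq : 4 ≤ Nat.card F) {v : G} (hv : v ∈ A.V₁) : ∃ x ∈ A.X₁, x * v * x⁻¹ ∈ A.V₁ ⊓ A.V₂ := by
  obtain ⟨c⟩ := A.side₁.nonempty_crd hq
  by_cases h : c.e ⟨v, hv⟩ 1 = 0
  · exact ⟨1, A.X₁.one_mem, by simpa using ⟨hv, c.mem_V' hv h⟩⟩
  · obtain ⟨⟨x, hx⟩, hxw⟩ := A.surj₁ (w F * u (-(c.e ⟨v, hv⟩ 0 / c.e ⟨v, hv⟩ 1)))
    have h1 : x * v * x⁻¹ ∈ A.V₁ := A.side₁.conj_mem hx hv
    refine ⟨x, hx, h1, ?_⟩
    refine c.mem_V' h1 ?_
    have h2 := c.conj (T := A.side₁) hx hv h1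
    have h3 : A.side₁.φ ⟨x, hx⟩ = _ := hxw
    rw [h3, Matrix.SpecialLinearGroup.coe_mul, ← Matrix.mulVec_mulVec, Side.u_mulVec] at h2
    refine (congrFun h2 1).trans ?_
    simp [w, Matrix.mulVec, dotProduct, Fin.sum_univ_two]
    field_simp
    ring

/-- the subgroup generated by the two parabolic subgroups -/
def G0 : Subgroup G := A.X₁ ⊔ A.X₂

omit [Finite F] [CharP F 2] [Finite G] in
theorem swap_G0 : G0 A.swap = G0 A := sup_comm _ _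

omit [Finite F] [CharP F 2] [Finite G] in
theorem mem_normalizer_G0 {n : G} (h₁ : n ∈ Subgroup.normalizer (A.V₁ : Set G))
    (h₂ : n ∈ Subgroup.normalizer (A.V₂ : Set G)) : n ∈ Subgroup.normalizer (G0 A : Set G) := by
  have key : ∀ n, n ∈ Subgroup.normalizer (A.V₁ : Set G) → n ∈ Subgroup.normalizer (A.V₂ : Set G) →
      ∀ x ∈ G0 A, n * x * n⁻¹ ∈ G0 A := by
    intro n h₁ h₂ x hx
    have h3 : A.X₁ ⊔ A.X₂ ≤ (A.X₁ ⊔ A.X₂).comap (MulAut.conj n).toMonoidHom := by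
      apply sup_le
      · intro y hy
        exact Subgroup.mem_sup_left (A.norm₁ n h₁ y hy)
      · intro y hy
        exact Subgroup.mem_sup_right (A.norm₂ n h₂ y hy)
    exact h3 hx
  rw [Subgroup.mem_normalizer_iff]
  intro x
  refine ⟨key n h₁ h₂ x, fun hx => ?_⟩
  have h4 := key n⁻¹ (Subgroup.inv_mem _ h₁) (Subgroup.inv_mem _ h₂) _ hx
  simpa [mul_assoc] using h4

/-- Frattini argument -/
theorem normalizer_V₁_le (hq : 4 ≤ Nat.card F) (hc : Cond A.toAmalgam) :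
    Subgroup.normalizer (A.V₁ : Set G) ≤ Subgroup.normalizer (G0 A : Set G) := by
  intro g hg
  obtain ⟨P, hP⟩ := exists_sylow A hq hc
  have h1 : (P : Subgroup G) ≤ A.X₁ := by rw [hP]; exact A.S_le₁
  have h2 : ((g • P : Sylow 2 G) : Subgroup G) ≤ A.X₁ := by
    intro y hy
    rw [Sylow.coe_subgroup_smul, Subgroup.mem_pointwise_smul_iff_inv_smul_mem] at hy
    have hy' : g⁻¹ * y * g ∈ (P : Subgroup G) := by simpa [MulAut.smul_def] using hy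
    have := A.norm₁ g hg _ (h1 hy')
    simpa [mul_assoc] using this
  obtain ⟨x, hx⟩ := MulAction.exists_smul_eq ↥A.X₁ (P.subtype h1) ((g • P).subtype h2)
  rw [Sylow.smul_subtype] at hx
  have h3 : (x : G) • P = g • P := Sylow.subtype_injective hx
  have h4 : ((x : G)⁻¹ * g) • P = P := by rw [mul_smul, ← h3, inv_smul_smul]
  rw [Sylow.smul_eq_iff_mem_normalizer] at h4
  have h4' : (x : G)⁻¹ * g ∈ Subgroup.normalizer ((P : Subgroup G) : Set G) := h4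
  rw [hP] at h4'
  have h5 := mem_normalizer_G0 A (normalizer_S A hq hc h4') (normalizer_S' A hq hc h4')
  have h6 : (x : G) ∈ Subgroup.normalizer (G0 A : Set G) :=
    Subgroup.le_normalizer (Subgroup.mem_sup_left x.2)
  have h7 := Subgroup.mul_mem _ h6 h5
  simpa using h7

theorem normalizer_V₂_le (hq : 4 ≤ Nat.card F) (hc : Cond A.toAmalgam) :
    Subgroup.normalizer (A.V₂ : Set G) ≤ Subgroup.normalizer (G0 A : Set G) := by
  rw [← swap_G0]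
  exact normalizer_V₁_le A.swap hq (Cond.swap hc)

theorem cent_D_le (hq : 4 ≤ Nat.card F) (hc : Cond A.toAmalgam) {z : G} (hz : z ∈ A.V₁ ⊓ A.V₂) (hz1 : z ≠ 1) :
    Subgroup.centralizer ({z} : Set G) ≤ Subgroup.normalizer (G0 A : Set G) := by
  rcases hc z hz hz1 with h | h
  · exact h.trans (normalizer_V₁_le A hq hc)
  · exact h.trans (normalizer_V₂_le A hq hc)

theorem cent_inv_le (hq : 4 ≤ Nat.card F) (hc : Cond A.toAmalgam) {z : G}
    (hz : z ∈ Subgroup.normalizer (G0 A : Set G)) (hzz : z * z = 1) (hz1 : z ≠ 1) {g : G} (hg : g * z = z * g) :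
    g ∈ Subgroup.normalizer (G0 A : Set G) := by
  set H := Subgroup.normalizer (G0 A : Set G) with hH
  obtain ⟨P, hP⟩ := exists_sylow A hq hc
  have hG0 : G0 A ≤ H := Subgroup.le_normalizer
  have hPH : (P : Subgroup G) ≤ H := by
    rw [hP]
    exact A.S_le₁.trans (le_sup_left.trans hG0)
  -- `z` lies in a Sylow subgroup of `H`
  have hzp : IsPGroup 2 ↥(Subgroup.zpowers (⟨z, hz⟩ : ↥H)) := by
    apply IsPGroup.of_card (n := 1)
    rw [Nat.card_zpowers, pow_one]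
    apply orderOf_eq_prime
    · rw [pow_two]; exact Subtype.ext hzz
    · intro h; exact hz1 (congrArg Subtype.val h)
  obtain ⟨Q, hQ⟩ := hzp.exists_le_sylow
  obtain ⟨h, hh⟩ := MulAction.exists_smul_eq ↥H Q (P.subtype hPH)
  have h1 : (h : G) * z * (h : G)⁻¹ ∈ A.S := by
    have h2 : (⟨z, hz⟩ : ↥H) ∈ (Q : Subgroup ↥H) := hQ (Subgroup.mem_zpowers _)
    have h3 : h * ⟨z, hz⟩ * h⁻¹ ∈ ((h • Q : Sylow 2 ↥H) : Subgroup ↥H) := by
      rw [Sylow.coe_subgroup_smul, Subgroup.mem_pointwise_smul_iff_inv_smul_mem]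
      simpa [MulAut.smul_def, mul_assoc] using h2
    rw [hh] at h3
    have h4 : ((h * ⟨z, hz⟩ * h⁻¹ : ↥H) : G) ∈ (P : Subgroup G) := h3
    rwa [hP] at h4
  obtain ⟨c⟩ := A.side₁.nonempty_crd hq
  have h2 : ((h : G) * z * (h : G)⁻¹) * ((h : G) * z * (h : G)⁻¹) = 1 := by
    have : ((h : G) * z * (h : G)⁻¹) * ((h : G) * z * (h : G)⁻¹) = h * (z * z) * (h : G)⁻¹ := by group
    rw [this, hzz, mul_one, mul_inv_cancel]
  -- conjugate into `V₁ ∩ V₂`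
  have h3 : ∃ x ∈ H, x * z * x⁻¹ ∈ A.V₁ ⊓ A.V₂ := by
    rcases Side.inv_mem c h1 h2 with h4 | h4
    · obtain ⟨x, hx, hx'⟩ := conj_D A hq h4
      refine ⟨x * h, H.mul_mem (hG0 (Subgroup.mem_sup_left hx)) h.2, ?_⟩
      have : x * (h : G) * z * (x * (h : G))⁻¹ = x * ((h : G) * z * (h : G)⁻¹) * x⁻¹ := by group
      rwa [this]
    · obtain ⟨x, hx, hx'⟩ := conj_D A.swap hq h4
      refine ⟨x * h, H.mul_mem (hG0 (Subgroup.mem_sup_right hx)) h.2, ?_⟩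
      have : x * (h : G) * z * (x * (h : G))⁻¹ = x * ((h : G) * z * (h : G)⁻¹) * x⁻¹ := by group
      rw [this]
      exact ⟨hx'.2, hx'.1⟩
  obtain ⟨x, hxH, hx⟩ := h3
  have hne : x * z * x⁻¹ ≠ 1 := by
    intro h4
    apply hz1
    have : z = x⁻¹ * (x * z * x⁻¹) * x := by group
    rw [this, h4]
    group
  have h5 := cent_D_le A hq hc hx hne
  have h6 : x * g * x⁻¹ ∈ H := by
    apply h5
    rw [Subgroup.mem_centralizer_singleton_iff]
    have e1 : x * g * x⁻¹ * (x * z * x⁻¹) = x * (g * z) * x⁻¹ := by group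
    have e2 : x * z * x⁻¹ * (x * g * x⁻¹) = x * (z * g) * x⁻¹ := by group
    rw [e1, e2, hg]
  have h7 := H.mul_mem (H.mul_mem (H.inv_mem hxH) h6) hxH
  have e3 : x⁻¹ * (x * g * x⁻¹) * x = g := by group
  rwa [e3] at h7

theorem G0_eq_top [IsSimpleGroup G] (hq : 4 ≤ Nat.card F) (hc : Cond A.toAmalgam) : G0 A = ⊤ := by
  obtain ⟨z₁, hz₁, hz₁'⟩ := A.side₁.exists_mem_Z_ne hq
  obtain ⟨z₂, hz₂, hz₂'⟩ := A.side₂.exists_mem_Z_ne hq
  have hG0 : G0 A ≤ Subgroup.normalizer (G0 A : Set G) := Subgroup.le_normalizer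
  have hz₁V : z₁ ∈ A.V₁ := A.side₁.Z_le hz₁
  have hz₂V : z₂ ∈ A.V₂ := A.side₂.Z_le hz₂
  have h1 : Subgroup.normalizer (G0 A : Set G) = ⊤ := by
    refine eq_top_of_cent _ (hG0 (Subgroup.mem_sup_left (A.V₁_le_X₁ hz₁V))) (A.sq₁ _ hz₁V) hz₁'
      (hG0 (Subgroup.mem_sup_right (A.V₂_le_X₂ hz₂V))) (A.sq₂ _ hz₂V) hz₂'
      (fun z hz hzz hz1 g hg => cent_inv_le A hq hc hz hzz hz1 hg)
      (fun g => not_conj A hq hc hz₁ hz₂ hz₁' g)
  have h2 : (G0 A).Normal := Subgroup.normalizer_eq_top_iff.1 h1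
  rcases h2.eq_bot_or_eq_top with h | h
  · exfalso
    apply hz₁'
    have : z₁ ∈ G0 A := Subgroup.mem_sup_left (A.V₁_le_X₁ hz₁V)
    rwa [h, Subgroup.mem_bot] at this
  · exact h

end sylow

theorem sup_eq_top [Finite F] [CharP F 2] [Finite G] [IsSimpleGroup G] (hq : 4 ≤ Nat.card F) (A : Amalgam F G)
    (hc : Cond A) : A.X₁ ⊔ A.X₂ = ⊤ := by
  obtain ⟨N, h1, h2, h3, h4⟩ := exists_NAm A hc.disj
  have h5 : Cond N.toAmalgam := by
    intro z hz hz1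
    rw [h1, h2] at hz ⊢
    exact hc z hz hz1
  have h6 := G0_eq_top N hq h5
  unfold G0 at h6
  rwa [h3, h4] at h6

theorem V_le_of [CharP F 2] {ψ : SpecialLinearGroup (Fin 2) F →* G} {V Z Q : Subgroup G} {e : G → Fin 2 → F}
    (n : Sp4Braid.NatMod ψ V Z e) (hconj : ∀ g, ∀ x ∈ V, ψ g * x * (ψ g)⁻¹ ∈ V) (hψ : ∀ g, ψ g ∈ Q)
    (hZ : Z ≤ Q) (hne : ∃ x ∈ Q ⊓ V, x ∉ Z) : V ≤ Q := by
  have h1 := Sp4Braid.irr n (Q ⊓ V) inf_le_right (fun g x hx =>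
    ⟨Q.mul_mem (Q.mul_mem (hψ g) hx.1) (Q.inv_mem (hψ g)), hconj g x hx.2⟩) (by
    obtain ⟨x, hx, hxZ⟩ := hne
    exact ⟨x, hx, fun h => hxZ ((n.zero x hx.2).1 h)⟩)
  intro v hv
  obtain ⟨x, hx, hxv⟩ := h1 (e v)
  have h2 : v * x⁻¹ ∈ Z := by
    rw [← n.zero _ (V.mul_mem hv (V.inv_mem hx.2)), n.mul v hv _ (V.inv_mem hx.2), n.inv hx.2, hxv]
    simp
  have := Q.mul_mem (hZ h2) hx.1
  simpa using this

/-- The frame together with the braid relation and generation. -/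
theorem exists_braided_frame [Finite F] [CharP F 2] [Finite G] [IsSimpleGroup G] (hq : 4 ≤ Nat.card F)
    (A : Amalgam F G) (hc : Cond A) :
    ∃ (A' : Amalgam F G) (Fr : Frame F G), A'.V₁ = A.V₁ ∧ A'.V₂ = A.V₂ ∧ A'.X₁ = A.X₁ ∧ A'.X₂ = A.X₂ ∧
      Fr.Z₁ = A'.V₁ ⊓ Subgroup.centralizer (A'.X₁ : Set G) ∧
      Fr.Z₂ = A'.V₂ ⊓ Subgroup.centralizer (A'.X₂ : Set G) ∧
      (∀ g, ∃ h : Fr.ψ₁ g ∈ A'.X₁, A'.φ₁ ⟨Fr.ψ₁ g, h⟩ = g) ∧
      (∀ g, ∃ h : Fr.ψ₂ g ∈ A'.X₂, A'.φ₂ ⟨Fr.ψ₂ g, h⟩ = g) ∧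
      (∀ t, Fr.ψ₁ (u t) ∈ A'.V₂) ∧ (∀ t, Fr.ψ₂ (u t) ∈ A'.V₁) ∧
      (∀ m g, ∃ g', Fr.ψ₂ (d m) * Fr.ψ₁ g * (Fr.ψ₂ (d m))⁻¹ = Fr.ψ₁ g') ∧
      (∀ m g, ∃ g', Fr.ψ₁ (d m) * Fr.ψ₂ g * (Fr.ψ₁ (d m))⁻¹ = Fr.ψ₂ g') ∧
      (∃ e₁, Sp4Braid.NatMod Fr.ψ₁ A'.V₁ Fr.Z₁ e₁) ∧ (∃ e₂, Sp4Braid.NatMod Fr.ψ₂ A'.V₂ Fr.Z₂ e₂) ∧
      Commute (Fr.ψ₂ (w F)) (Fr.ψ₁ (w F) * Fr.ψ₂ (w F) * Fr.ψ₁ (w F)) ∧
      (∀ Q : Subgroup G, (∀ g, Fr.ψ₁ g ∈ Q) → (∀ g, Fr.ψ₂ g ∈ Q) → Q = ⊤) := by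
  obtain ⟨A', Fr, h1, h2, h3, h4, hZ₁, hZ₂, hX₁, hX₂, ha, hb, norm₁, norm₂, ⟨e₁, m1, m2, _, m4⟩,
    ⟨e₂, n1, n2, _, n4⟩⟩ := Sp4Frame.exists_frame hq A hc.disj
  have hc' : Cond A' := by
    intro z hz hz1
    rw [h1, h2] at hz ⊢
    exact hc z hz hz1
  have nm₁ : Sp4Braid.NatMod Fr.ψ₁ A'.V₁ Fr.Z₁ e₁ := ⟨m1, m2, m4⟩
  have nm₂ : Sp4Braid.NatMod Fr.ψ₂ A'.V₂ Fr.Z₂ e₂ := ⟨n1, n2, n4⟩
  have hbr := Sp4Braid.braid_of_amalgam hq A' Fr hX₁ hX₂ hZ₂ ha hb e₁ e₂ nm₁ nm₂ norm₁ norm₂ (by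
    intro z hz hz1
    rw [hZ₂] at hz
    exact hc'.cent₂ hz hz1)
  refine ⟨A', Fr, h1, h2, h3, h4, hZ₁, hZ₂, hX₁, hX₂, ha, hb, norm₁, norm₂, ⟨e₁, nm₁⟩, ⟨e₂, nm₂⟩, hbr, ?_⟩
  intro Q hQ1 hQ2
  have hconj₁ : ∀ x ∈ A'.X₁, ∀ v ∈ A'.V₁, x * v * x⁻¹ ∈ A'.V₁ := by
    intro x hx v hv
    have k1 : (⟨v, A'.V₁_le_X₁ hv⟩ : ↥A'.X₁) ∈ A'.φ₁.ker := by rw [A'.ker₁]; exact hv
    have k2 := (inferInstance : A'.φ₁.ker.Normal).conj_mem _ k1 ⟨x, hx⟩
    rw [A'.ker₁] at k2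
    exact k2
  have hconj₂ : ∀ x ∈ A'.X₂, ∀ v ∈ A'.V₂, x * v * x⁻¹ ∈ A'.V₂ := by
    intro x hx v hv
    have k1 : (⟨v, A'.V₂_le_X₂ hv⟩ : ↥A'.X₂) ∈ A'.φ₂.ker := by rw [A'.ker₂]; exact hv
    have k2 := (inferInstance : A'.φ₂.ker.Normal).conj_mem _ k1 ⟨x, hx⟩
    rw [A'.ker₂] at k2
    exact k2
  have hne : u (1 : F) ≠ 1 := by
    intro h
    rw [← Side.u_zero] at h
    exact one_ne_zero (Side.u_inj h)
  have hZQ₁ : Fr.Z₁ ≤ Q := by
    intro z hz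
    obtain ⟨t, rfl⟩ := (Fr.mem_Z₁ z).1 hz
    exact Q.mul_mem (Q.mul_mem (hQ2 _) (hQ1 _)) (hQ2 _)
  have hZQ₂ : Fr.Z₂ ≤ Q := by
    intro z hz
    obtain ⟨t, rfl⟩ := (Fr.mem_Z₂ z).1 hz
    exact Q.mul_mem (Q.mul_mem (hQ1 _) (hQ2 _)) (hQ1 _)
  have hV₁ : A'.V₁ ≤ Q := by
    refine V_le_of nm₁ (fun g x hx => hconj₁ _ (hX₁ g).1 x hx) hQ1 hZQ₁ ⟨Fr.ψ₂ (u 1), ⟨hQ2 _, hb 1⟩, ?_⟩
    intro h
    rw [hZ₁] at h
    have k1 := (Z₁_le h).2
    obtain ⟨k2, k3⟩ := hX₂ (u 1)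
    have k4 : (⟨Fr.ψ₂ (u 1), k2⟩ : ↥A'.X₂) ∈ A'.φ₂.ker := by rw [A'.ker₂]; exact k1
    rw [MonoidHom.mem_ker, k3] at k4
    exact hne k4
  have hV₂ : A'.V₂ ≤ Q := by
    refine V_le_of nm₂ (fun g x hx => hconj₂ _ (hX₂ g).1 x hx) hQ2 hZQ₂ ⟨Fr.ψ₁ (u 1), ⟨hQ1 _, ha 1⟩, ?_⟩
    intro h
    rw [hZ₂] at h
    have k1 := (Z₁_le (A := Amalgam.swap A') h).2
    obtain ⟨k2, k3⟩ := hX₁ (u 1)
    have k4 : (⟨Fr.ψ₁ (u 1), k2⟩ : ↥A'.X₁) ∈ A'.φ₁.ker := by rw [A'.ker₁]; exact k1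
    rw [MonoidHom.mem_ker, k3] at k4
    exact hne k4
  have hXQ₁ : A'.X₁ ≤ Q := by
    intro x hx
    obtain ⟨k2, k3⟩ := hX₁ (A'.φ₁ ⟨x, hx⟩)
    have k4 : (⟨x, hx⟩ * ⟨Fr.ψ₁ (A'.φ₁ ⟨x, hx⟩), k2⟩⁻¹ : ↥A'.X₁) ∈ A'.φ₁.ker := by
      rw [MonoidHom.mem_ker, map_mul, map_inv, k3, mul_inv_cancel]
    rw [A'.ker₁] at k4
    have k5 := Q.mul_mem (hV₁ k4) (hQ1 (A'.φ₁ ⟨x, hx⟩))
    simpa using k5
  have hXQ₂ : A'.X₂ ≤ Q := by
    intro x hx
    obtain ⟨k2, k3⟩ := hX₂ (A'.φ₂ ⟨x, hx⟩)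
    have k4 : (⟨x, hx⟩ * ⟨Fr.ψ₂ (A'.φ₂ ⟨x, hx⟩), k2⟩⁻¹ : ↥A'.X₂) ∈ A'.φ₂.ker := by
      rw [MonoidHom.mem_ker, map_mul, map_inv, k3, mul_inv_cancel]
    rw [A'.ker₂] at k4
    have k5 := Q.mul_mem (hV₂ k4) (hQ2 (A'.φ₂ ⟨x, hx⟩))
    simpa using k5
  rw [eq_top_iff, ← sup_eq_top hq A' hc']
  exact sup_le hXQ₁ hXQ₂

end Cfsg.Agent.ClassTwo.Sp4Final
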