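import Mathlib
import Cfsg.Agent.ClassTwo.Sp4Final
import Cfsg.Agent.Classification.SpFourFrame

/-!
# Recognition of `PSp₄(F)`, `F` finite of characteristic two, `|F| ≥ 4`, from the amalgam of the two minimal parabolics
-/

set_option autoImplicit false

namespace Cfsg.Agent.ClassTwo.Sp4Main

open Cfsg.Agent.ClassTwo.Sp4Defs Cfsg.Agent.ClassTwo.Sp4Final

/-- **Recognition of `PSp₄(q)`, `q = 2ⁿ ≥ 4`.** -/
theorem nonempty_psp {F G : Type*} [Field F] [Group G] [Finite F] [CharP F 2] [Finite G] [IsSimpleGroup G]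
    (hq : 4 ≤ Nat.card F) (A : Amalgam F G) (hc : Cond A) : Nonempty (G ≃* Cfsg.PSp 2 F) := by
  obtain ⟨A', Fr, -, -, -, -, -, -, -, -, -, -, -, -, -, -, hbr, hgen⟩ := exists_braided_frame hq A hc
  exact Cfsg.Agent.Classification.SpFourFrame.nonempty_psp (by omega) Fr hbr hgen

end Cfsg.Agent.ClassTwo.Sp4Main
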