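/-
One edge of the fusion graph of a 2-group of class two: natural coordinates on `V/C`, with cores
(`V = E₁`, `V' = E₂`, `C = C_V(X)`, the kernel of `φ : X → SL(2,F)` is `C_X(V)`).
-/
import Mathlib
import Cfsg.Agent.ClassTwo.Sp4Defs
import Cfsg.Agent.ClassTwo.Sp4SL2
import Cfsg.Agent.ClassicalGeometry.PSL2Basic

set_option autoImplicit false

namespace Cfsg.Agent.ClassTwo.EdgeSide

open Cfsg.Agent.ClassTwo.Sp4Defs
open Matrix (SpecialLinearGroup)
open scoped Matrix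

/-- One side of an edge. -/
structure Side (F G : Type*) [Field F] [Group G] where
  V : Subgroup G
  V' : Subgroup G
  X : Subgroup G
  φ : ↥X →* SpecialLinearGroup (Fin 2) F
  surj : Function.Surjective φ
  ker : ∀ x, φ x = 1 ↔ (x : G) ∈ Subgroup.centralizer (V : Set G)
  V_le : V ≤ X
  V'_le : V' ≤ X
  X_le : X ≤ Subgroup.normalizer (V : Set G)
  sq : ∀ x ∈ V, x * x = 1
  sq' : ∀ x ∈ V', x * x = 1
  card : Nat.card ↥V = Nat.card F * Nat.card ↥(V ⊓ V')
  card' : Nat.card ↥V' = Nat.card F * Nat.card ↥(V ⊓ V')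
  cardZ : Nat.card F * Nat.card ↥(V ⊓ Subgroup.centralizer (X : Set G)) = Nat.card ↥(V ⊓ V')
  cent : ∀ x ∈ V', x ∈ Subgroup.centralizer (V : Set G) → x ∈ V
  cent' : ∀ x ∈ V, x ∈ Subgroup.centralizer (V' : Set G) → x ∈ V'
  hU : ∀ x (hx : x ∈ V'), ∃ t : F, φ ⟨x, V'_le hx⟩ = u t
  nrm' : ∀ v ∈ V, ∀ x ∈ V', v * x * v⁻¹ ∈ V'

variable {F G : Type*} [Field F] [Group G]

namespace Side

variable (T : Side F G)

/-- the centre of `X` -/
def Z : Subgroup G := T.V ⊓ Subgroup.centralizer (T.X : Set G)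

theorem mul_comm_of_sq {H : Subgroup G} (h : ∀ x ∈ H, x * x = 1) {a b : G} (ha : a ∈ H) (hb : b ∈ H) :
    a * b = b * a := by
  have h1 := h (a * b) (H.mul_mem ha hb)
  have ha' : a⁻¹ = a := inv_eq_of_mul_eq_one_left (h a ha)
  have hb' : b⁻¹ = b := inv_eq_of_mul_eq_one_left (h b hb)
  have : (a * b)⁻¹ = a * b := inv_eq_of_mul_eq_one_left h1
  rw [← this, mul_inv_rev, ha', hb']

theorem comm {a b : G} (ha : a ∈ T.V) (hb : b ∈ T.V) : a * b = b * a := mul_comm_of_sq T.sq ha hb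

theorem comm' {a b : G} (ha : a ∈ T.V') (hb : b ∈ T.V') : a * b = b * a := mul_comm_of_sq T.sq' ha hb

theorem φ_eq_one {x : G} (hx : x ∈ T.X) : T.φ ⟨x, hx⟩ = 1 ↔ x ∈ Subgroup.centralizer (T.V : Set G) :=
  T.ker ⟨x, hx⟩

theorem V_le_cent {x : G} (hx : x ∈ T.V) : x ∈ Subgroup.centralizer (T.V : Set G) := by
  rw [Subgroup.mem_centralizer_iff]
  intro y hy
  exact T.comm hy hx

theorem φ_V {x : G} (hx : x ∈ T.V) : T.φ ⟨x, T.V_le hx⟩ = 1 := (T.φ_eq_one (T.V_le hx)).2 (T.V_le_cent hx)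

theorem φ_V' {x : G} (hx : x ∈ T.V') : T.φ ⟨x, T.V'_le hx⟩ = 1 ↔ x ∈ T.V := by
  rw [T.φ_eq_one]
  exact ⟨fun h => T.cent x hx h, fun h => T.V_le_cent h⟩

theorem conj_mem {x a : G} (hx : x ∈ T.X) (ha : a ∈ T.V) : x * a * x⁻¹ ∈ T.V :=
  (Subgroup.mem_normalizer_iff.1 (T.X_le hx) a).1 ha

theorem mem_Z {x : G} : x ∈ T.Z ↔ x ∈ T.V ∧ ∀ y ∈ T.X, y * x = x * y := by
  unfold Z
  rw [Subgroup.mem_inf, Subgroup.mem_centralizer_iff]
  rfl

theorem Z_le : T.Z ≤ T.V := inf_le_left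

theorem Z_le' : T.Z ≤ T.V' := by
  intro x hx
  apply T.cent' x hx.1
  rw [Subgroup.mem_centralizer_iff]
  intro y hy
  exact (T.mem_Z.1 hx).2 y (T.V'_le hy)

theorem card_Z : Nat.card F * Nat.card ↥T.Z = Nat.card ↥(T.V ⊓ T.V') := T.cardZ

theorem le_normalizer : T.X ≤ Subgroup.normalizer (T.V : Set G) := T.X_le

/-- the quotient `V/Z` -/
def N : Subgroup ↥T.V := T.Z.subgroupOf T.V

theorem mem_N {a : ↥T.V} : a ∈ T.N ↔ (a : G) ∈ T.Z := Subgroup.mem_subgroupOf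

/-- conjugation of `X` on `V` -/
def cj : ↥T.X →* MulAut ↥T.V :=
  (Subgroup.normalizerMonoidHom T.V).comp (Subgroup.inclusion T.le_normalizer)

theorem cj_apply (x : ↥T.X) (a : ↥T.V) : ((T.cj x a : ↥T.V) : G) = x * a * (x : G)⁻¹ := rfl

theorem cj_Z (x : ↥T.X) (a : ↥T.V) (ha : (a : G) ∈ T.Z) : T.cj x a = a := by
  apply Subtype.ext
  rw [cj_apply, (T.mem_Z.1 ha).2 x x.2, mul_inv_cancel_right]

instance normalN : T.N.Normal := by
  constructor
  intro a ha g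
  rw [mem_N] at ha ⊢
  have : ((g * a * g⁻¹ : ↥T.V) : G) = a := by
    rw [Subgroup.coe_mul, Subgroup.coe_mul, T.comm g.2 a.2, mul_assoc]
    simp
  rw [this]
  exact ha

instance commGroupV : CommGroup ↥T.V :=
  { (inferInstance : Group ↥T.V) with
    mul_comm := fun a b => Subtype.ext (T.comm a.2 b.2) }

theorem map_cj (x : ↥T.X) : T.N.map (T.cj x : ↥T.V →* ↥T.V) = T.N := by
  ext a
  simp only [Subgroup.mem_map, MonoidHom.coe_coe]
  constructor
  · rintro ⟨b, hb, rfl⟩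
    rw [T.cj_Z x b (T.mem_N.1 hb)]
    exact hb
  · intro ha
    exact ⟨a, ha, T.cj_Z x a (T.mem_N.1 ha)⟩

/-- conjugation of `X` on `V/Z` -/
def α : ↥T.X →* MulAut (↥T.V ⧸ T.N) where
  toFun x := QuotientGroup.congr T.N T.N (T.cj x) (T.map_cj x)
  map_one' := by
    ext a
    induction a using QuotientGroup.induction_on with
    | H a => simp
  map_mul' x y := by
    ext a
    induction a using QuotientGroup.induction_on with
    | H a => simp

theorem α_mk (x : ↥T.X) (a : ↥T.V) : T.α x (QuotientGroup.mk a) = QuotientGroup.mk (T.cj x a) := rfl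

theorem ker_le : T.φ.ker ≤ T.α.ker := by
  intro x hx
  rw [MonoidHom.mem_ker] at hx ⊢
  have hxV : (x : G) ∈ Subgroup.centralizer (T.V : Set G) := (T.φ_eq_one x.2).1 hx
  ext a
  induction a using QuotientGroup.induction_on with
  | H a =>
    rw [α_mk]
    have : T.cj x a = a := by
      apply Subtype.ext
      rw [cj_apply, ← Subgroup.mem_centralizer_iff.1 hxV a a.2, mul_inv_cancel_right]
    rw [this]
    rfl

/-- the action of `SL(2,F)` on `V/Z` -/
noncomputable def ρ : SpecialLinearGroup (Fin 2) F →* MulAut (↥T.V ⧸ T.N) :=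
  T.φ.liftOfSurjective T.surj ⟨T.α, T.ker_le⟩

theorem ρ_φ (x : ↥T.X) : T.ρ (T.φ x) = T.α x := by
  unfold ρ
  simp

theorem u_mul (s t : F) : u (s + t) = u s * u t := by
  apply Subtype.ext
  rw [Matrix.SpecialLinearGroup.coe_mul]
  ext i j
  fin_cases i <;> fin_cases j <;> simp [u, Matrix.mul_apply, Fin.sum_univ_two, add_comm]

theorem u_inj {s t : F} (h : u s = u t) : s = t := by
  have := congrArg (fun g : SpecialLinearGroup (Fin 2) F => g.1 0 1) h
  simpa [u] using this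

theorem u_zero : u (0 : F) = 1 := by
  apply Subtype.ext
  ext i j
  fin_cases i <;> fin_cases j <;> simp [u]

/-- every `u t` comes from `V'` -/
theorem usurj [Finite F] [Finite G] (t : F) : ∃ x, ∃ hx : x ∈ T.V', T.φ ⟨x, T.V'_le hx⟩ = u t := by
  classical
  choose f hf using T.hU
  have hmul : ∀ a b : ↥T.V', f (a * b : ↥T.V') (a * b).2 = f a a.2 + f b b.2 := by
    intro a b
    apply u_inj
    rw [u_mul, ← hf, ← hf, ← hf, ← map_mul]
    rfl
  let g : ↥T.V' →* Multiplicative F :=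
    MonoidHom.mk' (fun a => Multiplicative.ofAdd (f a a.2)) (fun a b => by
      rw [hmul, ofAdd_add])
  have hker : g.ker = (T.V ⊓ T.V').subgroupOf T.V' := by
    ext a
    rw [MonoidHom.mem_ker, Subgroup.mem_subgroupOf, Subgroup.mem_inf]
    have h1 : g a = 1 ↔ f a a.2 = 0 := by
      change Multiplicative.ofAdd (f a a.2) = 1 ↔ _
      rw [ofAdd_eq_one]
    rw [h1]
    constructor
    · intro h
      refine ⟨?_, a.2⟩
      rw [← T.φ_V' a.2, hf _ a.2, h, u_zero]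
    · intro h
      apply u_inj
      rw [← hf, u_zero]
      exact (T.φ_V' a.2).2 h.1
  have hq : 0 < Nat.card F := Nat.card_pos
  have hD : 0 < Nat.card ↥(T.V ⊓ T.V') := Nat.card_pos
  have hcard : Nat.card g.range = Nat.card F := by
    have h1 := Subgroup.card_mul_index g.ker
    rw [Subgroup.index_ker, hker, T.card'] at h1
    have h2 : Nat.card ↥((T.V ⊓ T.V').subgroupOf T.V') = Nat.card ↥(T.V ⊓ T.V') :=
      Nat.card_congr (Subgroup.subgroupOfEquivOfLe inf_le_right).toEquiv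
    rw [h2, mul_comm (Nat.card F)] at h1
    exact Nat.eq_of_mul_eq_mul_left hD h1
  have htop : g.range = ⊤ := by
    apply Subgroup.eq_top_of_card_eq
    rw [hcard]
    exact Nat.card_congr Multiplicative.ofAdd
  obtain ⟨a, ha⟩ : Multiplicative.ofAdd t ∈ g.range := by rw [htop]; trivial
  refine ⟨a, a.2, ?_⟩
  rw [hf _ a.2]
  congr 1

theorem D_le : T.V ⊓ T.V' ≤ T.V := inf_le_left

theorem card_N : Nat.card ↥T.N = Nat.card ↥T.Z :=
  Nat.card_congr (Subgroup.subgroupOfEquivOfLe T.Z_le).toEquiv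

theorem card_quot [Finite F] [Finite G] : Nat.card (↥T.V ⧸ T.N) = Nat.card F ^ 2 := by
  have hZ : 0 < Nat.card ↥T.Z := Nat.card_pos
  have h := Subgroup.card_eq_card_quotient_mul_card_subgroup T.N
  rw [T.card, T.card_N, ← T.card_Z] at h
  have : Nat.card (↥T.V ⧸ T.N) * Nat.card ↥T.Z = Nat.card F ^ 2 * Nat.card ↥T.Z := by rw [← h]; ring
  exact Nat.eq_of_mul_eq_mul_right hZ this

/-- the image of `V ∩ V'` in `V/Z` -/
def M0 : Subgroup (↥T.V ⧸ T.N) := ((T.V ⊓ T.V').subgroupOf T.V).map (QuotientGroup.mk' T.N)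

theorem card_M0 [Finite F] [Finite G] : Nat.card ↥T.M0 = Nat.card F := by
  have hZ : 0 < Nat.card ↥T.Z := Nat.card_pos
  unfold M0
  rw [← Subgroup.relIndex_ker, QuotientGroup.ker_mk']
  have h1 := Subgroup.relIndex_mul_relIndex ⊥ T.N ((T.V ⊓ T.V').subgroupOf T.V) bot_le (by
    intro a ha
    rw [Subgroup.mem_subgroupOf]
    exact ⟨a.2, T.Z_le' (T.mem_N.1 ha)⟩)
  rw [Subgroup.relIndex_bot_left, Subgroup.relIndex_bot_left, T.card_N] at h1
  have h2 : Nat.card ↥((T.V ⊓ T.V').subgroupOf T.V) = Nat.card ↥T.Z * Nat.card F := by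
    rw [mul_comm, T.card_Z]
    exact Nat.card_congr (Subgroup.subgroupOfEquivOfLe inf_le_left).toEquiv
  rw [h2] at h1
  exact Nat.eq_of_mul_eq_mul_left hZ h1

theorem mem_M0 (a : ↥T.V) : (QuotientGroup.mk a : ↥T.V ⧸ T.N) ∈ T.M0 ↔ (a : G) ∈ T.V' := by
  unfold M0
  rw [Subgroup.mem_map]
  constructor
  · rintro ⟨b, hb, hab⟩
    have : b⁻¹ * a ∈ T.N := QuotientGroup.eq.1 hab
    rw [mem_N] at this
    have h2 := T.Z_le' this
    have h3 : (b : G) ∈ T.V' := (Subgroup.mem_subgroupOf.1 hb).2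
    have h4 := T.V'.mul_mem h3 h2
    simpa using h4
  · intro h
    exact ⟨a, Subgroup.mem_subgroupOf.2 ⟨a.2, h⟩, rfl⟩

theorem comm_mem {x v : G} (hx : x ∈ T.V') (hv : v ∈ T.V) : x * v * x⁻¹ * v⁻¹ ∈ T.V ⊓ T.V' := by
  constructor
  · exact T.V.mul_mem (T.conj_mem (T.V'_le hx) hv) (T.V.inv_mem hv)
  · have : x * v * x⁻¹ * v⁻¹ = x * (v * x⁻¹ * v⁻¹) := by group
    rw [this]
    exact T.V'.mul_mem hx (T.nrm' v hv _ (T.V'.inv_mem hx))

/-- a fixed point of `X` on `V/Z` is trivial -/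
theorem fixed_mem_Z [Finite F] [CharP F 2] (hq : 4 ≤ Nat.card F) {v : G} (hv : v ∈ T.V)
    (h : ∀ x ∈ T.X, x * v * x⁻¹ * v⁻¹ ∈ T.Z) : v ∈ T.Z := by
  classical
  let _ : CommGroup ↥T.Z :=
    { (inferInstance : Group ↥T.Z) with
      mul_comm := fun a b => Subtype.ext (T.comm (T.Z_le a.2) (T.Z_le b.2)) }
  let f : ↥T.X →* ↥T.Z := MonoidHom.mk' (fun x => ⟨x * v * (x : G)⁻¹ * v⁻¹, h x x.2⟩) (by
    intro a b
    apply Subtype.ext
    have h1 := (T.mem_Z.1 (h b b.2)).2 a a.2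
    have h2 : (b : G) * v * (b : G)⁻¹ * v⁻¹ = (a : G) * ((b : G) * v * (b : G)⁻¹ * v⁻¹) * (a : G)⁻¹ := by
      rw [h1, mul_inv_cancel_right]
    change (↑(a * b) : G) * v * (↑(a * b) : G)⁻¹ * v⁻¹ = (a * v * (a : G)⁻¹ * v⁻¹) * (b * v * (b : G)⁻¹ * v⁻¹)
    have h3 : (a * v * (a : G)⁻¹ * v⁻¹) * (b * v * (b : G)⁻¹ * v⁻¹)
        = (b * v * (b : G)⁻¹ * v⁻¹) * (a * v * (a : G)⁻¹ * v⁻¹) :=
      T.comm (T.Z_le (h a a.2)) (T.Z_le (h b b.2))
    rw [h3]
    nth_rewrite 1 [h2]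
    rw [Subgroup.coe_mul]
    group)
  have hker : T.φ.ker ≤ f.ker := by
    intro x hx
    rw [MonoidHom.mem_ker] at hx ⊢
    have hxV : (x : G) ∈ Subgroup.centralizer (T.V : Set G) := (T.φ_eq_one x.2).1 hx
    apply Subtype.ext
    change (x : G) * v * (x : G)⁻¹ * v⁻¹ = 1
    rw [← Subgroup.mem_centralizer_iff.1 hxV v hv]
    group
  have h1 : T.φ.liftOfSurjective T.surj ⟨f, hker⟩ = 1 := Sp4SL2.perfect hq _
  rw [mem_Z]
  refine ⟨hv, fun y hy => ?_⟩
  have h2 : (T.φ.liftOfSurjective T.surj ⟨f, hker⟩) (T.φ ⟨y, hy⟩) = f ⟨y, hy⟩ := by simp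
  rw [h1] at h2
  have h3 : y * v * y⁻¹ * v⁻¹ = 1 := (congrArg Subtype.val h2).symm
  rw [mul_inv_eq_one, mul_inv_eq_iff_eq_mul] at h3
  exact h3

theorem exists_nat [Finite F] [CharP F 2] [Finite G] (hq : 4 ≤ Nat.card F) :
    ∃ e : ↥T.V → (Fin 2 → F), Function.Surjective e ∧ (∀ a b, e (a * b) = e a + e b) ∧
      (∀ a, e a = 0 ↔ (a : G) ∈ T.Z) ∧ ∀ (x : ↥T.X) a, e (T.cj x a) = (T.φ x).1 *ᵥ e a := by
  obtain ⟨e, he, hadd, heq⟩ := Sp4SL2.mod T.ρ T.M0 (by
      intro t m hm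
      induction m using QuotientGroup.induction_on with
      | H a =>
        rw [mem_M0] at hm
        obtain ⟨x, hx, hxt⟩ := T.usurj t
        rw [← hxt, ρ_φ, α_mk]
        congr 1
        apply Subtype.ext
        rw [cj_apply]
        change x * (a : G) * x⁻¹ = a
        rw [T.comm' hx hm, mul_inv_cancel_right]) (by
      intro t m
      induction m using QuotientGroup.induction_on with
      | H a =>
        obtain ⟨x, hx, hxt⟩ := T.usurj t
        rw [← hxt, ρ_φ, α_mk, ← QuotientGroup.mk_inv, ← QuotientGroup.mk_mul, mem_M0]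
        exact (T.comm_mem hx a.2).2) T.card_quot T.card_M0 (by
      intro m hm
      induction m using QuotientGroup.induction_on with
      | H a =>
        rw [QuotientGroup.eq_one_iff, mem_N]
        apply T.fixed_mem_Z hq a.2
        intro x hx
        have := hm (T.φ ⟨x, hx⟩)
        rw [ρ_φ, α_mk, ← mul_inv_eq_one, ← QuotientGroup.mk_inv, ← QuotientGroup.mk_mul,
          QuotientGroup.eq_one_iff, mem_N] at this
        exact this)
  refine ⟨fun a => e (QuotientGroup.mk a), ?_, ?_, ?_, ?_⟩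
  · exact he.2.comp QuotientGroup.mk_surjective
  · intro a b
    exact hadd (QuotientGroup.mk a) (QuotientGroup.mk b)
  · intro a
    have h0 : e 1 = 0 := by
      have := hadd 1 1
      rw [mul_one] at this
      exact left_eq_add.1 this
    rw [← T.mem_N, ← QuotientGroup.eq_one_iff]
    constructor
    · intro h
      exact he.1 (h.trans h0.symm)
    · intro h
      change e (QuotientGroup.mk a) = 0
      rw [h, h0]
  · intro x a
    change e (QuotientGroup.mk (T.cj x a)) = _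
    rw [← α_mk, ← ρ_φ, heq]

/-! ### The Sylow subgroup `S = VV'` -/

/-- the Sylow subgroup -/
def S : Subgroup G := T.V ⊔ T.V'

theorem mem_S {x : G} : x ∈ T.S ↔ ∃ v ∈ T.V, ∃ y ∈ T.V', v * y = x := by
  unfold S
  constructor
  · intro hx
    rw [Subgroup.sup_eq_closure] at hx
    induction hx using Subgroup.closure_induction with
    | mem x hx =>
      rcases hx with hx | hx
      · exact ⟨x, hx, 1, T.V'.one_mem, mul_one _⟩
      · exact ⟨1, T.V.one_mem, x, hx, one_mul _⟩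
    | one => exact ⟨1, T.V.one_mem, 1, T.V'.one_mem, mul_one _⟩
    | mul a b _ _ ha hb =>
      obtain ⟨v, hv, y, hy, rfl⟩ := ha
      obtain ⟨v2, hv2, y2, hy2, rfl⟩ := hb
      refine ⟨v * (y * v2 * y⁻¹), T.V.mul_mem hv (T.conj_mem (T.V'_le hy) hv2), y * y2,
        T.V'.mul_mem hy hy2, ?_⟩
      group
    | inv a _ ha =>
      obtain ⟨v, hv, y, hy, rfl⟩ := ha
      have h1 := T.conj_mem (T.V'_le (T.V'.inv_mem hy)) (T.V.inv_mem hv)
      exact ⟨_, h1, y⁻¹, T.V'.inv_mem hy, by group⟩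
  · rintro ⟨v, hv, y, hy, rfl⟩
    exact Subgroup.mul_mem _ (Subgroup.mem_sup_left hv) (Subgroup.mem_sup_right hy)

theorem S_le : T.S ≤ T.X := sup_le T.V_le T.V'_le

/-- coordinates on `V/Z` -/
structure Crd where
  e : ↥T.V → (Fin 2 → F)
  surj : Function.Surjective e
  mul : ∀ a b, e (a * b) = e a + e b
  eq_zero : ∀ a, e a = 0 ↔ (a : G) ∈ T.Z
  act : ∀ (x : ↥T.X) a, e (T.cj x a) = (T.φ x).1 *ᵥ e a

theorem nonempty_crd [Finite F] [CharP F 2] [Finite G] (hq : 4 ≤ Nat.card F) : Nonempty T.Crd := by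
  obtain ⟨e, h1, h2, h3, h4⟩ := T.exists_nat hq
  exact ⟨⟨e, h1, h2, h3, h4⟩⟩

variable {T}

theorem Crd.one (c : T.Crd) : c.e 1 = 0 := (c.eq_zero 1).2 T.Z.one_mem

theorem Crd.inv (c : T.Crd) (a : ↥T.V) : c.e a⁻¹ = - c.e a := by
  have := c.mul a a⁻¹
  rw [mul_inv_cancel, c.one] at this
  exact (neg_eq_of_add_eq_zero_right this.symm).symm

theorem u_mulVec (t : F) (x : Fin 2 → F) : (u t).1 *ᵥ x = ![x 0 + t * x 1, x 1] := by
  ext i
  fin_cases i <;> simp [u, Matrix.mulVec, dotProduct, Fin.sum_univ_two]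

/-- conjugation acts through `φ` -/
theorem Crd.conj (c : T.Crd) {x v : G} (hx : x ∈ T.X) (hv : v ∈ T.V) (h : x * v * x⁻¹ ∈ T.V) :
    c.e ⟨x * v * x⁻¹, h⟩ = (T.φ ⟨x, hx⟩).1 *ᵥ c.e ⟨v, hv⟩ := by
  rw [← c.act]
  rfl

theorem Crd.eq_iff (c : T.Crd) (a b : ↥T.V) : c.e a = c.e b ↔ (a : G)⁻¹ * b ∈ T.Z := by
  have h1 := c.eq_zero (a⁻¹ * b)
  rw [c.mul, c.inv, neg_add_eq_zero] at h1
  exact h1

theorem Crd.snd_eq_zero [Finite F] [Finite G] (c : T.Crd) {v : G} (hv : v ∈ T.V) (hv' : v ∈ T.V') :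
    c.e ⟨v, hv⟩ 1 = 0 := by
  obtain ⟨x, hx, hxt⟩ := T.usurj 1
  have h2 : x * v * x⁻¹ = v := by rw [T.comm' hx hv', mul_inv_cancel_right]
  have h1 := c.conj (T.V'_le hx) hv (by rw [h2]; exact hv)
  rw [hxt, u_mulVec] at h1
  simp only [h2] at h1
  have h3 := congrFun h1 0
  simp at h3
  exact h3

theorem Crd.mem_V' [Finite F] [Finite G] (c : T.Crd) {v : G} (hv : v ∈ T.V) (h : c.e ⟨v, hv⟩ 1 = 0) :
    v ∈ T.V' := by
  -- the map `D → F`
  let g : ↥(T.V ⊓ T.V') →* Multiplicative F :=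
    MonoidHom.mk' (fun a => Multiplicative.ofAdd (c.e ⟨a, a.2.1⟩ 0)) (fun a b => by
      have := c.mul ⟨a, a.2.1⟩ ⟨b, b.2.1⟩
      have h3 := congrFun this 0
      rw [Pi.add_apply] at h3
      rw [← ofAdd_add, ← h3]
      rfl)
  have hg : ∀ a, g a = Multiplicative.ofAdd (c.e ⟨a, a.2.1⟩ 0) := fun _ => rfl
  have hker : g.ker = T.Z.subgroupOf (T.V ⊓ T.V') := by
    ext a
    rw [MonoidHom.mem_ker, Subgroup.mem_subgroupOf, hg, ofAdd_eq_one]
    have h0 := c.snd_eq_zero a.2.1 a.2.2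
    have h1 := c.eq_zero ⟨a, a.2.1⟩
    rw [← h1]
    constructor
    · intro h
      ext i
      fin_cases i
      · exact h
      · exact h0
    · intro h
      rw [h]
      rfl
  have hZ : 0 < Nat.card ↥T.Z := Nat.card_pos
  have hcard : Nat.card g.range = Nat.card F := by
    have h1 := Subgroup.card_mul_index g.ker
    rw [Subgroup.index_ker, hker, ← T.card_Z] at h1
    have h2 : Nat.card ↥(T.Z.subgroupOf (T.V ⊓ T.V')) = Nat.card ↥T.Z :=
      Nat.card_congr (Subgroup.subgroupOfEquivOfLe (le_inf T.Z_le T.Z_le')).toEquiv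
    rw [h2, mul_comm (Nat.card F)] at h1
    exact Nat.eq_of_mul_eq_mul_left hZ h1
  have htop : g.range = ⊤ := by
    apply Subgroup.eq_top_of_card_eq
    rw [hcard]
    exact Nat.card_congr Multiplicative.ofAdd
  obtain ⟨a, ha⟩ : Multiplicative.ofAdd (c.e ⟨v, hv⟩ 0) ∈ g.range := by rw [htop]; trivial
  rw [hg] at ha
  have ha' : c.e ⟨a, a.2.1⟩ 0 = c.e ⟨v, hv⟩ 0 := ha
  have h5 : c.e ⟨a, a.2.1⟩ = c.e ⟨v, hv⟩ := by
    ext i
    fin_cases i
    · exact ha'
    · rw [show (⟨1, by norm_num⟩ : Fin 2) = 1 from rfl, c.snd_eq_zero a.2.1 a.2.2, h]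
  have h6 := T.Z_le' ((c.eq_iff _ _).1 h5)
  have h7 := T.V'.mul_mem a.2.2 h6
  simpa using h7

/-- an involution of `S` lies in `V` or in `V'` -/
theorem inv_mem [Finite F] [CharP F 2] [Finite G] (c : T.Crd) {x : G} (hx : x ∈ T.S) (h : x * x = 1) :
    x ∈ T.V ∨ x ∈ T.V' := by
  obtain ⟨v, hv, y, hy, rfl⟩ := T.mem_S.1 hx
  by_cases hyV : y ∈ T.V
  · left; exact T.V.mul_mem hv hyV
  · right
    apply T.V'.mul_mem _ hy
    obtain ⟨t, ht⟩ := T.hU y hy
    have ht0 : t ≠ 0 := by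
      rintro rfl
      rw [u_zero, T.φ_V' hy] at ht
      exact hyV ht
    apply c.mem_V' hv
    have hy1 : y⁻¹ = y := inv_eq_of_mul_eq_one_left (T.sq' y hy)
    have hv1 : v⁻¹ = v := inv_eq_of_mul_eq_one_left (T.sq v hv)
    have h2 : y * v * y⁻¹ = v := by
      have h3 : y * v * y = v⁻¹ := by
        rw [eq_inv_iff_mul_eq_one]
        have : v * (y * v * y * v) * v⁻¹ = 1 := by
          have h4 : v * (y * v * y * v) * v⁻¹ = (v * y) * (v * y) := by group
          rw [h4, h]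
        have h5 := congrArg (fun z => v⁻¹ * z * v) this
        simpa [mul_assoc] using h5
      rw [hy1, h3, hv1]
    have h1 := c.conj (T.V'_le hy) hv (by rw [h2]; exact hv)
    rw [ht, u_mulVec] at h1
    simp only [h2] at h1
    have h3 := congrFun h1 0
    simp at h3
    exact h3.resolve_left ht0


end Side

end Cfsg.Agent.ClassTwo.EdgeSide
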