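/-
Coordinates on one side of an edge: the maps `b : V → F`, `a : V ∩ V' → F`, `t : V' → F` and the torus.
-/
import Mathlib
import Cfsg.Agent.ClassTwo.EdgeSide
import Cfsg.Agent.ClassTwo.Sp4Final

set_option autoImplicit false

namespace Cfsg.Agent.ClassTwo.EdgeSide

open Cfsg.Agent.ClassTwo.Sp4Defs
open Matrix (SpecialLinearGroup)
open scoped Matrix

variable {F G : Type*} [Field F] [Group G]

/-- an additive section of a surjective map from an elementary abelian group to a field of characteristic two -/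
theorem exists_section {V : Type*} [Group V] (hV : ∀ v : V, v * v = 1) [CharP F 2] (f : V → F)
    (hf : ∀ a b, f (a * b) = f a + f b) (hs : Function.Surjective f) :
    ∃ x : F → V, (∀ a b, x (a + b) = x a * x b) ∧ ∀ a, f (x a) = a := by
  have hcomm : ∀ a b : V, a * b = b * a := by
    intro a b
    have h1 := hV a
    have h2 := hV b
    have h3 := hV (a * b)
    calc a * b = (a * b)⁻¹ := eq_inv_of_mul_eq_one_left h3
      _ = b⁻¹ * a⁻¹ := mul_inv_rev _ _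
      _ = b * a := by rw [← eq_inv_of_mul_eq_one_left h1, ← eq_inv_of_mul_eq_one_left h2]
  let _ : CommGroup V := { (inferInstance : Group V) with mul_comm := hcomm }
  let _ : Module (ZMod 2) (Additive V) := AddCommGroup.zmodModule (n := 2) (fun v => by
    rw [two_nsmul]
    exact congrArg Additive.ofMul (hV (Additive.toMul v)))
  let _ : Module (ZMod 2) F := AddCommGroup.zmodModule (n := 2) (fun v => by
    rw [two_nsmul]
    exact CharTwo.add_self_eq_zero v)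
  let g : Additive V →+ F :=
    { toFun := fun v => f (Additive.toMul v)
      map_zero' := by
        have := hf 1 1
        rw [mul_one] at this
        exact left_eq_add.1 this
      map_add' := fun a b => hf _ _ }
  obtain ⟨h, hh⟩ := LinearMap.exists_rightInverse_of_surjective (g.toZModLinearMap 2)
    (LinearMap.range_eq_top.2 (fun a => by
      obtain ⟨v, hv⟩ := hs a
      exact ⟨Additive.ofMul v, hv⟩))
  refine ⟨fun a => Additive.toMul (h a), ?_, ?_⟩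
  · intro a b
    change Additive.toMul (h (a + b)) = Additive.toMul (h a) * Additive.toMul (h b)
    rw [map_add]
    rfl
  · intro a
    exact congrArg (fun k : F →ₗ[ZMod 2] F => k a) hh

namespace Side

variable (T : Side F G)

/-- the parameter of the action of `y ∈ V'` on `V/Z` -/
noncomputable def t (y : ↥T.V') : F := (T.hU y y.2).choose

theorem t_spec (y : ↥T.V') : T.φ ⟨y, T.V'_le y.2⟩ = u (T.t y) := (T.hU y y.2).choose_spec

theorem t_eq {y : ↥T.V'} {s : F} (h : T.φ ⟨y, T.V'_le y.2⟩ = u s) : T.t y = s :=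
  u_inj ((T.t_spec y).symm.trans h)

theorem t_mul (a b : ↥T.V') : T.t (a * b) = T.t a + T.t b := by
  apply T.t_eq
  rw [u_mul, ← T.t_spec, ← T.t_spec, ← map_mul]
  rfl

theorem t_surj [Finite F] [Finite G] : Function.Surjective T.t := by
  intro s
  obtain ⟨x, hx, hxs⟩ := T.usurj s
  exact ⟨⟨x, hx⟩, T.t_eq hxs⟩

theorem t_eq_zero (y : ↥T.V') : T.t y = 0 ↔ (y : G) ∈ T.V := by
  rw [← T.φ_V' y.2]
  constructor
  · intro h
    rw [T.t_spec, h, u_zero]
  · intro h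
    apply T.t_eq
    rw [h, u_zero]

variable {T} (c : T.Crd)

/-- second coordinate -/
def Crd.b (v : ↥T.V) : F := c.e v 1

/-- first coordinate -/
def Crd.a (v : ↥T.V) : F := c.e v 0

theorem Crd.b_mul (v w : ↥T.V) : c.b (v * w) = c.b v + c.b w := by
  unfold Crd.b; rw [c.mul]; rfl

theorem Crd.a_mul (v w : ↥T.V) : c.a (v * w) = c.a v + c.a w := by
  unfold Crd.a; rw [c.mul]; rfl

theorem Crd.b_surj : Function.Surjective c.b := by
  intro s
  obtain ⟨v, hv⟩ := c.surj ![0, s]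
  exact ⟨v, by unfold Crd.b; rw [hv]; rfl⟩

theorem Crd.b_eq_zero [Finite F] [Finite G] (v : ↥T.V) : c.b v = 0 ↔ (v : G) ∈ T.V' :=
  ⟨fun h => c.mem_V' v.2 h, fun h => c.snd_eq_zero v.2 h⟩

theorem Crd.a_eq_zero [Finite F] [Finite G] (v : ↥T.V) (hv : (v : G) ∈ T.V') : c.a v = 0 ↔ (v : G) ∈ T.Z := by
  rw [← c.eq_zero]
  constructor
  · intro h
    ext i
    fin_cases i
    · exact h
    · exact c.snd_eq_zero v.2 hv
  · intro h
    unfold Crd.a
    rw [h]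
    rfl

theorem Crd.exists_a [Finite F] [Finite G] (s : F) : ∃ v : ↥T.V, (v : G) ∈ T.V' ∧ c.a v = s := by
  obtain ⟨v, hv⟩ := c.surj ![s, 0]
  refine ⟨v, ?_, by unfold Crd.a; rw [hv]; rfl⟩
  rw [← c.b_eq_zero]
  unfold Crd.b
  rw [hv]
  rfl

/-- the commutator in coordinates -/
theorem Crd.comm_mem (v : ↥T.V) (y : ↥T.V') : (y : G) * v * (y : G)⁻¹ * (v : G)⁻¹ ∈ T.V ⊓ T.V' :=
  Side.comm_mem T y.2 v.2

theorem Crd.a_comm (v : ↥T.V) (y : ↥T.V') :
    c.a ⟨(y : G) * v * (y : G)⁻¹ * (v : G)⁻¹, (Crd.comm_mem v y).1⟩ = T.t y * c.b v := by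
  have h1 : (y : G) * v * (y : G)⁻¹ ∈ T.V := T.conj_mem (T.V'_le y.2) v.2
  have h2 : (⟨(y : G) * v * (y : G)⁻¹ * (v : G)⁻¹, (Crd.comm_mem v y).1⟩ : ↥T.V)
      = ⟨(y : G) * v * (y : G)⁻¹, h1⟩ * v⁻¹ := rfl
  rw [h2, c.a_mul]
  have h3 := c.conj (T.V'_le y.2) v.2 h1
  have h4 : c.a ⟨(y : G) * v * (y : G)⁻¹, h1⟩ = c.a v + T.t y * c.b v := by
    unfold Crd.a
    rw [h3, T.t_spec y, u_mulVec]
    rfl
  have h5 : c.a v⁻¹ = - c.a v := by
    unfold Crd.a
    rw [c.inv]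
    rfl
  rw [h4, h5]
  ring

theorem d_mulVec (l : Fˣ) (x : Fin 2 → F) : (d l).1 *ᵥ x = ![(l : F) * x 0, (l⁻¹ : Fˣ) * x 1] := by
  ext i
  fin_cases i <;> simp [d, Matrix.mulVec, dotProduct, Fin.sum_univ_two]

theorem Crd.conj_torus {h : G} {l : Fˣ} (hh : h ∈ T.X) (hl : T.φ ⟨h, hh⟩ = d l) (v : ↥T.V)
    (hv : h * v * h⁻¹ ∈ T.V) : c.a ⟨h * v * h⁻¹, hv⟩ = l * c.a v ∧ c.b ⟨h * v * h⁻¹, hv⟩ = (l⁻¹ : Fˣ) * c.b v := by
  have h3 := c.conj hh v.2 hv
  unfold Crd.a Crd.b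
  rw [h3, hl, d_mulVec]
  exact ⟨rfl, rfl⟩

theorem t_torus {h : G} {l : Fˣ} (hh : h ∈ T.X) (hl : T.φ ⟨h, hh⟩ = d l) (y : ↥T.V')
    (hy : h * y * h⁻¹ ∈ T.V') : T.t ⟨h * y * h⁻¹, hy⟩ = (l : F) ^ 2 * T.t y := by
  apply T.t_eq
  have h1 : (⟨h * y * h⁻¹, T.V'_le hy⟩ : ↥T.X) = ⟨h, hh⟩ * ⟨y, T.V'_le y.2⟩ * (⟨h, hh⟩ : ↥T.X)⁻¹ := rfl
  rw [h1, map_mul, map_mul, map_inv, hl, T.t_spec y, Sp4Frame.d_conj_u]

end Side

end Cfsg.Agent.ClassTwo.EdgeSide
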