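/-
Coordinates of type `Sp₄(q)`, `q` even, from two-sided numerical data.
-/
import Mathlib
import Cfsg.Agent.ClassTwo.EdgeMaps
import Cfsg.Agent.TypeSpFour.Coords

set_option autoImplicit false

namespace Cfsg.Agent.ClassTwo.EdgeAbs

open Cfsg.Agent.TypeSpFour

universe v w

variable {F : Type w} {G : Type v} [Field F] [Group G]

/-- the functional equation -/
theorem exists_hom {l m : F → F} (hl : ∀ a b, l (a + b) = l a + l b) (hm : ∀ a b, m (a + b) = m a + m b)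
    (hl1 : l 1 ≠ 0) (hm1 : m 1 ≠ 0)
    (h : ∀ (r : Fˣ) s t, l ((r⁻¹ : Fˣ) * s) * m ((r : F) ^ 2 * t) = l s * m t) :
    ∃ ρ : F →+* F, (∀ s, l s = l 1 * ρ s) ∧ ∀ t, m (t ^ 2) = m 1 * ρ t := by
  have hl0 : l 0 = 0 := by
    have := hl 0 0
    rw [add_zero] at this
    exact left_eq_add.1 this
  have hm0 : m 0 = 0 := by
    have := hm 0 0
    rw [add_zero] at this
    exact left_eq_add.1 this
  have key : ∀ a s, l (a * s) * l 1 = l a * l s := by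
    intro a s
    by_cases ha : a = 0
    · rw [ha, zero_mul, hl0, zero_mul, zero_mul]
    · have h1 := h (Units.mk0 a ha)⁻¹ s 1
      have h2 := h (Units.mk0 a ha)⁻¹ 1 1
      rw [inv_inv, Units.val_mk0] at h1 h2
      rw [mul_one] at h2
      set c := m (((Units.mk0 a ha)⁻¹ : Fˣ) ^ 2 * 1 : F) with hc
      have hc0 : c ≠ 0 := by
        intro h3
        rw [h3, mul_zero] at h2
        exact mul_ne_zero hl1 hm1 h2.symm
      have h4 : (l (a * s) * l 1) * (c * m 1) = (l a * l s) * (c * m 1) := by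
        linear_combination (l 1 * m 1) * h1 - (l s * m 1) * h2
      exact mul_right_cancel₀ (mul_ne_zero hc0 hm1) h4
  refine ⟨{ toFun := fun s => l s / l 1
            map_one' := div_self hl1
            map_mul' := ?_
            map_zero' := by rw [hl0, zero_div]
            map_add' := ?_ }, ?_, ?_⟩
  · intro a b
    have := key a b
    field_simp
    linear_combination this
  · intro a b
    rw [hl, add_div]
  · intro s
    change l s = l 1 * (l s / l 1)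
    field_simp
  · intro t
    change m (t ^ 2) = m 1 * (l t / l 1)
    by_cases ht : t = 0
    · rw [ht, hl0, zero_pow two_ne_zero, hm0, zero_div, mul_zero]
    · have h1 := h (Units.mk0 t ht) t 1
      rw [Units.val_mk0, mul_one] at h1
      have h2 : (((Units.mk0 t ht)⁻¹ : Fˣ) : F) * t = 1 := by
        rw [Units.val_inv_eq_inv_val, Units.val_mk0, inv_mul_cancel₀ ht]
      rw [h2] at h1
      field_simp
      linear_combination h1

/-- numerical data -/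
structure Abs (V V' Z₁ Z₂ : Subgroup G) (A₁ B₁ T₁ A₂ B₂ T₂ : G → F) : Prop where
  sq : ∀ x ∈ V, x * x = 1
  sq' : ∀ x ∈ V', x * x = 1
  A₁_mul : ∀ g ∈ V, ∀ k ∈ V, A₁ (g * k) = A₁ g + A₁ k
  B₁_mul : ∀ g ∈ V, ∀ k ∈ V, B₁ (g * k) = B₁ g + B₁ k
  T₁_mul : ∀ g ∈ V', ∀ k ∈ V', T₁ (g * k) = T₁ g + T₁ k
  A₂_mul : ∀ g ∈ V', ∀ k ∈ V', A₂ (g * k) = A₂ g + A₂ k
  B₂_mul : ∀ g ∈ V', ∀ k ∈ V', B₂ (g * k) = B₂ g + B₂ k
  T₂_mul : ∀ g ∈ V, ∀ k ∈ V, T₂ (g * k) = T₂ g + T₂ k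
  B₁_zero : ∀ g ∈ V, (B₁ g = 0 ↔ g ∈ V')
  T₁_zero : ∀ g ∈ V', (T₁ g = 0 ↔ g ∈ V)
  B₂_zero : ∀ g ∈ V', (B₂ g = 0 ↔ g ∈ V)
  T₂_zero : ∀ g ∈ V, (T₂ g = 0 ↔ g ∈ V')
  A₁_zero : ∀ g ∈ V ⊓ V', (A₁ g = 0 ↔ g ∈ Z₁)
  A₂_zero : ∀ g ∈ V ⊓ V', (A₂ g = 0 ↔ g ∈ Z₂)
  comm : ∀ v ∈ V, ∀ k ∈ V', k * v * k⁻¹ * v⁻¹ ∈ V ⊓ V' ∧ A₁ (k * v * k⁻¹ * v⁻¹) = T₁ k * B₁ v ∧
    A₂ (k * v * k⁻¹ * v⁻¹) = T₂ v * B₂ k
  B₁_surj : ∀ s, ∃ v ∈ V, B₁ v = s
  T₁_surj : ∀ s, ∃ v ∈ V', T₁ v = s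
  Z₁_le : Z₁ ≤ V ⊓ V'
  Z₂_le : Z₂ ≤ V ⊓ V'
  disj : Z₁ ⊓ Z₂ = ⊥
  card₁ : Nat.card ↥Z₁ = Nat.card F
  card₂ : Nat.card ↥Z₂ = Nat.card F
  torus : ∀ l : Fˣ, ∃ h : G, (∀ v ∈ V, h * v * h⁻¹ ∈ V ∧ B₁ (h * v * h⁻¹) = (l⁻¹ : Fˣ) * B₁ v) ∧
    (∀ k ∈ V', h * k * h⁻¹ ∈ V' ∧ T₁ (h * k * h⁻¹) = (l : F) ^ 2 * T₁ k) ∧
    (∀ z ∈ Z₂, h * z * h⁻¹ ∈ Z₂) ∧ ∀ z ∈ Z₁, h * z * h⁻¹ = z

namespace Abs

variable {V V' Z₁ Z₂ : Subgroup G} {A₁ B₁ T₁ A₂ B₂ T₂ : G → F}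
  (h : Abs V V' Z₁ Z₂ A₁ B₁ T₁ A₂ B₂ T₂)
include h

theorem inv_eq {g : G} (hg : g ∈ V) : g⁻¹ = g := inv_eq_of_mul_eq_one_left (h.sq g hg)

theorem inv_eq' {g : G} (hg : g ∈ V') : g⁻¹ = g := inv_eq_of_mul_eq_one_left (h.sq' g hg)

theorem comm_V {g k : G} (hg : g ∈ V) (hk : k ∈ V) : g * k = k * g := by
  have h1 := h.inv_eq (V.mul_mem hg hk)
  rw [← h1, mul_inv_rev, h.inv_eq hg, h.inv_eq hk]

theorem comm_V' {g k : G} (hg : g ∈ V') (hk : k ∈ V') : g * k = k * g := by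
  have h1 := h.inv_eq' (V'.mul_mem hg hk)
  rw [← h1, mul_inv_rev, h.inv_eq' hg, h.inv_eq' hk]

variable [CharP F 2]

theorem uniq {g k : G} (hg : g ∈ V ⊓ V') (hk : k ∈ V ⊓ V') (h1 : A₁ g = A₁ k) (h2 : A₂ g = A₂ k) : g = k := by
  have hgk : g * k ∈ V ⊓ V' := Subgroup.mul_mem _ hg hk
  have h3 : A₁ (g * k) = 0 := by
    rw [h.A₁_mul g hg.1 k hk.1, h1]; exact CharTwo.add_self_eq_zero _
  have h4 : A₂ (g * k) = 0 := by
    rw [h.A₂_mul g hg.2 k hk.2, h2]; exact CharTwo.add_self_eq_zero _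
  have h5 : g * k ∈ Z₁ ⊓ Z₂ := ⟨(h.A₁_zero _ hgk).1 h3, (h.A₂_zero _ hgk).1 h4⟩
  rw [h.disj, Subgroup.mem_bot] at h5
  have h6 := eq_inv_of_mul_eq_one_left h5
  rw [h6, h.inv_eq hk.1]

theorem bij₁ [Finite F] [Finite G] : Function.Bijective (fun g : ↥Z₁ => A₂ g) := by
  refine Function.Injective.bijective_of_nat_card_le ?_ (by rw [h.card₁])
  intro g k hgk
  apply Subtype.ext
  refine h.uniq (h.Z₁_le g.2) (h.Z₁_le k.2) ?_ hgk
  rw [(h.A₁_zero _ (h.Z₁_le g.2)).2 g.2, (h.A₁_zero _ (h.Z₁_le k.2)).2 k.2]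

theorem bij₂ [Finite F] [Finite G] : Function.Bijective (fun g : ↥Z₂ => A₁ g) := by
  refine Function.Injective.bijective_of_nat_card_le ?_ (by rw [h.card₂])
  intro g k hgk
  apply Subtype.ext
  refine h.uniq (h.Z₂_le g.2) (h.Z₂_le k.2) hgk ?_
  rw [(h.A₂_zero _ (h.Z₂_le g.2)).2 g.2, (h.A₂_zero _ (h.Z₂_le k.2)).2 k.2]

theorem exists_sec₁ : ∃ x : F → G, (∀ a, x a ∈ V) ∧ (∀ a b, x (a + b) = x a * x b) ∧ ∀ a, B₁ (x a) = a := by
  obtain ⟨x, h1, h2⟩ := EdgeSide.exists_section (V := ↥V) (fun v => Subtype.ext (h.sq v v.2)) (fun v => B₁ v)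
    (fun a b => h.B₁_mul a a.2 b b.2) (fun s => by
      obtain ⟨v, hv, hs⟩ := h.B₁_surj s
      exact ⟨⟨v, hv⟩, hs⟩)
  exact ⟨fun a => x a, fun a => (x a).2, fun a b => congrArg Subtype.val (h1 a b), h2⟩

theorem exists_sec₂ : ∃ x : F → G, (∀ a, x a ∈ V') ∧ (∀ a b, x (a + b) = x a * x b) ∧ ∀ a, T₁ (x a) = a := by
  obtain ⟨x, h1, h2⟩ := EdgeSide.exists_section (V := ↥V') (fun v => Subtype.ext (h.sq' v v.2)) (fun v => T₁ v)
    (fun a b => h.T₁_mul a a.2 b b.2) (fun s => by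
      obtain ⟨v, hv, hs⟩ := h.T₁_surj s
      exact ⟨⟨v, hv⟩, hs⟩)
  exact ⟨fun a => x a, fun a => (x a).2, fun a b => congrArg Subtype.val (h1 a b), h2⟩

/-- `A₂` is invariant under the torus -/
theorem A₂_torus [Finite F] [Finite G] {k : G} (hZ₂ : ∀ z ∈ Z₂, k * z * k⁻¹ ∈ Z₂)
    (hZ₁ : ∀ z ∈ Z₁, k * z * k⁻¹ = z) {g : G} (hg : g ∈ V ⊓ V') : A₂ (k * g * k⁻¹) = A₂ g := by
  obtain ⟨z, hz⟩ := h.bij₁.2 (A₂ g)
  have hzD := h.Z₁_le z.2
  have hz' : A₂ (z : G) = A₂ g := hz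
  have h1 : g * z ∈ Z₂ := by
    rw [← h.A₂_zero _ (Subgroup.mul_mem _ hg hzD), h.A₂_mul g hg.2 z hzD.2, hz']
    exact CharTwo.add_self_eq_zero _
  have h2 := hZ₂ _ h1
  have h3 : k * g * k⁻¹ = (k * (g * z) * k⁻¹) * z := by
    nth_rewrite 2 [← hZ₁ z z.2]
    have : k * (g * z) * k⁻¹ * (k * z * k⁻¹) = k * (g * (z * z)) * k⁻¹ := by group
    rw [this, h.sq z hzD.1, mul_one]
  rw [h3, h.A₂_mul _ (h.Z₂_le h2).2 z hzD.2, (h.A₂_zero _ (h.Z₂_le h2)).2 h2, zero_add, hz']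

theorem main [Finite F] [Finite G] (hq : 4 ≤ Nat.card F) :
    ∃ x y c d : F → G, Half.HalfC2 (V ⊔ V') V V' x y c d := by
  obtain ⟨x, hxV, hxa, hxb⟩ := h.exists_sec₁
  obtain ⟨y, hyV, hya, hyb⟩ := h.exists_sec₂
  have hT : ∀ v ∈ V, T₂ v = T₂ (x (B₁ v)) := by
    intro v hv
    have h1 : v * x (B₁ v) ∈ V := V.mul_mem hv (hxV _)
    have h2 : B₁ (v * x (B₁ v)) = 0 := by
      rw [h.B₁_mul v hv _ (hxV _), hxb]; exact CharTwo.add_self_eq_zero _
    have h3 := (h.T₂_zero _ h1).2 ((h.B₁_zero _ h1).1 h2)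
    rw [h.T₂_mul v hv _ (hxV _)] at h3
    exact CharTwo.add_eq_zero.1 h3
  have hB : ∀ v ∈ V', B₂ v = B₂ (y (T₁ v)) := by
    intro v hv
    have h1 : v * y (T₁ v) ∈ V' := V'.mul_mem hv (hyV _)
    have h2 : T₁ (v * y (T₁ v)) = 0 := by
      rw [h.T₁_mul v hv _ (hyV _), hyb]; exact CharTwo.add_self_eq_zero _
    have h3 := (h.B₂_zero _ h1).2 ((h.T₁_zero _ h1).1 h2)
    rw [h.B₂_mul v hv _ (hyV _)] at h3
    exact CharTwo.add_eq_zero.1 h3
  obtain ⟨ρ, hρ1, hρ2⟩ := exists_hom (l := fun s => T₂ (x s)) (m := fun t => B₂ (y t))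
    (fun a b => by rw [hxa, h.T₂_mul _ (hxV a) _ (hxV b)])
    (fun a b => by rw [hya, h.B₂_mul _ (hyV a) _ (hyV b)])
    (by
      intro h0
      have h1 := (h.B₁_zero _ (hxV 1)).2 ((h.T₂_zero _ (hxV 1)).1 h0)
      rw [hxb] at h1
      exact one_ne_zero h1)
    (by
      intro h0
      have h1 := (h.T₁_zero _ (hyV 1)).2 ((h.B₂_zero _ (hyV 1)).1 h0)
      rw [hyb] at h1
      exact one_ne_zero h1)
    (by
      intro r s t
      obtain ⟨k, hk1, hk2, hk3, hk4⟩ := h.torus r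
      have hw := h.comm _ (hxV s) _ (hyV t)
      have hx' := hk1 _ (hxV s)
      have hy' := hk2 _ (hyV t)
      have hw' := h.comm _ hx'.1 _ hy'.1
      have e : k * y t * k⁻¹ * (k * x s * k⁻¹) * (k * y t * k⁻¹)⁻¹ * (k * x s * k⁻¹)⁻¹ =
          k * (y t * x s * (y t)⁻¹ * (x s)⁻¹) * k⁻¹ := by group
      rw [e] at hw'
      have h1 := h.A₂_torus hk3 hk4 hw.1
      rw [hw'.2.2, hw.2.2, hT _ hx'.1, hB _ hy'.1, hx'.2, hy'.2, hxb, hyb] at h1
      exact h1)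
  have hκ : T₂ (x 1) * B₂ (y 1) ≠ 0 := by
    apply mul_ne_zero
    · intro h0
      have h1 := (h.B₁_zero _ (hxV 1)).2 ((h.T₂_zero _ (hxV 1)).1 h0)
      rw [hxb] at h1
      exact one_ne_zero h1
    · intro h0
      have h1 := (h.T₁_zero _ (hyV 1)).2 ((h.B₂_zero _ (hyV 1)).1 h0)
      rw [hyb] at h1
      exact one_ne_zero h1
  set κ := T₂ (x 1) * B₂ (y 1) with hκd
  have hρs : Function.Surjective ρ := (Finite.injective_iff_surjective).1 ρ.injective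
  -- the coordinates on `V ∩ V'`
  have hc : ∀ γ : F, ∃ z ∈ Z₁, A₂ z = κ * ρ γ := fun γ => by
    obtain ⟨z, hz⟩ := h.bij₁.2 (κ * ρ γ)
    exact ⟨z, z.2, hz⟩
  have hd : ∀ δ : F, ∃ z ∈ Z₂, A₁ z = δ := fun δ => by
    obtain ⟨z, hz⟩ := h.bij₂.2 δ
    exact ⟨z, z.2, hz⟩
  choose c hcZ hcA using hc
  choose d hdZ hdA using hd
  have hcD : ∀ γ, c γ ∈ V ⊓ V' := fun γ => h.Z₁_le (hcZ γ)
  have hdD : ∀ γ, d γ ∈ V ⊓ V' := fun γ => h.Z₂_le (hdZ γ)
  have hcA₁ : ∀ γ, A₁ (c γ) = 0 := fun γ => (h.A₁_zero _ (hcD γ)).2 (hcZ γ)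
  have hdA₂ : ∀ γ, A₂ (d γ) = 0 := fun γ => (h.A₂_zero _ (hdD γ)).2 (hdZ γ)
  have hcdA₁ : ∀ γ δ, A₁ (c γ * d δ) = δ := fun γ δ => by
    rw [h.A₁_mul _ (hcD γ).1 _ (hdD δ).1, hcA₁, hdA, zero_add]
  have hcdA₂ : ∀ γ δ, A₂ (c γ * d δ) = κ * ρ γ := fun γ δ => by
    rw [h.A₂_mul _ (hcD γ).2 _ (hdD δ).2, hcA, hdA₂, add_zero]
  have hcdD : ∀ γ δ, c γ * d δ ∈ V ⊓ V' := fun γ δ => Subgroup.mul_mem _ (hcD γ) (hdD δ)
  have hex : ∀ g ∈ V ⊓ V', ∃ γ δ, g = c γ * d δ := by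
    intro g hg
    obtain ⟨γ, hγ⟩ := hρs (κ⁻¹ * A₂ g)
    refine ⟨γ, A₁ g, h.uniq hg (hcdD _ _) (hcdA₁ _ _).symm ?_⟩
    rw [hcdA₂, hγ, mul_inv_cancel_left₀ hκ]
  have hcds : ∀ γ δ γ' δ', c γ * d δ = c γ' * d δ' → γ = γ' ∧ δ = δ' := by
    intro γ δ γ' δ' e
    have h1 := congrArg A₁ e
    have h2 := congrArg A₂ e
    rw [hcdA₁, hcdA₁] at h1
    rw [hcdA₂, hcdA₂] at h2
    exact ⟨ρ.injective (mul_left_cancel₀ hκ h2), h1⟩
  have hC : Coords.Coords x (fun t => y (t ^ 2)) c d :=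
    { two := by
        have := CharP.cast_eq_zero F 2
        exact_mod_cast this
      four := by
        by_contra hno
        push Not at hno
        have h1 : Nat.card F ≤ Nat.card Bool := by
          classical
          refine Nat.card_le_card_of_injective (fun l : F => decide (l = 0)) ?_
          intro a b hab
          by_cases ha : a = 0 <;> by_cases hb : b = 0 <;> simp [ha, hb] at hab ⊢
          rw [hno a ha, hno b hb]
        rw [Nat.card_eq_fintype_card (α := Bool), Fintype.card_bool] at h1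
        omega
      x_add := hxa
      y_add := fun a b => by
        change y ((a + b) ^ 2) = _
        rw [CharTwo.add_sq, hya]
      c_add := fun a b => by
        refine h.uniq (hcD _) (Subgroup.mul_mem _ (hcD a) (hcD b)) ?_ ?_
        · rw [hcA₁, h.A₁_mul _ (hcD a).1 _ (hcD b).1, hcA₁, hcA₁, add_zero]
        · rw [hcA, h.A₂_mul _ (hcD a).2 _ (hcD b).2, hcA, hcA, map_add, mul_add]
      d_add := fun a b => by
        refine h.uniq (hdD _) (Subgroup.mul_mem _ (hdD a) (hdD b)) ?_ ?_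
        · rw [hdA, h.A₁_mul _ (hdD a).1 _ (hdD b).1, hdA, hdA]
        · rw [hdA₂, h.A₂_mul _ (hdD a).2 _ (hdD b).2, hdA₂, hdA₂, add_zero]
      xc := fun a b => h.comm_V (hxV a) (hcD b).1
      xd := fun a b => h.comm_V (hxV a) (hdD b).1
      yc := fun a b => h.comm_V' (hyV _) (hcD b).2
      yd := fun a b => h.comm_V' (hyV _) (hdD b).2
      cd := fun a b => h.comm_V (hcD a).1 (hdD b).1
      xy := fun a t => by
        have hw := h.comm _ (hxV a) _ (hyV (t ^ 2))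
        have h1 : y (t ^ 2) * x a * (y (t ^ 2))⁻¹ * (x a)⁻¹ = c (a * t) * d (a * t ^ 2) := by
          refine h.uniq hw.1 (hcdD _ _) ?_ ?_
          · rw [hw.2.1, hyb, hxb, hcdA₁, mul_comm]
          · have e1 := hρ1 a
            have e2 := hρ2 t
            rw [hw.2.2, hcdA₂, e1, e2, map_mul, hκd]
            ring
        have h2 : x a * y (t ^ 2) * (x a)⁻¹ * (y (t ^ 2))⁻¹ = c (a * t) * d (a * t ^ 2) := by
          rw [← h1]
          have h3 := h.inv_eq hw.1.1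
          rw [← h3]
          group
        change x a * y (t ^ 2) = c (a * t) * d (a * t ^ 2) * (y (t ^ 2) * x a)
        rw [← h2]
        group
      inj := fun a t γ δ e => by
        have e' : x a * y (t ^ 2) * (c γ * d δ) = 1 := e
        have hy' : y (t ^ 2) ∈ V := by
          have : y (t ^ 2) = (x a)⁻¹ * (c γ * d δ)⁻¹ := by
            rw [eq_mul_inv_iff_mul_eq]
            exact eq_inv_of_mul_eq_one_right (by rw [← mul_assoc]; exact e')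
          rw [this]
          exact V.mul_mem (V.inv_mem (hxV a)) (V.inv_mem (hcdD _ _).1)
        have ht : t = 0 := by
          have := (h.T₁_zero _ (hyV _)).2 hy'
          rw [hyb] at this
          exact pow_eq_zero_iff two_ne_zero |>.1 this
        subst ht
        have hy0 : y 0 = 1 := by
          have := hya 0 0
          rw [add_zero] at this
          exact left_eq_mul.1 this
        have hx0 : x 0 = 1 := by
          have := hxa 0 0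
          rw [add_zero] at this
          exact left_eq_mul.1 this
        rw [zero_pow two_ne_zero, hy0, mul_one] at e'
        have ha : a = 0 := by
          have h1 : x a ∈ V' := by
            have : x a = (c γ * d δ)⁻¹ := eq_inv_of_mul_eq_one_left e'
            rw [this]
            exact V'.inv_mem (hcdD _ _).2
          have := (h.B₁_zero _ (hxV _)).2 h1
          rwa [hxb] at this
        subst ha
        rw [hx0, one_mul] at e'
        have hA10 : A₁ 1 = 0 := (h.A₁_zero 1 (Subgroup.one_mem _)).2 Z₁.one_mem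
        have hA20 : A₂ 1 = 0 := (h.A₂_zero 1 (Subgroup.one_mem _)).2 Z₂.one_mem
        have h1 := congrArg A₁ e'
        have h2 := congrArg A₂ e'
        rw [hcdA₁, hA10] at h1
        rw [hcdA₂, hA20] at h2
        refine ⟨rfl, rfl, ?_, h1⟩
        rcases mul_eq_zero.1 h2 with h3 | h3
        · exact absurd h3 hκ
        · exact (map_eq_zero ρ).1 h3 }
  -- identification of the subgroups
  have hAA : hC.AA = V := by
    ext g
    rw [hC.mem_AA]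
    constructor
    · rintro ⟨a, γ, δ, rfl⟩
      exact V.mul_mem (hxV a) (hcdD _ _).1
    · intro hg
      have h1 : g * x (B₁ g) ∈ V ⊓ V' := by
        have h2 := V.mul_mem hg (hxV (B₁ g))
        refine ⟨h2, (h.B₁_zero _ h2).1 ?_⟩
        rw [h.B₁_mul g hg _ (hxV _), hxb]
        exact CharTwo.add_self_eq_zero _
      obtain ⟨γ, δ, hγ⟩ := hex _ h1
      refine ⟨B₁ g, γ, δ, ?_⟩
      rw [← hγ, h.comm_V hg (hxV _), ← mul_assoc, h.sq _ (hxV _), one_mul]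
  have hBB : hC.BB = V' := by
    ext g
    rw [hC.mem_BB]
    constructor
    · rintro ⟨a, γ, δ, rfl⟩
      exact V'.mul_mem (hyV _) (hcdD _ _).2
    · intro hg
      have h1 : g * y (T₁ g) ∈ V ⊓ V' := by
        have h2 := V'.mul_mem hg (hyV (T₁ g))
        refine ⟨(h.T₁_zero _ h2).1 ?_, h2⟩
        rw [h.T₁_mul g hg _ (hyV _), hyb]
        exact CharTwo.add_self_eq_zero _
      obtain ⟨γ, δ, hγ⟩ := hex _ h1
      obtain ⟨r, hr⟩ : ∃ r : F, r ^ 2 = T₁ g := by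
        have hinj : Function.Injective (fun r : F => r ^ 2) := fun a b hab => by
          have h3 : (a + b) ^ 2 = 0 := by
            have h4 : a ^ 2 = b ^ 2 := hab
            rw [CharTwo.add_sq, h4]
            exact CharTwo.add_self_eq_zero _
          exact CharTwo.add_eq_zero.1 (pow_eq_zero_iff two_ne_zero |>.1 h3)
        exact (Finite.injective_iff_surjective.1 hinj) (T₁ g)
      refine ⟨r, γ, δ, ?_⟩
      change g = y (r ^ 2) * (c γ * d δ)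
      rw [hr, ← hγ, h.comm_V' hg (hyV _), ← mul_assoc, h.sq' _ (hyV _), one_mul]
  have hSS : hC.SS = V ⊔ V' := by
    apply le_antisymm
    · rintro _ ⟨a, t, γ, δ, rfl⟩
      exact Subgroup.mul_mem _ (Subgroup.mul_mem _ (Subgroup.mem_sup_left (hxV a))
        (Subgroup.mem_sup_right (hyV _))) (Subgroup.mem_sup_left (hcdD _ _).1)
    · have h1 := hC.isAB.A_le
      have h2 := hC.isAB.B_le
      rw [hAA] at h1
      rw [hBB] at h2
      exact sup_le h1 h2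
  have := hC.halfC2
  rw [hSS, hAA, hBB] at this
  exact ⟨x, _, c, d, this⟩

end Abs

end Cfsg.Agent.ClassTwo.EdgeAbs
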