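/-
The two-sided edge: choice of the isomorphisms, the torus elements normalising the Sylow subgroup.
-/
import Mathlib
import Cfsg.Agent.ClassTwo.EdgeMaps

set_option autoImplicit false

namespace Cfsg.Agent.ClassTwo.EdgeTorus

open Cfsg.Agent.ClassTwo.Sp4Defs Cfsg.Agent.ClassTwo.EdgeSide
open Matrix (SpecialLinearGroup)
open scoped Matrix

variable {F G : Type*} [Field F] [Group G]

/-- One edge: `S = E₁E₂` is a Sylow 2-subgroup, `X_i` is normal in `N(E_i)` and induces `SL(2,F)` on `E_i`. -/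
structure Edge (F G : Type*) [Field F] [Group G] where
  E₁ : Subgroup G
  E₂ : Subgroup G
  X₁ : Subgroup G
  X₂ : Subgroup G
  φ₁ : ↥X₁ →* SpecialLinearGroup (Fin 2) F
  φ₂ : ↥X₂ →* SpecialLinearGroup (Fin 2) F
  surj₁ : Function.Surjective φ₁
  surj₂ : Function.Surjective φ₂
  ker₁ : ∀ x, φ₁ x = 1 ↔ (x : G) ∈ Subgroup.centralizer (E₁ : Set G)
  ker₂ : ∀ x, φ₂ x = 1 ↔ (x : G) ∈ Subgroup.centralizer (E₂ : Set G)
  E₁_le_X₁ : E₁ ≤ X₁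
  E₂_le_X₁ : E₂ ≤ X₁
  E₁_le_X₂ : E₁ ≤ X₂
  E₂_le_X₂ : E₂ ≤ X₂
  X₁_le : X₁ ≤ Subgroup.normalizer (E₁ : Set G)
  X₂_le : X₂ ≤ Subgroup.normalizer (E₂ : Set G)
  norm₁ : ∀ g ∈ Subgroup.normalizer (E₁ : Set G), ∀ x ∈ X₁, g * x * g⁻¹ ∈ X₁
  norm₂ : ∀ g ∈ Subgroup.normalizer (E₂ : Set G), ∀ x ∈ X₂, g * x * g⁻¹ ∈ X₂
  sq₁ : ∀ x ∈ E₁, x * x = 1
  sq₂ : ∀ x ∈ E₂, x * x = 1
  cent₁ : ∀ x ∈ E₂, x ∈ Subgroup.centralizer (E₁ : Set G) → x ∈ E₁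
  cent₂ : ∀ x ∈ E₁, x ∈ Subgroup.centralizer (E₂ : Set G) → x ∈ E₂
  card₁ : Nat.card ↥E₁ = Nat.card F * Nat.card ↥(E₁ ⊓ E₂)
  card₂ : Nat.card ↥E₂ = Nat.card F * Nat.card ↥(E₁ ⊓ E₂)
  cardC₁ : Nat.card F * Nat.card ↥(E₁ ⊓ Subgroup.centralizer (X₁ : Set G)) = Nat.card ↥(E₁ ⊓ E₂)
  cardC₂ : Nat.card F * Nat.card ↥(E₂ ⊓ Subgroup.centralizer (X₂ : Set G)) = Nat.card ↥(E₁ ⊓ E₂)
  disj : (E₁ ⊓ Subgroup.centralizer (X₁ : Set G)) ⊓ (E₂ ⊓ Subgroup.centralizer (X₂ : Set G)) = ⊥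
  syl : ∃ P : Sylow 2 G, (P : Subgroup G) = E₁ ⊔ E₂

namespace Edge

/-- exchange the two sides -/
def swap (A : Edge F G) : Edge F G where
  E₁ := A.E₂
  E₂ := A.E₁
  X₁ := A.X₂
  X₂ := A.X₁
  φ₁ := A.φ₂
  φ₂ := A.φ₁
  surj₁ := A.surj₂
  surj₂ := A.surj₁
  ker₁ := A.ker₂
  ker₂ := A.ker₁
  E₁_le_X₁ := A.E₂_le_X₂
  E₂_le_X₁ := A.E₁_le_X₂
  E₁_le_X₂ := A.E₂_le_X₁
  E₂_le_X₂ := A.E₁_le_X₁
  X₁_le := A.X₂_le
  X₂_le := A.X₁_le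
  norm₁ := A.norm₂
  norm₂ := A.norm₁
  sq₁ := A.sq₂
  sq₂ := A.sq₁
  cent₁ := A.cent₂
  cent₂ := A.cent₁
  card₁ := by rw [inf_comm]; exact A.card₂
  card₂ := by rw [inf_comm]; exact A.card₁
  cardC₁ := by rw [inf_comm (a := A.E₂) (b := A.E₁)]; exact A.cardC₂
  cardC₂ := by rw [inf_comm (a := A.E₂) (b := A.E₁)]; exact A.cardC₁
  disj := by rw [inf_comm]; exact A.disj
  syl := by rw [sup_comm]; exact A.syl

theorem exists_conj [Finite F] [CharP F 2] [Finite G] (A : Edge F G) :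
    ∃ g : SpecialLinearGroup (Fin 2) F, ∀ x (hx : x ∈ A.E₂),
      ∃ t : F, g * A.φ₁ ⟨x, A.E₂_le_X₁ hx⟩ * g⁻¹ = u t := by
  have hD : 0 < Nat.card ↥(A.E₁ ⊓ A.E₂) := Nat.card_pos
  obtain ⟨g, hg⟩ := Sp4SL2.conj_U ((A.E₂.subgroupOf A.X₁).map A.φ₁) (by
      rintro _ ⟨x, hx, rfl⟩
      rw [← map_mul]
      have : x * x = 1 := Subtype.ext (A.sq₂ x (Subgroup.mem_subgroupOf.1 hx))
      rw [this, map_one]) (by
      have h0 : A.φ₁.ker.subgroupOf (A.E₂.subgroupOf A.X₁) =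
          (((A.E₁ ⊓ A.E₂).subgroupOf A.X₁)).subgroupOf (A.E₂.subgroupOf A.X₁) := by
        ext ⟨x, hx⟩
        rw [Subgroup.mem_subgroupOf, Subgroup.mem_subgroupOf, Subgroup.mem_subgroupOf, MonoidHom.mem_ker, A.ker₁]
        have hx2 : (x : G) ∈ A.E₂ := hx
        constructor
        · intro h
          exact ⟨A.cent₁ _ hx2 h, hx2⟩
        · intro h
          rw [Subgroup.mem_centralizer_iff]
          intro y hy
          exact Sp4Side.Side.mul_comm_of_sq A.sq₁ hy h.1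
      rw [← Subgroup.relIndex_ker]
      have h1 : A.φ₁.ker.relIndex (A.E₂.subgroupOf A.X₁) = (A.E₁ ⊓ A.E₂).relIndex A.E₂ := by
        rw [Subgroup.relIndex, h0, ← Subgroup.relIndex, Subgroup.relIndex_subgroupOf A.E₂_le_X₁]
      rw [h1]
      have h2 := Subgroup.relIndex_mul_relIndex ⊥ (A.E₁ ⊓ A.E₂) A.E₂ bot_le inf_le_right
      rw [Subgroup.relIndex_bot_left, Subgroup.relIndex_bot_left, A.card₂, mul_comm (Nat.card F)] at h2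
      exact Nat.eq_of_mul_eq_mul_left hD h2)
  exact ⟨g, fun x hx => hg _ ⟨⟨x, A.E₂_le_X₁ hx⟩, hx, rfl⟩⟩

theorem exists_side [Finite F] [CharP F 2] [Finite G] (A : Edge F G) :
    ∃ T : Side F G, T.V = A.E₁ ∧ T.V' = A.E₂ ∧ T.X = A.X₁ := by
  obtain ⟨g, hg⟩ := exists_conj A
  refine ⟨{ V := A.E₁
            V' := A.E₂
            X := A.X₁
            φ := (MulAut.conj g).toMonoidHom.comp A.φ₁
            surj := (MulAut.conj g).surjective.comp A.surj₁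
            ker := ?_
            V_le := A.E₁_le_X₁
            V'_le := A.E₂_le_X₁
            X_le := A.X₁_le
            sq := A.sq₁
            sq' := A.sq₂
            card := A.card₁
            card' := A.card₂
            cardZ := A.cardC₁
            cent := A.cent₁
            cent' := A.cent₂
            hU := hg
            nrm' := ?_ }, rfl, rfl, rfl⟩
  · intro x
    rw [← A.ker₁]
    change g * A.φ₁ x * g⁻¹ = 1 ↔ _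
    rw [mul_inv_eq_one, mul_eq_left]
  · intro v hv x hx
    exact (Subgroup.mem_normalizer_iff.1 (A.X₂_le (A.E₁_le_X₂ hv)) x).1 hx

/-- an edge with chosen sides -/
structure NEdge (F G : Type*) [Field F] [Group G] where
  T₁ : Side F G
  T₂ : Side F G
  hV : T₂.V = T₁.V'
  hV' : T₂.V' = T₁.V
  norm₁ : ∀ g ∈ Subgroup.normalizer (T₁.V : Set G), ∀ x ∈ T₁.X, g * x * g⁻¹ ∈ T₁.X
  norm₂ : ∀ g ∈ Subgroup.normalizer (T₁.V' : Set G), ∀ x ∈ T₂.X, g * x * g⁻¹ ∈ T₂.X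
  disj : T₁.Z ⊓ T₂.Z = ⊥
  syl : ∃ P : Sylow 2 G, (P : Subgroup G) = T₁.V ⊔ T₁.V'

theorem exists_nedge [Finite F] [CharP F 2] [Finite G] (A : Edge F G) :
    ∃ N : NEdge F G, N.T₁.V = A.E₁ ∧ N.T₁.V' = A.E₂ := by
  obtain ⟨T₁, a1, a2, a3⟩ := exists_side A
  obtain ⟨T₂, b1, b2, b3⟩ := exists_side A.swap
  have b1' : T₂.V = A.E₂ := b1
  have b2' : T₂.V' = A.E₁ := b2
  have b3' : T₂.X = A.X₂ := b3
  refine ⟨{ T₁ := T₁, T₂ := T₂, hV := b1'.trans a2.symm, hV' := b2'.trans a1.symm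
            norm₁ := ?_, norm₂ := ?_, disj := ?_, syl := ?_ }, a1, a2⟩
  · rw [a1, a3]; exact A.norm₁
  · rw [a2, b3']; exact A.norm₂
  · unfold Side.Z
    rw [a1, a3, b1', b3']; exact A.disj
  · rw [a1, a2]; exact A.syl

end Edge

namespace Edge.NEdge

variable (N : Edge.NEdge F G)

/-- the preimage of the unipotent subgroup -/
def M : Subgroup G where
  carrier := {x | ∃ hx : x ∈ N.T₁.X, ∃ t : F, N.T₁.φ ⟨x, hx⟩ = u t}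
  one_mem' := ⟨N.T₁.X.one_mem, 0, by
    rw [Side.u_zero]
    exact map_one N.T₁.φ⟩
  mul_mem' := by
    rintro a b ⟨ha, s, hs⟩ ⟨hb, t, ht⟩
    refine ⟨N.T₁.X.mul_mem ha hb, s + t, ?_⟩
    rw [Side.u_mul, ← hs, ← ht, ← map_mul]
    rfl
  inv_mem' := by
    rintro a ⟨ha, s, hs⟩
    refine ⟨N.T₁.X.inv_mem ha, -s, ?_⟩
    have h1 : (⟨a⁻¹, N.T₁.X.inv_mem ha⟩ : ↥N.T₁.X) = (⟨a, ha⟩ : ↥N.T₁.X)⁻¹ := rfl
    rw [h1, map_inv, hs, inv_eq_iff_mul_eq_one, ← Side.u_mul, add_neg_cancel, Side.u_zero]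

theorem mem_M {x : G} : x ∈ N.M ↔ ∃ hx : x ∈ N.T₁.X, ∃ t : F, N.T₁.φ ⟨x, hx⟩ = u t := Iff.rfl

theorem S_le_M : N.T₁.V ⊔ N.T₁.V' ≤ N.M := by
  apply sup_le
  · intro x hx
    exact ⟨N.T₁.V_le hx, 0, by rw [Side.u_zero]; exact N.T₁.φ_V hx⟩
  · intro x hx
    obtain ⟨t, ht⟩ := N.T₁.hU x hx
    exact ⟨N.T₁.V'_le hx, t, ht⟩

/-- the torus element normalises the Sylow subgroup -/
theorem exists_torus [Finite F] [CharP F 2] [Finite G] (l : Fˣ) :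
    ∃ h, ∃ hh : h ∈ N.T₁.X, N.T₁.φ ⟨h, hh⟩ = d l ∧
      h ∈ Subgroup.normalizer ((N.T₁.V ⊔ N.T₁.V' : Subgroup G) : Set G) := by
  obtain ⟨⟨b, hb⟩, hbl⟩ := N.T₁.surj (d l)
  obtain ⟨P, hP⟩ := N.syl
  have h1 : (P : Subgroup G) ≤ N.M := by rw [hP]; exact N.S_le_M
  have h2 : ((b • P : Sylow 2 G) : Subgroup G) ≤ N.M := by
    intro y hy
    rw [Sylow.coe_subgroup_smul, Subgroup.mem_pointwise_smul_iff_inv_smul_mem] at hy
    have hy' : b⁻¹ * y * b ∈ (P : Subgroup G) := by simpa [MulAut.smul_def] using hy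
    obtain ⟨hx, t, ht⟩ := h1 hy'
    have hyX : y ∈ N.T₁.X := by
      have := N.T₁.X.mul_mem (N.T₁.X.mul_mem hb hx) (N.T₁.X.inv_mem hb)
      simpa [mul_assoc] using this
    refine ⟨hyX, (l : F) ^ 2 * t, ?_⟩
    have e : (⟨y, hyX⟩ : ↥N.T₁.X) = ⟨b, hb⟩ * ⟨b⁻¹ * y * b, hx⟩ * (⟨b, hb⟩ : ↥N.T₁.X)⁻¹ := by
      apply Subtype.ext
      change y = b * (b⁻¹ * y * b) * b⁻¹
      group
    rw [e, map_mul, map_mul, map_inv, hbl, ht, Sp4Frame.d_conj_u]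
  obtain ⟨m, hm⟩ := MulAction.exists_smul_eq ↥N.M (P.subtype h1) ((b • P).subtype h2)
  rw [Sylow.smul_subtype] at hm
  have h3 : (m : G) • P = b • P := Sylow.subtype_injective hm
  have h4 : ((m : G)⁻¹ * b) • P = P := by rw [mul_smul, ← h3, inv_smul_smul]
  rw [Sylow.smul_eq_iff_mem_normalizer] at h4
  have h4' : (m : G)⁻¹ * b ∈ Subgroup.normalizer ((P : Subgroup G) : Set G) := h4
  rw [hP] at h4'
  obtain ⟨m, hmX, s, hs⟩ := m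
  -- `φ(m⁻¹ b) = u(-s) d(l)`
  obtain ⟨y, hy, hys⟩ := N.T₁.usurj s
  have hyX := N.T₁.V'_le hy
  refine ⟨y * (m⁻¹ * b), N.T₁.X.mul_mem hyX (N.T₁.X.mul_mem (N.T₁.X.inv_mem hmX) hb), ?_, ?_⟩
  · have e : (⟨y * (m⁻¹ * b), N.T₁.X.mul_mem hyX (N.T₁.X.mul_mem (N.T₁.X.inv_mem hmX) hb)⟩ : ↥N.T₁.X)
        = ⟨y, hyX⟩ * ((⟨m, hmX⟩ : ↥N.T₁.X)⁻¹ * ⟨b, hb⟩) := rfl
    rw [e, map_mul, map_mul, map_inv, hys, hs, hbl, mul_inv_cancel_left]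
  · exact Subgroup.mul_mem _ (Subgroup.le_normalizer (Subgroup.mem_sup_right hy)) h4'

theorem not_le [Finite F] [Finite G] : ¬ N.T₁.V' ≤ N.T₁.V := by
  intro h
  obtain ⟨x, hx, hx1⟩ := N.T₁.usurj 1
  have h1 := N.T₁.φ_V (h hx)
  rw [h1, ← Side.u_zero] at hx1
  exact zero_ne_one (Side.u_inj hx1)

/-- an element of `N(V) ∩ N(S)` normalises `V'` -/
theorem mem_normalizer' [Finite F] [CharP F 2] [Finite G] (hq : 4 ≤ Nat.card F) {h : G}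
    (h1 : h ∈ Subgroup.normalizer (N.T₁.V : Set G))
    (h2 : h ∈ Subgroup.normalizer ((N.T₁.V ⊔ N.T₁.V' : Subgroup G) : Set G)) :
    h ∈ Subgroup.normalizer (N.T₁.V' : Set G) := by
  obtain ⟨c⟩ := N.T₁.nonempty_crd hq
  have h3 : ∀ x ∈ N.T₁.V'.map (MulAut.conj h).toMonoidHom, x ∈ N.T₁.V ∨ x ∈ N.T₁.V' := by
    rintro _ ⟨x, hx, rfl⟩
    change h * x * h⁻¹ ∈ N.T₁.V ∨ h * x * h⁻¹ ∈ N.T₁.V'
    refine Side.inv_mem c ?_ ?_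
    · exact (Subgroup.mem_normalizer_iff.1 h2 x).1 (Subgroup.mem_sup_right hx)
    · have : h * x * h⁻¹ * (h * x * h⁻¹) = h * (x * x) * h⁻¹ := by group
      rw [this, N.T₁.sq' x hx, mul_one, mul_inv_cancel]
  rcases Sp4Final.le_or_le h3 with h4 | h4
  · exfalso
    apply N.not_le
    intro x hx
    have h5 : h * x * h⁻¹ ∈ N.T₁.V := h4 ⟨x, hx, rfl⟩
    exact (Subgroup.mem_normalizer_iff.1 h1 x).2 h5
  · exact Sp4Final.mem_normalizer_of_conj (fun x hx => h4 ⟨x, hx, rfl⟩)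

/-- torus elements, complete statement -/
theorem exists_torus' [Finite F] [CharP F 2] [Finite G] (hq : 4 ≤ Nat.card F) (l : Fˣ) :
    ∃ h, ∃ hh : h ∈ N.T₁.X, N.T₁.φ ⟨h, hh⟩ = d l ∧ (∀ x ∈ N.T₁.V, h * x * h⁻¹ ∈ N.T₁.V) ∧
      (∀ x ∈ N.T₁.V', h * x * h⁻¹ ∈ N.T₁.V') ∧ (∀ x ∈ N.T₂.Z, h * x * h⁻¹ ∈ N.T₂.Z) := by
  obtain ⟨h, hh, hl, hS⟩ := N.exists_torus l
  have h1 := N.T₁.X_le hh
  have h2 := N.mem_normalizer' hq h1 hS
  refine ⟨h, hh, hl, fun x hx => (Subgroup.mem_normalizer_iff.1 h1 x).1 hx,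
    fun x hx => (Subgroup.mem_normalizer_iff.1 h2 x).1 hx, ?_⟩
  intro x hx
  rw [Side.mem_Z] at hx ⊢
  constructor
  · have h3 := hx.1
    rw [N.hV] at h3 ⊢
    exact (Subgroup.mem_normalizer_iff.1 h2 x).1 h3
  · intro y hy
    have h3 := N.norm₂ _ (Subgroup.inv_mem _ h2) y hy
    have h4 := hx.2 _ h3
    have e1 : y * (h * x * h⁻¹) = h * (h⁻¹ * y * h⁻¹⁻¹ * x) * h⁻¹ := by group
    have e2 : h * x * h⁻¹ * y = h * (x * (h⁻¹ * y * h⁻¹⁻¹)) * h⁻¹ := by group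
    rw [e1, e2, h4]

end Edge.NEdge

end Cfsg.Agent.ClassTwo.EdgeTorus
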