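/-
Coordinates for the Sylow 2-subgroup of a group with one edge: type `L₃(q)` or type `Sp₄(q)`.
-/
import Mathlib
import Cfsg.Agent.ClassTwo.EdgeTorus
import Cfsg.Agent.ClassTwo.EdgeAbs
import Cfsg.Agent.TypeSpFour.Coords
import Cfsg.Agent.TypeL3.Model

set_option autoImplicit false

namespace Cfsg.Agent.ClassTwo.EdgeCoord

open Cfsg.Agent.ClassTwo.Sp4Defs Cfsg.Agent.ClassTwo.EdgeSide Cfsg.Agent.ClassTwo.EdgeTorus
open Cfsg.Agent.TypeSpFour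
open Matrix (SpecialLinearGroup)
open scoped Matrix

universe v w

variable {F : Type w} {G : Type v} [Field F] [Group G]

namespace NEdge

variable [Finite F] [CharP F 2] [Finite G] (N : Edge.NEdge F G)

/-- dichotomy -/
theorem card_Z (hq : 4 ≤ Nat.card F) : Nat.card ↥N.T₁.Z = 1 ∨ Nat.card ↥N.T₁.Z = Nat.card F := by
  obtain ⟨c⟩ := N.T₁.nonempty_crd hq
  have hD : Nat.card ↥(N.T₂.V ⊓ N.T₂.V') = Nat.card ↥(N.T₁.V ⊓ N.T₁.V') := by
    rw [N.hV, N.hV', inf_comm]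
  have hZ : Nat.card ↥N.T₂.Z = Nat.card ↥N.T₁.Z := by
    have h1 := N.T₁.card_Z
    have h2 := N.T₂.card_Z
    rw [hD, ← h1] at h2
    exact Nat.eq_of_mul_eq_mul_left Nat.card_pos h2
  rw [← hZ]
  have hle1 : ∀ x ∈ N.T₂.Z, x ∈ N.T₁.V := fun x hx => by rw [← N.hV']; exact N.T₂.Z_le' hx
  have hle2 : ∀ x ∈ N.T₂.Z, x ∈ N.T₁.V' := fun x hx => by rw [← N.hV]; exact N.T₂.Z_le hx
  -- the image of `Z₂` in `F`
  let g : ↥N.T₂.Z →* Multiplicative F :=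
    MonoidHom.mk' (fun x => Multiplicative.ofAdd (c.a ⟨x, hle1 x x.2⟩)) (fun x y => by
      rw [← ofAdd_add, ← c.a_mul]
      rfl)
  have hg : ∀ x, g x = Multiplicative.ofAdd (c.a ⟨x, hle1 x x.2⟩) := fun _ => rfl
  have hinj : Function.Injective g := by
    rw [← MonoidHom.ker_eq_bot_iff, Subgroup.eq_bot_iff_forall]
    intro x hx
    rw [MonoidHom.mem_ker, hg, ofAdd_eq_one, c.a_eq_zero _ (hle2 x x.2)] at hx
    have h3 : (x : G) ∈ N.T₁.Z ⊓ N.T₂.Z := ⟨hx, x.2⟩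
    rw [N.disj, Subgroup.mem_bot] at h3
    exact Subtype.ext h3
  by_cases hex : ∃ x : ↥N.T₂.Z, x ≠ 1
  · right
    obtain ⟨x, hx1⟩ := hex
    have hsurj : Function.Surjective g := by
      intro s
      have hx0 : c.a ⟨x, hle1 x x.2⟩ ≠ 0 := by
        intro h0
        apply hx1
        apply hinj
        rw [hg, h0, map_one, ofAdd_zero]
      by_cases hs : Multiplicative.toAdd s = 0
      · exact ⟨1, by rw [map_one]; exact (congrArg Multiplicative.ofAdd hs).symm⟩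
      · let l : Fˣ := Units.mk0 (Multiplicative.toAdd s / c.a ⟨x, hle1 x x.2⟩) (div_ne_zero hs hx0)
        obtain ⟨h, hh, hl, hV, hV', hZZ⟩ := N.exists_torus' hq l
        refine ⟨⟨h * x * h⁻¹, hZZ x x.2⟩, ?_⟩
        rw [hg]
        have h4 := (c.conj_torus hh hl ⟨x, hle1 x x.2⟩ (hV _ (hle1 x x.2))).1
        refine (congrArg Multiplicative.ofAdd h4).trans ?_
        have h5 : (l : F) * c.a ⟨x, hle1 x x.2⟩ = Multiplicative.toAdd s := by
          change Multiplicative.toAdd s / c.a ⟨x, hle1 x x.2⟩ * _ = _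
          exact div_mul_cancel₀ _ hx0
        rw [h5]
        rfl
    rw [Nat.card_congr (Equiv.ofBijective g ⟨hinj, hsurj⟩)]
    exact (Nat.card_congr Multiplicative.ofAdd).symm
  · left
    push Not at hex
    exact Nat.card_eq_one_iff_unique.2 ⟨⟨fun a b => by rw [hex a, hex b]⟩, ⟨1⟩⟩

/-- coordinates of `V` and `V'` -/
theorem exists_xy (c : N.T₁.Crd) : ∃ (x : F → ↥N.T₁.V) (y : F → ↥N.T₁.V'),
    (∀ a b, x (a + b) = x a * x b) ∧ (∀ a, c.b (x a) = a) ∧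
    (∀ a b, y (a + b) = y a * y b) ∧ (∀ a, N.T₁.t (y a) = a) := by
  obtain ⟨x, h1, h2⟩ := exists_section (fun v : ↥N.T₁.V => Subtype.ext (N.T₁.sq v v.2)) c.b c.b_mul c.b_surj
  obtain ⟨y, h3, h4⟩ := exists_section (fun v : ↥N.T₁.V' => Subtype.ext (N.T₁.sq' v v.2)) N.T₁.t N.T₁.t_mul
    N.T₁.t_surj
  exact ⟨x, y, h1, h2, h3, h4⟩

/-- type `L₃(q)` -/
theorem exists_equiv_UT (hq : 4 ≤ Nat.card F) (hZ : Nat.card ↥N.T₁.Z = 1) :
    Nonempty (↥(N.T₁.V ⊔ N.T₁.V') ≃* Cfsg.Agent.SylowL.UT.UT 3 F) := by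
  obtain ⟨c⟩ := N.T₁.nonempty_crd hq
  obtain ⟨x, y, hx, hbx, hy, hty⟩ := exists_xy N c
  have hZ' : N.T₁.Z = ⊥ := Subgroup.card_eq_one.1 hZ
  -- the elements of `Z`
  let D : Subgroup ↥N.T₁.V := (N.T₁.V ⊓ N.T₁.V').subgroupOf N.T₁.V
  obtain ⟨z, hz, haz⟩ := exists_section (V := ↥D) (fun v => Subtype.ext (Subtype.ext (N.T₁.sq _ v.1.2)))
    (fun v => c.a v.1) (fun v w => c.a_mul v.1 w.1) (fun s => by
      obtain ⟨v, hv, hvs⟩ := c.exists_a s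
      exact ⟨⟨v, ⟨v.2, hv⟩⟩, hvs⟩)
  have hzD : ∀ a, ((z a : ↥N.T₁.V) : G) ∈ N.T₁.V' := fun a => (z a).2.2
  have hinjD : ∀ (v : ↥N.T₁.V), (v : G) ∈ N.T₁.V' → ∀ s, c.a v = s → v = (z s).1 := by
    intro v hv s hvs
    have h1 : c.a (v * ((z s).1)⁻¹) = 0 := by
      have h2 : c.a ((z s).1)⁻¹ = - c.a (z s).1 := by
        unfold Side.Crd.a; rw [c.inv]; rfl
      rw [c.a_mul, h2, haz, hvs, add_neg_cancel]
    rw [c.a_eq_zero _ (N.T₁.V'.mul_mem hv (N.T₁.V'.inv_mem (hzD s))), hZ', Subgroup.mem_bot] at h1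
    have h3 := Subtype.ext (p := fun g => g ∈ N.T₁.V) (a1 := v * ((z s).1)⁻¹) (a2 := 1) h1
    exact mul_inv_eq_one.1 h3
  -- names in `G`
  let X : F → G := fun a => (x a : G)
  let Y : F → G := fun a => (y a : G)
  let Z : F → G := fun a => ((z a : ↥N.T₁.V) : G)
  have hX : ∀ a b, X (a + b) = X a * X b := fun a b => congrArg Subtype.val (hx a b)
  have hY : ∀ a b, Y (a + b) = Y a * Y b := fun a b => congrArg Subtype.val (hy a b)
  have hZa : ∀ a b, Z (a + b) = Z a * Z b := fun a b =>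
    congrArg (fun w : ↥D => ((w : ↥N.T₁.V) : G)) (hz a b)
  have hXZ : ∀ a b, X a * Z b = Z b * X a := fun a b => N.T₁.comm (x a).2 (z b).1.2
  have hYZ : ∀ a b, Y a * Z b = Z b * Y a := fun a b => N.T₁.comm' (y a).2 (hzD b)
  have hYX : ∀ a b, Y b * X a = Z (a * b) * X a * Y b := by
    intro a b
    have h1 := c.a_comm (x a) (y b)
    rw [hty, hbx, mul_comm] at h1
    have h2 := hinjD _ (Side.Crd.comm_mem (x a) (y b)).2 _ h1
    have h3 : Y b * X a * (Y b)⁻¹ * (X a)⁻¹ = Z (a * b) := congrArg Subtype.val h2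
    rw [← h3]
    group
  let f : Cfsg.Agent.SylowL.UT.UT 3 F →* G := MonoidHom.mk'
    (fun g => X (Cfsg.Agent.SylowL.UT.N g 0 1) * Y (Cfsg.Agent.SylowL.UT.N g 1 2) *
      Z (Cfsg.Agent.SylowL.UT.N g 0 2 - Cfsg.Agent.SylowL.UT.N g 0 1 * Cfsg.Agent.SylowL.UT.N g 1 2)) (by
    intro g k
    obtain ⟨a, b, e, rfl⟩ := TypeL3.exists_el g
    obtain ⟨a', b', e', rfl⟩ := TypeL3.exists_el k
    rw [TypeL3.el_mul]
    simp only [TypeL3.N_el]
    change X (a + a') * Y (b + b') * Z (e + e' + a * b' - (a + a') * (b + b')) =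
      X a * Y b * Z (e - a * b) * (X a' * Y b' * Z (e' - a' * b'))
    have e1 : e + e' + a * b' - (a + a') * (b + b') = a' * b + (e - a * b) + (e' - a' * b') := by
      have h2 := CharTwo.add_self_eq_zero (a' * b)
      linear_combination -h2
    rw [e1, hX, hY, hZa, hZa]
    calc X a * X a' * (Y b * Y b') * (Z (a' * b) * Z (e - a * b) * Z (e' - a' * b'))
        = X a * X a' * Y b * Y b' * Z (a' * b) * Z (e - a * b) * Z (e' - a' * b') := by group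
      _ = X a * X a' * Y b * (Y b' * Z (a' * b)) * Z (e - a * b) * Z (e' - a' * b') := by group
      _ = X a * X a' * (Y b * Z (a' * b)) * (Y b' * Z (e - a * b)) * Z (e' - a' * b') := by
          rw [hYZ b' (a' * b)]; group
      _ = X a * (X a' * Z (a' * b)) * Y b * Z (e - a * b) * Y b' * Z (e' - a' * b') := by
          rw [hYZ b (a' * b), hYZ b' (e - a * b)]; group
      _ = X a * (Z (a' * b) * X a' * Y b) * Z (e - a * b) * Y b' * Z (e' - a' * b') := by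
          rw [hXZ a' (a' * b)]; group
      _ = X a * (Y b * X a') * Z (e - a * b) * Y b' * Z (e' - a' * b') := by rw [hYX]
      _ = X a * Y b * (X a' * Z (e - a * b)) * Y b' * Z (e' - a' * b') := by group
      _ = _ := by rw [hXZ]; group)
  have hf : ∀ a b e, f (TypeL3.el a b e) = X a * Y b * Z (e - a * b) := by
    intro a b e
    change X _ * Y _ * Z _ = _
    simp only [TypeL3.N_el]
    rfl
  have hexZ : ∀ g ∈ N.T₁.V ⊓ N.T₁.V', ∃ s, g = Z s := fun g hg =>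
    ⟨_, congrArg Subtype.val (hinjD ⟨g, hg.1⟩ hg.2 _ rfl)⟩
  have hX0 : X 0 = 1 := by
    have := hX 0 0
    rw [add_zero] at this
    exact left_eq_mul.1 this
  have hY0 : Y 0 = 1 := by
    have := hY 0 0
    rw [add_zero] at this
    exact left_eq_mul.1 this
  have hXV : ∀ a, X a ∈ N.T₁.V := fun a => (x a).2
  have hYV : ∀ a, Y a ∈ N.T₁.V' := fun a => (y a).2
  have hZV : ∀ a, Z a ∈ N.T₁.V := fun a => (z a).1.2
  have hinj : Function.Injective f := by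
    rw [← MonoidHom.ker_eq_bot_iff, Subgroup.eq_bot_iff_forall]
    intro g hg
    obtain ⟨a, b, e, rfl⟩ := TypeL3.exists_el g
    rw [MonoidHom.mem_ker, hf] at hg
    have hb : b = 0 := by
      rw [← hty b, N.T₁.t_eq_zero]
      have h1 : Y b = (X a)⁻¹ * (Z (e - a * b))⁻¹ := by
        rw [eq_mul_inv_iff_mul_eq]
        exact eq_inv_of_mul_eq_one_right (by rw [← mul_assoc]; exact hg)
      change Y b ∈ N.T₁.V
      rw [h1]
      exact N.T₁.V.mul_mem (N.T₁.V.inv_mem (hXV a)) (N.T₁.V.inv_mem (hZV _))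
    subst hb
    rw [hY0, mul_one, mul_zero, sub_zero] at hg
    have ha : a = 0 := by
      rw [← hbx a, c.b_eq_zero]
      have h1 : X a = (Z e)⁻¹ := eq_inv_of_mul_eq_one_left hg
      change X a ∈ N.T₁.V'
      rw [h1]
      exact N.T₁.V'.inv_mem (hzD e)
    subst ha
    rw [hX0, one_mul] at hg
    have he : e = 0 := by
      rw [← haz e]
      have h1 : (z e).1 = 1 := Subtype.ext hg
      rw [h1]
      unfold Side.Crd.a
      rw [c.one]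
      rfl
    subst he
    exact TypeL3.el_zero
  have hrange : f.range = N.T₁.V ⊔ N.T₁.V' := by
    apply le_antisymm
    · rintro _ ⟨g, rfl⟩
      obtain ⟨a, b, e, rfl⟩ := TypeL3.exists_el g
      rw [hf]
      exact Subgroup.mul_mem _ (Subgroup.mul_mem _ (Subgroup.mem_sup_left (hXV a)) (Subgroup.mem_sup_right (hYV b)))
        (Subgroup.mem_sup_left (hZV _))
    · apply sup_le
      · intro v hv
        have h1 : v * (X (c.b ⟨v, hv⟩))⁻¹ ∈ N.T₁.V ⊓ N.T₁.V' := by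
          have h2 : v * (X (c.b ⟨v, hv⟩))⁻¹ ∈ N.T₁.V := N.T₁.V.mul_mem hv (N.T₁.V.inv_mem (hXV _))
          refine ⟨h2, ?_⟩
          have h3 := c.b_eq_zero (⟨v, hv⟩ * (x (c.b ⟨v, hv⟩))⁻¹)
          apply h3.1
          have h4 : c.b (x (c.b ⟨v, hv⟩))⁻¹ = - c.b ⟨v, hv⟩ := by
            have h5 := hbx (c.b ⟨v, hv⟩)
            unfold Side.Crd.b at h5 ⊢
            rw [c.inv, Pi.neg_apply, h5]
          rw [c.b_mul, h4, add_neg_cancel]
        obtain ⟨s, hs⟩ := hexZ _ h1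
        refine ⟨TypeL3.el (c.b ⟨v, hv⟩) 0 s, ?_⟩
        rw [hf, hY0, mul_one, mul_zero, sub_zero, hXZ, ← hs, inv_mul_cancel_right]
      · intro v hv
        have h1 : v * (Y (N.T₁.t ⟨v, hv⟩))⁻¹ ∈ N.T₁.V ⊓ N.T₁.V' := by
          have h2 : v * (Y (N.T₁.t ⟨v, hv⟩))⁻¹ ∈ N.T₁.V' := N.T₁.V'.mul_mem hv (N.T₁.V'.inv_mem (hYV _))
          refine ⟨?_, h2⟩
          have h3 := N.T₁.t_eq_zero (⟨v, hv⟩ * (y (N.T₁.t ⟨v, hv⟩))⁻¹)
          apply h3.1
          have h4 : N.T₁.t (y (N.T₁.t ⟨v, hv⟩))⁻¹ = - N.T₁.t ⟨v, hv⟩ := by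
            have h5 := hty (N.T₁.t ⟨v, hv⟩)
            have h6 := N.T₁.t_mul (y (N.T₁.t ⟨v, hv⟩)) (y (N.T₁.t ⟨v, hv⟩))⁻¹
            rw [mul_inv_cancel, (N.T₁.t_eq_zero 1).2 N.T₁.V.one_mem, h5] at h6
            exact (neg_eq_of_add_eq_zero_right h6.symm).symm
          rw [N.T₁.t_mul, h4, add_neg_cancel]
        obtain ⟨s, hs⟩ := hexZ _ h1
        refine ⟨TypeL3.el 0 (N.T₁.t ⟨v, hv⟩) s, ?_⟩
        rw [hf, hX0, one_mul, zero_mul, sub_zero, hYZ, ← hs, inv_mul_cancel_right]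
  exact ⟨((MonoidHom.ofInjective hinj).trans (MulEquiv.subgroupCongr hrange)).symm⟩

omit [Finite F] [CharP F 2] [Finite G] in
theorem m1 {g : G} (h : g ∈ N.T₁.V) : g ∈ N.T₂.V' := by rw [N.hV']; exact h

omit [Finite F] [CharP F 2] [Finite G] in
theorem m2 {g : G} (h : g ∈ N.T₁.V') : g ∈ N.T₂.V := by rw [N.hV]; exact h

omit [CharP F 2] [Finite G] in
theorem card_Z₂ : Nat.card ↥N.T₂.Z = Nat.card ↥N.T₁.Z := by
  have hD : Nat.card ↥(N.T₂.V ⊓ N.T₂.V') = Nat.card ↥(N.T₁.V ⊓ N.T₁.V') := by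
    rw [N.hV, N.hV', inf_comm]
  have h1 := N.T₁.card_Z
  have h2 := N.T₂.card_Z
  rw [hD, ← h1] at h2
  exact Nat.eq_of_mul_eq_mul_left Nat.card_pos h2

open Classical in
/-- extension of a function by zero -/
noncomputable def ext (H : Subgroup G) (f : ↥H → F) : G → F := fun g => if h : g ∈ H then f ⟨g, h⟩ else 0

omit [Finite F] [CharP F 2] [Finite G] in
theorem ext_eq {H : Subgroup G} {f : ↥H → F} {g : G} (h : g ∈ H) : ext H f g = f ⟨g, h⟩ := dif_pos h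

omit [Finite F] [CharP F 2] [Finite G] in
theorem ext_mul {H : Subgroup G} {f : ↥H → F} (hf : ∀ a b, f (a * b) = f a + f b) :
    ∀ g ∈ H, ∀ k ∈ H, ext H f (g * k) = ext H f g + ext H f k := by
  intro g hg k hk
  rw [ext_eq hg, ext_eq hk, ext_eq (H.mul_mem hg hk)]
  exact hf ⟨g, hg⟩ ⟨k, hk⟩

/-- type `Sp₄(q)` -/
theorem exists_halfC2 (hq : 4 ≤ Nat.card F) (hZ : Nat.card ↥N.T₁.Z = Nat.card F) :
    ∃ x y c d : F → G, Half.HalfC2 (N.T₁.V ⊔ N.T₁.V') N.T₁.V N.T₁.V' x y c d := by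
  obtain ⟨c₁⟩ := N.T₁.nonempty_crd hq
  obtain ⟨c₂⟩ := N.T₂.nonempty_crd hq
  have hle1 : N.T₂.V = N.T₁.V' := N.hV
  have hle2 : N.T₂.V' = N.T₁.V := N.hV'
  have hZ₁ : N.T₁.Z ≤ N.T₁.V ⊓ N.T₁.V' := le_inf N.T₁.Z_le N.T₁.Z_le'
  have hZ₂ : N.T₂.Z ≤ N.T₁.V ⊓ N.T₁.V' := by
    rw [← hle1, ← hle2]
    exact le_inf N.T₂.Z_le' N.T₂.Z_le
  refine EdgeAbs.Abs.main (V := N.T₁.V) (V' := N.T₁.V') (Z₁ := N.T₁.Z) (Z₂ := N.T₂.Z)
    (A₁ := ext N.T₁.V c₁.a) (B₁ := ext N.T₁.V c₁.b) (T₁ := ext N.T₁.V' N.T₁.t)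
    (A₂ := ext N.T₂.V c₂.a) (B₂ := ext N.T₂.V c₂.b) (T₂ := ext N.T₂.V' N.T₂.t)
    { sq := N.T₁.sq
      sq' := N.T₁.sq'
      A₁_mul := ext_mul c₁.a_mul
      B₁_mul := ext_mul c₁.b_mul
      T₁_mul := ext_mul N.T₁.t_mul
      A₂_mul := by rw [← hle1]; exact ext_mul c₂.a_mul
      B₂_mul := by rw [← hle1]; exact ext_mul c₂.b_mul
      T₂_mul := by rw [← hle2]; exact ext_mul N.T₂.t_mul
      B₁_zero := fun g hg => by rw [ext_eq hg]; exact c₁.b_eq_zero ⟨g, hg⟩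
      T₁_zero := fun g hg => by rw [ext_eq hg]; exact N.T₁.t_eq_zero ⟨g, hg⟩
      B₂_zero := fun g hg => by rw [ext_eq (m2 N hg), ← hle2]; exact c₂.b_eq_zero ⟨g, m2 N hg⟩
      T₂_zero := fun g hg => by rw [ext_eq (m1 N hg), ← hle1]; exact N.T₂.t_eq_zero ⟨g, m1 N hg⟩
      A₁_zero := fun g hg => by rw [ext_eq hg.1]; exact c₁.a_eq_zero ⟨g, hg.1⟩ hg.2
      A₂_zero := fun g hg => by rw [ext_eq (m2 N hg.2)]; exact c₂.a_eq_zero ⟨g, m2 N hg.2⟩ (m1 N hg.1)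
      comm := ?_
      B₁_surj := fun s => by
        obtain ⟨v, hv⟩ := c₁.b_surj s
        exact ⟨v, v.2, by rw [ext_eq v.2]; exact hv⟩
      T₁_surj := fun s => by
        obtain ⟨v, hv⟩ := N.T₁.t_surj s
        exact ⟨v, v.2, by rw [ext_eq v.2]; exact hv⟩
      Z₁_le := hZ₁
      Z₂_le := hZ₂
      disj := N.disj
      card₁ := hZ
      card₂ := (card_Z₂ N).trans hZ
      torus := ?_ } hq
  · intro v hv k hk
    have hw : k * v * k⁻¹ * v⁻¹ ∈ N.T₁.V ⊓ N.T₁.V' := Side.Crd.comm_mem (T := N.T₁) ⟨v, hv⟩ ⟨k, hk⟩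
    have h2 : k * v * k⁻¹ * v⁻¹ = v * k * v⁻¹ * k⁻¹ := by
      have h3 : (k * v * k⁻¹ * v⁻¹)⁻¹ = k * v * k⁻¹ * v⁻¹ := inv_eq_of_mul_eq_one_left (N.T₁.sq _ hw.1)
      rw [← h3]
      group
    refine ⟨hw, ?_, ?_⟩
    · rw [ext_eq hw.1, ext_eq hk, ext_eq hv]
      exact c₁.a_comm ⟨v, hv⟩ ⟨k, hk⟩
    · have h1 := c₂.a_comm ⟨k, m2 N hk⟩ ⟨v, m1 N hv⟩
      rw [h2] at hw
      rw [h2, ext_eq (m2 N hw.2), ext_eq (m1 N hv), ext_eq (m2 N hk)]
      exact h1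
  · intro l
    obtain ⟨h, hh, hl, hV, hV', hZZ⟩ := N.exists_torus' hq l
    refine ⟨h, ?_, ?_, hZZ, ?_⟩
    · intro v hv
      refine ⟨hV v hv, ?_⟩
      rw [ext_eq (hV v hv), ext_eq hv]
      exact (c₁.conj_torus hh hl ⟨v, hv⟩ (hV v hv)).2
    · intro k hk
      refine ⟨hV' k hk, ?_⟩
      rw [ext_eq (hV' k hk), ext_eq hk]
      exact Side.t_torus hh hl ⟨k, hk⟩ (hV' k hk)
    · intro z hz
      rw [(N.T₁.mem_Z.1 hz).2 h hh, mul_inv_cancel_right]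

end NEdge

/-- **Coordinates.** The Sylow 2-subgroup of a group with one edge is of type `L₃(q)` or of type `Sp₄(q)`. -/
theorem coord [Finite F] [CharP F 2] [Finite G] (hq : 4 ≤ Nat.card F) (A : Edge F G) :
    Nonempty (↥(A.E₁ ⊔ A.E₂) ≃* Cfsg.Agent.SylowL.UT.UT 3 F) ∨
      ∃ x y c d : F → G, Half.HalfC2 (A.E₁ ⊔ A.E₂) A.E₁ A.E₂ x y c d := by
  obtain ⟨N, h1, h2⟩ := A.exists_nedge
  rcases NEdge.card_Z N hq with h | h
  · left
    have := NEdge.exists_equiv_UT N hq h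
    rwa [h1, h2] at this
  · right
    have := NEdge.exists_halfC2 N hq h
    rwa [h1, h2] at this

end Cfsg.Agent.ClassTwo.EdgeCoord
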