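/-
COORD of S1170: from `OneEdge` with `A = S` a Sylow 2-subgroup to the coordinates of type `L₃(q)` or `Sp₄(q)`.
-/
import Mathlib
import Cfsg.Agent.ClassTwo.EdgeCoord
import Cfsg.Agent.ClassTwoFusion.OneEdge

set_option autoImplicit false

namespace Cfsg.Agent.ClassTwo.EdgeMain

open Subgroup Cfsg.Agent.ClassTwo.EdgeTorus
open Cfsg.Agent.TwoFusion.ClosedFam Cfsg.Agent.ClassTwoFusion.RelAlperin Cfsg.Agent.ClassTwoFusion.OneEdge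
open Cfsg.Agent.TypeSpFour

universe v w

variable {F : Type w} {G : Type v} [Field F] [Group G]

theorem charP_two [Finite F] {n : ℕ} (h : Nat.card F ∣ 2 ^ n) (h1 : 1 < Nat.card F) : CharP F 2 := by
  obtain ⟨p, hp⟩ := CharP.exists F
  have := Fintype.ofFinite F
  obtain ⟨k, hpp, hk⟩ := FiniteField.card F p
  rw [← Nat.card_eq_fintype_card] at hk
  have h2 : p ∣ 2 ^ n := (dvd_pow_self p k.2.ne').trans (hk ▸ h)
  have h3 : p = 2 := (Nat.prime_dvd_prime_iff_eq hpp Nat.prime_two).1 (hpp.dvd_of_dvd_pow h2)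
  rw [← h3]
  exact hp

/-- the `Edge` of a `OneEdge` -/
def edge [Finite G] {𝒜 : Set G} (h𝒜 : IsClosedFam 𝒜) (S : Sylow 2 G) {E₁ E₂ : Subgroup G}
    (h : OneEdge F 𝒜 (S : Subgroup G) E₁ E₂)
    (nor₁ : (S : Subgroup G) ≤ normalizer (E₁ : Set G)) (nor₂ : (S : Subgroup G) ≤ normalizer (E₂ : Set G)) :
    Edge F G where
  E₁ := E₁
  E₂ := E₂
  X₁ := XG 𝒜 E₁
  X₂ := XG 𝒜 E₂
  φ₁ := h.φ₁
  φ₂ := h.φ₂
  surj₁ := h.surj₁
  surj₂ := h.surj₂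
  ker₁ := h.ker₁
  ker₂ := h.ker₂
  E₁_le_X₁ := fun _ hx =>
    mem_fam (h.syl.sub _ (h.sup.le (mem_sup_left hx))) (nor₁ (h.sup.le (mem_sup_left hx)))
  E₂_le_X₁ := fun _ hx =>
    mem_fam (h.syl.sub _ (h.sup.le (mem_sup_right hx))) (nor₁ (h.sup.le (mem_sup_right hx)))
  E₁_le_X₂ := fun _ hx =>
    mem_fam (h.syl.sub _ (h.sup.le (mem_sup_left hx))) (nor₂ (h.sup.le (mem_sup_left hx)))
  E₂_le_X₂ := fun _ hx =>
    mem_fam (h.syl.sub _ (h.sup.le (mem_sup_right hx))) (nor₂ (h.sup.le (mem_sup_right hx)))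
  X₁_le := fam_le _ _
  X₂_le := fam_le _ _
  norm₁ := fun g hg x hx => h𝒜.conj_mem_fam (fun y hy => mul_mem (mul_mem hg hy) (inv_mem hg)) hx
  norm₂ := fun g hg x hx => h𝒜.conj_mem_fam (fun y hy => mul_mem (mul_mem hg hy) (inv_mem hg)) hx
  sq₁ := h.sq₁
  sq₂ := h.sq₂
  cent₁ := fun _ hx hc => h.cent₁ ⟨hc, h.sup.le (mem_sup_right hx)⟩
  cent₂ := fun _ hx hc => h.cent₂ ⟨hc, h.sup.le (mem_sup_left hx)⟩
  card₁ := h.card₁
  card₂ := h.card₂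
  cardC₁ := h.cardC₁
  cardC₂ := h.cardC₂
  disj := h.disj
  syl := ⟨S, h.sup.symm⟩

/-- **COORD.** -/
theorem coord [Finite G] (hq : 4 ≤ Nat.card F) {𝒜 : Set G} (h𝒜 : IsClosedFam 𝒜) (S : Sylow 2 G)
    {E₁ E₂ : Subgroup G} (h : OneEdge F 𝒜 (S : Subgroup G) E₁ E₂)
    (nor₁ : (S : Subgroup G) ≤ normalizer (E₁ : Set G)) (nor₂ : (S : Subgroup G) ≤ normalizer (E₂ : Set G)) :
    CharP F 2 ∧ (Nonempty (↥(S : Subgroup G) ≃* Cfsg.Agent.SylowL.UT.UT 3 F) ∨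
      ∃ x y c d : F → G, Half.HalfC2 (S : Subgroup G) E₁ E₂ x y c d) := by
  have hfin : Finite F := Nat.finite_of_card_ne_zero (by omega)
  have hchar : CharP F 2 := by
    obtain ⟨n, hn⟩ := IsPGroup.iff_card.1 (S.isPGroup'.to_le (h.sup.le.trans' (le_sup_left : E₁ ≤ _)))
    refine charP_two (n := n) ?_ (by omega)
    rw [← hn, h.card₁]
    exact dvd_mul_right _ _
  refine ⟨hchar, ?_⟩
  have h1 := EdgeCoord.coord hq (edge h𝒜 S h nor₁ nor₂)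
  have h2 : (edge h𝒜 S h nor₁ nor₂).E₁ ⊔ (edge h𝒜 S h nor₁ nor₂).E₂ = (S : Subgroup G) := h.sup
  rw [h2] at h1
  exact h1

end Cfsg.Agent.ClassTwo.EdgeMain
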