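/-
The fusion of involutions and the strongly embedded argument: `⟨X₁, X₂⟩` is normal in `G`.
-/
import Mathlib
import Cfsg.Agent.ClassTwo.Sp4Torus
import Cfsg.Agent.S0223
import Cfsg.Agent.TwoFusion.StronglyEmbeddedBasic

set_option autoImplicit false

namespace Cfsg.Agent.ClassTwo.Sp4Fusion

open Cfsg.Agent.ClassTwo.Sp4Defs Cfsg.Agent.ClassTwo.Sp4Side Cfsg.Agent.ClassTwo.Sp4Torus
open Matrix (SpecialLinearGroup)
open scoped Matrix

section Gen

variable {G : Type*} [Group G] [Finite G]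

/-- two Sylow subgroups contained in `K` are conjugate in `K` -/
theorem exists_smul {K : Subgroup G} {P Q : Sylow 2 G} (hP : (P : Subgroup G) ≤ K) (hQ : (Q : Subgroup G) ≤ K) :
    ∃ k ∈ K, k • P = Q := by
  obtain ⟨k, hk⟩ := MulAction.exists_smul_eq (↥K) (P.subtype hP) (Q.subtype hQ)
  rw [Sylow.smul_subtype] at hk
  exact ⟨k, k.2, Sylow.subtype_injective hk⟩

omit [Finite G] in
theorem mem_smul {P : Sylow 2 G} {g x : G} : x ∈ g • P ↔ g⁻¹ * x * g ∈ P := by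
  change x ∈ ((g • P : Sylow 2 G) : Subgroup G) ↔ _
  rw [Sylow.coe_subgroup_smul, Subgroup.mem_pointwise_smul_iff_inv_smul_mem, ← map_inv, MulAut.smul_def,
    MulAut.conj_apply, inv_inv]
  rfl

/-- If `P ≤ K` and `gPg⁻¹ ≤ K`, then `g = k⁻¹ n` with `k ∈ K`, `n ∈ N(P)`. -/
theorem exists_normalizer {K : Subgroup G} {P : Sylow 2 G} (hP : (P : Subgroup G) ≤ K) {g : G}
    (hg : ∀ x ∈ P, g * x * g⁻¹ ∈ K) :
    ∃ k ∈ K, k * g ∈ Subgroup.normalizer ((P : Subgroup G) : Set G) := by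
  have h1 : ((g • P : Sylow 2 G) : Subgroup G) ≤ K := by
    intro x hx
    have hx' : g⁻¹ * x * g ∈ P := mem_smul.1 hx
    have := hg _ hx'
    have h2 : g * (g⁻¹ * x * g) * g⁻¹ = x := by group
    rwa [h2] at this
  obtain ⟨k, hk, hkP⟩ := exists_smul h1 hP
  refine ⟨k, hk, ?_⟩
  rw [← mul_smul, Sylow.smul_eq_iff_mem_normalizer] at hkP
  exact hkP

/-- a `2`-element of `K` is `K`-conjugate into `P` -/
theorem exists_conj_mem {K : Subgroup G} {P : Sylow 2 G} (hP : (P : Subgroup G) ≤ K) {t : G} (ht : t ∈ K)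
    (h2 : t * t = 1) : ∃ k ∈ K, k * t * k⁻¹ ∈ P := by
  let t' : ↥K := ⟨t, ht⟩
  have h3 : IsPGroup 2 (Subgroup.zpowers t') := by
    rintro ⟨x, n, rfl⟩
    refine ⟨1, ?_⟩
    apply Subtype.ext
    change (t' ^ n) ^ 2 ^ 1 = 1
    rw [pow_one, ← zpow_natCast, ← zpow_mul, mul_comm, zpow_mul, zpow_natCast]
    have : t' ^ 2 = 1 := by
      apply Subtype.ext
      change t ^ 2 = 1
      rw [pow_two, h2]
    rw [this, one_zpow]
  obtain ⟨Q, hQ⟩ := h3.exists_le_sylow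
  obtain ⟨k, hk⟩ := MulAction.exists_smul_eq (↥K) Q (P.subtype hP)
  refine ⟨k, k.2, ?_⟩
  have h4 : t' ∈ Q := hQ (Subgroup.mem_zpowers t')
  have h5 : k * t' * k⁻¹ ∈ k • Q := by
    change _ ∈ ((k • Q : Sylow 2 ↥K) : Subgroup ↥K)
    rw [Sylow.coe_subgroup_smul, Subgroup.mem_pointwise_smul_iff_inv_smul_mem, ← map_inv, MulAut.smul_def,
      MulAut.conj_apply, inv_inv]
    have : k⁻¹ * (k * t' * k⁻¹) * k = t' := by group
    rw [this]
    exact h4
  rw [hk] at h5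
  exact h5

end Gen

variable {F G : Type*} [Field F] [Group G]

namespace NAm

open Cfsg.Agent.ClassTwo.Sp4Torus.NAm

variable (A : NAm F G)

theorem V₁_le_S : A.V₁ ≤ A.S := le_sup_left

theorem V₂_le_S : A.V₂ ≤ A.S := le_sup_right

theorem V₁_ne_V₂ [Finite F] : A.V₁ ≠ A.V₂ := by
  intro h
  obtain ⟨x, hx, hx'⟩ := Side.exists_not_mem_V (T := A.side₁)
  apply hx'
  change x ∈ A.V₁
  rw [h]
  exact hx

/-- elementary abelian subgroups of order `q³` of `S` -/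
theorem eq_of_le_S [Finite F] [CharP F 2] [Finite G] (hq : 4 ≤ Nat.card F) {W : Subgroup G} (hW : W ≤ A.S)
    (hcard : Nat.card W = Nat.card F ^ 3) (hsq : ∀ x ∈ W, x * x = 1) : W = A.V₁ ∨ W = A.V₂ := by
  obtain ⟨c⟩ := A.side₁.nonempty_crd hq
  have h1 : (W : Set G) ⊆ (A.V₁ : Set G) ∪ (A.V₂ : Set G) := by
    intro x hx
    exact Side.inv_mem (T := A.side₁) c (hW hx) (hsq x hx)
  rcases SubgroupClass.subset_union.1 h1 with h | h
  · left
    exact Subgroup.eq_of_le_of_card_ge h (by rw [A.card₁, hcard])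
  · right
    exact Subgroup.eq_of_le_of_card_ge h (by rw [A.card₂, hcard])


/-- the conjugate of a subgroup -/
theorem card_map_conj (V : Subgroup G) (g : G) :
    Nat.card ↥(V.map (MulAut.conj g).toMonoidHom) = Nat.card ↥V :=
  Nat.card_congr (V.equivMapOfInjective _ (MulAut.conj g).injective).toEquiv.symm

theorem mem_map_conj {V : Subgroup G} {g x : G} : x ∈ V.map (MulAut.conj g).toMonoidHom ↔ g⁻¹ * x * g ∈ V := by
  rw [Subgroup.mem_map]
  constructor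
  · rintro ⟨y, hy, rfl⟩
    have : g⁻¹ * ((MulAut.conj g).toMonoidHom y) * g = y := by
      change g⁻¹ * (g * y * g⁻¹) * g = y
      group
    rw [this]
    exact hy
  · intro h
    refine ⟨_, h, ?_⟩
    change g * (g⁻¹ * x * g) * g⁻¹ = x
    group

/-- an element normalising `S` permutes `{V₁, V₂}` -/
theorem map_eq [Finite F] [CharP F 2] [Finite G] (hq : 4 ≤ Nat.card F) {n : G}
    (hn : n ∈ Subgroup.normalizer (A.S : Set G)) {V : Subgroup G} (hV : V = A.V₁ ∨ V = A.V₂) :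
    V.map (MulAut.conj n).toMonoidHom = A.V₁ ∨ V.map (MulAut.conj n).toMonoidHom = A.V₂ := by
  have hS : V ≤ A.S := by rcases hV with rfl | rfl; exacts [V₁_le_S A, V₂_le_S A]
  have hc : Nat.card V = Nat.card F ^ 3 := by rcases hV with rfl | rfl; exacts [A.card₁, A.card₂]
  have hs : ∀ x ∈ V, x * x = 1 := by rcases hV with rfl | rfl; exacts [A.sq₁, A.sq₂]
  apply eq_of_le_S A hq
  · rintro _ ⟨x, hx, rfl⟩
    exact (Subgroup.mem_normalizer_iff.1 hn x).1 (hS hx)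
  · rw [card_map_conj, hc]
  · rintro _ ⟨x, hx, rfl⟩
    rw [← map_mul, hs x hx, map_one]

theorem mem_normalizer_iff_map {V : Subgroup G} {n : G} :
    n ∈ Subgroup.normalizer (V : Set G) ↔ V.map (MulAut.conj n).toMonoidHom = V := by
  rw [Subgroup.mem_normalizer_iff'']
  constructor
  · intro h
    ext x
    rw [mem_map_conj]
    exact (h x).symm
  · intro h x
    rw [← mem_map_conj, h]

/-- `N(S)` normalises `V₁` -/
theorem normalizer_le [Finite F] [CharP F 2] [Finite G] (hq : 4 ≤ Nat.card F) (S : Sylow 2 G)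
    (hS : (S : Subgroup G) = A.S) :
    Subgroup.normalizer (A.S : Set G) ≤ Subgroup.normalizer (A.V₁ : Set G) := by
  intro n hn
  rcases map_eq A hq hn (Or.inl rfl) with h | h
  · exact mem_normalizer_iff_map.2 h
  exfalso
  -- `n` swaps `V₁` and `V₂`
  have h' : A.V₂.map (MulAut.conj n).toMonoidHom = A.V₁ := by
    rcases map_eq A hq hn (Or.inr rfl) with h2 | h2
    · exact h2
    · exfalso
      apply V₁_ne_V₂ A
      exact Subgroup.map_injective (f := (MulAut.conj n).toMonoidHom) (MulAut.conj n).injective (h.trans h2.symm)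
  have hsq : ∀ k : ℕ, A.V₁.map (MulAut.conj (n ^ (2 * k + 1))).toMonoidHom = A.V₂ := by
    intro k
    induction k with
    | zero => simpa using h
    | succ k ih =>
      have h3 : (MulAut.conj (n ^ (2 * (k + 1) + 1))).toMonoidHom
          = ((MulAut.conj n).toMonoidHom.comp (MulAut.conj n).toMonoidHom).comp
            (MulAut.conj (n ^ (2 * k + 1))).toMonoidHom := by
        ext x
        have : n ^ (2 * (k + 1) + 1) = n * n * n ^ (2 * k + 1) := by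
          rw [← pow_two, ← pow_add]
          congr 1
          ring
        change n ^ (2 * (k + 1) + 1) * x * (n ^ (2 * (k + 1) + 1))⁻¹ = n * (n * (n ^ (2 * k + 1) * x * (n ^ (2 * k + 1))⁻¹) * n⁻¹) * n⁻¹
        rw [this]
        group
      rw [h3, ← Subgroup.map_map, ih, ← Subgroup.map_map, h', h]
  -- an odd power of `n` is a `2`-element
  obtain ⟨a, m, hm, hord⟩ : ∃ a m : ℕ, Odd m ∧ orderOf n = 2 ^ a * m := by
    obtain ⟨a, m, hm, h1⟩ := Nat.exists_eq_two_pow_mul_odd (orderOf_pos n).ne'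
    exact ⟨a, m, hm, h1⟩
  obtain ⟨k, hk⟩ := hm
  have h1 : IsPGroup 2 (Subgroup.zpowers (n ^ m)) := by
    rintro ⟨x, j, rfl⟩
    refine ⟨a, ?_⟩
    apply Subtype.ext
    change ((n ^ m) ^ j) ^ 2 ^ a = 1
    rw [← zpow_natCast, ← zpow_mul, mul_comm j, zpow_mul, zpow_natCast, ← pow_mul, mul_comm m, ← hord,
      pow_orderOf_eq_one, one_zpow]
  have h2 := h1.inf_normalizer_sylow S
  have hnm : n ^ m ∈ Subgroup.normalizer (A.S : Set G) := Subgroup.pow_mem _ hn _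
  have h3 : n ^ m ∈ A.S := by
    have : n ^ m ∈ Subgroup.zpowers (n ^ m) ⊓ Subgroup.normalizer (S : Set G) := by
      refine ⟨Subgroup.mem_zpowers _, ?_⟩
      change n ^ m ∈ Subgroup.normalizer ((S : Subgroup G) : Set G)
      rw [hS]
      exact hnm
    rw [h2] at this
    rw [← hS]
    exact this.2
  have h4 : n ^ m ∈ Subgroup.normalizer (A.V₁ : Set G) := A.side₁.le_normalizer (A.S_le₁ h3)
  rw [mem_normalizer_iff_map, hk, hsq] at h4
  exact V₁_ne_V₂ A h4.symm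

theorem normalizer_le₂ [Finite F] [CharP F 2] [Finite G] (hq : 4 ≤ Nat.card F) (S : Sylow 2 G)
    (hS : (S : Subgroup G) = A.S) :
    Subgroup.normalizer (A.S : Set G) ≤ Subgroup.normalizer (A.V₂ : Set G) := by
  have := normalizer_le A.swap hq S (by rw [hS, swap_S])
  rwa [swap_S] at this

/-- `N(V₁) ∩ N(V₂)` normalises `⟨X₁, X₂⟩` -/
theorem inf_le : Subgroup.normalizer (A.V₁ : Set G) ⊓ Subgroup.normalizer (A.V₂ : Set G) ≤
    Subgroup.normalizer ((A.X₁ ⊔ A.X₂ : Subgroup G) : Set G) := by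
  have key : ∀ g ∈ Subgroup.normalizer (A.V₁ : Set G) ⊓ Subgroup.normalizer (A.V₂ : Set G),
      ∀ x ∈ A.X₁ ⊔ A.X₂, g * x * g⁻¹ ∈ A.X₁ ⊔ A.X₂ := by
    intro g hg x hx
    have h1 : A.X₁ ⊔ A.X₂ ≤ (A.X₁ ⊔ A.X₂).comap (MulAut.conj g).toMonoidHom := by
      refine sup_le ?_ ?_
      · intro y hy
        exact Subgroup.mem_sup_left (A.norm₁ g hg.1 y hy)
      · intro y hy
        exact Subgroup.mem_sup_right (A.norm₂ g hg.2 y hy)
    exact h1 hx
  intro g hg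
  rw [Subgroup.mem_normalizer_iff]
  intro x
  constructor
  · exact key g hg x
  · intro h
    have := key g⁻¹ (Subgroup.inv_mem _ hg) _ h
    have h2 : g⁻¹ * (g * x * g⁻¹) * g⁻¹⁻¹ = x := by group
    rwa [h2] at this

/-- the subgroup which will be shown to be everything -/
def M : Subgroup G := Subgroup.normalizer ((A.X₁ ⊔ A.X₂ : Subgroup G) : Set G)

theorem M_def : M A = Subgroup.normalizer ((A.X₁ ⊔ A.X₂ : Subgroup G) : Set G) := rfl

theorem swap_M : M A.swap = M A := by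
  unfold M
  congr 2
  exact sup_comm _ _

theorem X₁_le_M : A.X₁ ≤ M A := le_sup_left.trans Subgroup.le_normalizer

theorem X₂_le_M : A.X₂ ≤ M A := le_sup_right.trans Subgroup.le_normalizer

theorem S_le_M : A.S ≤ M A := A.S_le₁.trans (X₁_le_M A)

theorem NS_le_M [Finite F] [CharP F 2] [Finite G] (hq : 4 ≤ Nat.card F) (S : Sylow 2 G)
    (hS : (S : Subgroup G) = A.S) : Subgroup.normalizer (A.S : Set G) ≤ M A :=
  (le_inf (normalizer_le A hq S hS) (normalizer_le₂ A hq S hS)).trans (inf_le A)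

/-- Frattini argument -/
theorem NV₁_le_M [Finite F] [CharP F 2] [Finite G] (hq : 4 ≤ Nat.card F) (S : Sylow 2 G)
    (hS : (S : Subgroup G) = A.S) : Subgroup.normalizer (A.V₁ : Set G) ≤ M A := by
  intro g hg
  obtain ⟨k, hk, hkg⟩ := exists_normalizer (K := A.X₁) (P := S) (by rw [hS]; exact A.S_le₁) (g := g) (by
    intro x hx
    apply A.norm₁ g hg
    apply A.S_le₁
    rw [← hS]
    exact hx)
  rw [hS] at hkg
  have h1 := NS_le_M A hq S hS hkg
  have h2 := (M A).mul_mem ((M A).inv_mem (X₁_le_M A hk)) h1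
  simpa using h2

theorem NV₂_le_M [Finite F] [CharP F 2] [Finite G] (hq : 4 ≤ Nat.card F) (S : Sylow 2 G)
    (hS : (S : Subgroup G) = A.S) : Subgroup.normalizer (A.V₂ : Set G) ≤ M A := by
  have := NV₁_le_M A.swap hq S (by rw [hS, swap_S])
  rwa [swap_M] at this

/-- every element of `V₁` is `X₁`-conjugate into `V₂` -/
theorem exists_conj₁ [Finite F] [CharP F 2] [Finite G] (hq : 4 ≤ Nat.card F) {v : G} (hv : v ∈ A.V₁) :
    ∃ x ∈ A.X₁, x * v * x⁻¹ ∈ A.V₁ ⊓ A.V₂ := by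
  obtain ⟨c⟩ := A.side₁.nonempty_crd hq
  by_cases h0 : c.e ⟨v, hv⟩ = 0
  · refine ⟨1, A.X₁.one_mem, ?_⟩
    have h1 : v ∈ A.side₁.Z := (c.eq_zero _).1 h0
    rw [one_mul, inv_one, mul_one]
    exact ⟨hv, A.side₁.Z_le' h1⟩
  · obtain ⟨g, hg⟩ := Sp4SL2.exists_map_e0 (c.e ⟨v, hv⟩) h0
    obtain ⟨⟨x, hx⟩, hxg⟩ := A.side₁.surj g
    have h1 : x * v * x⁻¹ ∈ A.side₁.V := A.side₁.conj_mem hx hv
    refine ⟨x, hx, h1, ?_⟩
    apply c.mem_V' h1
    rw [c.conj hx hv, hxg, hg]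
    rfl

theorem exists_conj₂ [Finite F] [CharP F 2] [Finite G] (hq : 4 ≤ Nat.card F) {v : G} (hv : v ∈ A.V₂) :
    ∃ x ∈ A.X₂, x * v * x⁻¹ ∈ A.V₁ ⊓ A.V₂ := by
  obtain ⟨x, hx, h⟩ := exists_conj₁ A.swap hq hv
  exact ⟨x, hx, h.2, h.1⟩

theorem exists_conj [Finite F] [CharP F 2] [Finite G] (hq : 4 ≤ Nat.card F) (S : Sylow 2 G)
    (hS : (S : Subgroup G) = A.S) {t : G} (ht : t ∈ M A) (h2 : t * t = 1) :
    ∃ m ∈ M A, m * t * m⁻¹ ∈ A.V₁ ⊓ A.V₂ := by
  obtain ⟨k, hk, hkt⟩ := exists_conj_mem (K := M A) (P := S) (by rw [hS]; exact S_le_M A) ht h2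
  have hkt' : k * t * k⁻¹ ∈ A.S := by rw [← hS]; exact hkt
  obtain ⟨c⟩ := A.side₁.nonempty_crd hq
  have hsq : k * t * k⁻¹ * (k * t * k⁻¹) = 1 := by
    have : k * t * k⁻¹ * (k * t * k⁻¹) = k * (t * t) * k⁻¹ := by group
    rw [this, h2, mul_one, mul_inv_cancel]
  have : ∃ x ∈ M A, x * (k * t * k⁻¹) * x⁻¹ ∈ A.V₁ ⊓ A.V₂ := by
    rcases Side.inv_mem (T := A.side₁) c hkt' hsq with h | h
    · obtain ⟨x, hx, hx2⟩ := exists_conj₁ A hq h
      exact ⟨x, X₁_le_M A hx, hx2⟩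
    · obtain ⟨x, hx, hx2⟩ := exists_conj₂ A hq h
      exact ⟨x, X₂_le_M A hx, hx2⟩
  obtain ⟨x, hx, hx2⟩ := this
  refine ⟨x * k, (M A).mul_mem hx hk, ?_⟩
  have h3 : x * k * t * (x * k)⁻¹ = x * (k * t * k⁻¹) * x⁻¹ := by group
  rwa [h3]

/-- `S` centralises `V₁ ∩ V₂` -/
theorem S_le_centralizer {z : G} (hz : z ∈ A.V₁ ⊓ A.V₂) : A.S ≤ Subgroup.centralizer ({z} : Set G) := by
  refine sup_le ?_ ?_
  · intro x hx
    rw [Subgroup.mem_centralizer_singleton_iff]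
    exact Side.mul_comm_of_sq A.sq₁ hx hz.1
  · intro x hx
    rw [Subgroup.mem_centralizer_singleton_iff]
    exact Side.mul_comm_of_sq A.sq₂ hx hz.2

variable (hc : ∀ z ∈ A.V₁ ⊓ A.V₂, z ≠ 1 → Subgroup.centralizer ({z} : Set G) ≤ Subgroup.normalizer (A.V₁ : Set G) ∨
    Subgroup.centralizer ({z} : Set G) ≤ Subgroup.normalizer (A.V₂ : Set G))

include hc

theorem C_le_M [Finite F] [CharP F 2] [Finite G] (hq : 4 ≤ Nat.card F) (S : Sylow 2 G)
    (hS : (S : Subgroup G) = A.S) {z : G} (hz : z ∈ A.V₁ ⊓ A.V₂) (hz1 : z ≠ 1) :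
    Subgroup.centralizer ({z} : Set G) ≤ M A := by
  rcases hc z hz hz1 with h | h
  · exact h.trans (NV₁_le_M A hq S hS)
  · exact h.trans (NV₂_le_M A hq S hS)

/-- fusion in `V₁ ∩ V₂` is controlled by `N(S)` -/
theorem fusion [Finite F] [CharP F 2] [Finite G] (hq : 4 ≤ Nat.card F) (S : Sylow 2 G)
    (hS : (S : Subgroup G) = A.S) {z z' g : G} (hz : z ∈ A.V₁ ⊓ A.V₂) (hz' : z' ∈ A.V₁ ⊓ A.V₂) (hz1 : z' ≠ 1)
    (h : g * z * g⁻¹ = z') :
    g ∈ M A ∧ ∃ n ∈ Subgroup.normalizer (A.S : Set G), n * z * n⁻¹ = z' := by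
  obtain ⟨k, hk, hkg⟩ := exists_normalizer (K := Subgroup.centralizer ({z'} : Set G)) (P := S) (by
    rw [hS]; exact S_le_centralizer A hz') (g := g) (by
    intro x hx
    have hx' : x ∈ A.S := by rw [← hS]; exact hx
    have h1 := S_le_centralizer A hz hx'
    rw [Subgroup.mem_centralizer_singleton_iff] at h1 ⊢
    rw [← h]
    calc g * x * g⁻¹ * (g * z * g⁻¹) = g * (x * z) * g⁻¹ := by group
      _ = g * (z * x) * g⁻¹ := by rw [h1]
      _ = _ := by group)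
  rw [hS] at hkg
  refine ⟨?_, k * g, hkg, ?_⟩
  · have h1 := NS_le_M A hq S hS hkg
    have h2 := (M A).mul_mem ((M A).inv_mem (C_le_M A hc hq S hS hz' hz1 hk)) h1
    simpa using h2
  · rw [Subgroup.mem_centralizer_singleton_iff] at hk
    have : k * g * z * (k * g)⁻¹ = k * (g * z * g⁻¹) * k⁻¹ := by group
    rw [this, h, hk, mul_inv_cancel_right]

theorem M_eq_top [Finite F] [CharP F 2] [Finite G] (hq : 4 ≤ Nat.card F) (S : Sylow 2 G)
    (hS : (S : Subgroup G) = A.S) : M A = ⊤ := by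
  by_contra hM
  have hsq : ∀ t : G, orderOf t = 2 → t * t = 1 := fun t => TwoFusion.StronglyEmbeddedBasic.mul_self_of_orderOf
  obtain ⟨z₁, hz₁, hz₁1⟩ := Side.exists_mem_Z_ne (T := A.side₁) hq
  obtain ⟨z₂, hz₂, hz₂1⟩ := Side.exists_mem_Z_ne (T := A.side₂) hq
  have hd₁ : z₁ ∈ A.V₁ ⊓ A.V₂ := ⟨A.side₁.Z_le hz₁, A.side₁.Z_le' hz₁⟩
  have hd₂ : z₂ ∈ A.V₁ ⊓ A.V₂ := ⟨A.side₂.Z_le' hz₂, A.side₂.Z_le hz₂⟩
  have ho₁ : orderOf z₁ = 2 :=
    TwoFusion.StronglyEmbeddedBasic.orderOf_eq_two_of_mul_self (A.sq₁ _ hd₁.1) hz₁1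
  have hdisj : ∀ x, x ∈ A.side₁.Z → x ∈ A.side₂.Z → x = 1 := by
    intro x h1 h2
    have : x ∈ (⊥ : Subgroup G) := by
      rw [← A.disj]
      exact ⟨h1, h2⟩
    exact Subgroup.mem_bot.1 this
  have heven : Even (Nat.card ↥(M A)) := by
    have h1 : orderOf z₁ ∣ Nat.card ↥(M A) := Subgroup.orderOf_dvd_natCard _ (X₁_le_M A (A.V₁_le_X₁ hd₁.1))
    rw [ho₁] at h1
    exact even_iff_two_dvd.2 h1
  have hSE : IsStronglyEmbedded (M A) := by
    rw [S0223.result (M A) hM heven]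
    have hcen : ∀ t ∈ M A, orderOf t = 2 → Subgroup.centralizer ({t} : Set G) ≤ M A := by
      intro t ht h2
      obtain ⟨m, hm, hmt⟩ := exists_conj A hq S hS ht (hsq t h2)
      have hne : m * t * m⁻¹ ≠ 1 := by
        intro h
        rw [conj_eq_one_iff] at h
        rw [h, orderOf_one] at h2
        exact absurd h2 (by norm_num)
      have h3 := C_le_M A hc hq S hS hmt hne
      intro x hx
      have h4 : m * x * m⁻¹ ∈ M A := by
        apply h3
        rw [Subgroup.mem_centralizer_singleton_iff] at hx ⊢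
        calc m * x * m⁻¹ * (m * t * m⁻¹) = m * (x * t) * m⁻¹ := by group
          _ = m * (t * x) * m⁻¹ := by rw [hx]
          _ = _ := by group
      have h5 := (M A).mul_mem ((M A).mul_mem ((M A).inv_mem hm) h4) hm
      have h6 : m⁻¹ * (m * x * m⁻¹) * m = x := by group
      rwa [h6] at h5
    refine ⟨hcen, ?_⟩
    intro t ht s hs ht2 hs2 hts
    obtain ⟨g, hg⟩ := isConj_iff.1 hts
    obtain ⟨m, hm, hmt⟩ := exists_conj A hq S hS ht (hsq t ht2)
    obtain ⟨l, hl, hls⟩ := exists_conj A hq S hS hs (hsq s hs2)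
    have hne : l * s * l⁻¹ ≠ 1 := by
      intro h
      rw [conj_eq_one_iff] at h
      rw [h, orderOf_one] at hs2
      exact absurd hs2 (by norm_num)
    have h1 := (fusion A hc hq S hS (g := l * g * m⁻¹) hmt hls hne (by
      rw [← hg]; group)).1
    refine ⟨g, ?_, hg⟩
    have h5 := (M A).mul_mem ((M A).mul_mem ((M A).inv_mem hl) h1) hm
    have h6 : l⁻¹ * (l * g * m⁻¹) * m = g := by group
    rwa [h6] at h5
  have hmix : z₁ * z₂ ∈ A.V₁ ⊓ A.V₂ := Subgroup.mul_mem _ hd₁ hd₂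
  have hmix1 : z₁ * z₂ ≠ 1 := by
    intro h
    apply hz₂1
    apply hdisj z₂ _ hz₂
    rw [eq_inv_of_mul_eq_one_right h]
    exact Subgroup.inv_mem _ hz₁
  have ho : orderOf (z₁ * z₂) = 2 :=
    TwoFusion.StronglyEmbeddedBasic.orderOf_eq_two_of_mul_self (A.sq₁ _ hmix.1) hmix1
  obtain ⟨g, hg⟩ := isConj_iff.1 (TwoFusion.StronglyEmbeddedBasic.isConj_of_involutions hSE z₁ (z₁ * z₂) ho₁ ho)
  obtain ⟨-, n, hn, hnz⟩ := fusion A hc hq S hS hd₁ hmix hmix1 hg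
  have hn1 := normalizer_le A hq S hS hn
  have hmem : z₁ * z₂ ∈ A.side₁.Z := by
    rw [Side.mem_Z]
    refine ⟨hmix.1, fun y hy => ?_⟩
    rw [← hnz]
    have h1 : n⁻¹ * y * n ∈ A.X₁ := by
      have := A.norm₁ n⁻¹ (Subgroup.inv_mem _ hn1) y hy
      rwa [inv_inv] at this
    have h2 := (A.side₁.mem_Z.1 hz₁).2 _ h1
    calc y * (n * z₁ * n⁻¹) = n * (n⁻¹ * y * n * z₁) * n⁻¹ := by group
      _ = n * (z₁ * (n⁻¹ * y * n)) * n⁻¹ := by rw [h2]
      _ = _ := by group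
  apply hz₂1
  apply hdisj z₂ _ hz₂
  have := Subgroup.mul_mem _ (Subgroup.inv_mem _ hz₁) hmem
  rwa [inv_mul_cancel_left] at this

/-- **The fusion theorem**: `⟨X₁, X₂⟩` is normal in `G`. -/
theorem normal_sup [Finite F] [CharP F 2] [Finite G] (hq : 4 ≤ Nat.card F) (S : Sylow 2 G)
    (hS : (S : Subgroup G) = A.S) : (A.X₁ ⊔ A.X₂).Normal := by
  rw [← Subgroup.normalizer_eq_top_iff]
  exact M_eq_top A hc hq S hS

theorem sup_eq_top [Finite F] [CharP F 2] [Finite G] [IsSimpleGroup G] (hq : 4 ≤ Nat.card F) (S : Sylow 2 G)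
    (hS : (S : Subgroup G) = A.S) : A.X₁ ⊔ A.X₂ = ⊤ := by
  rcases (normal_sup A hc hq S hS).eq_bot_or_eq_top with h | h
  · exfalso
    obtain ⟨z₁, hz₁, hz₁1⟩ := Side.exists_mem_Z_ne (T := A.side₁) hq
    apply hz₁1
    have : z₁ ∈ A.X₁ ⊔ A.X₂ := Subgroup.mem_sup_left (A.V₁_le_X₁ (A.side₁.Z_le hz₁))
    rw [h] at this
    exact Subgroup.mem_bot.1 this
  · exact h

end NAm

end Cfsg.Agent.ClassTwo.Sp4Fusion
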